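import Mathlib

/-!
# Flat unramified algebras over Dedekind domains

Local rings of a Noetherian flat unramified (essentially of finite type) algebra over a Dedekind
domain are fields or discrete valuation rings; such an algebra is a finite product of Dedekind
domains.
-/

set_option autoImplicit false

namespace Groth.Agent.Lib.Helper86.EtaleDedekind

open IsLocalRing

universe u

section Local

variable {R : Type*} [CommRing R] [IsLocalRing R] [IsNoetherianRing R]

/-- In a Noetherian local ring with principal maximal ideal `(t)`, every nonzero element is a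
unit times a power of `t`. -/
theorem exists_eq_pow_mul_unit (t : R) (hm : maximalIdeal R = Ideal.span {t}) (x : R)
    (hx : x ≠ 0) : ∃ (n : ℕ) (u : R), IsUnit u ∧ x = t ^ n * u := by
  classical
  have hK : ⨅ i : ℕ, (maximalIdeal R) ^ i = ⊥ :=
    Ideal.iInf_pow_eq_bot_of_isLocalRing _ (IsLocalRing.maximalIdeal.isMaximal R).ne_top
  have hex : ∃ n : ℕ, x ∉ (maximalIdeal R) ^ n := by
    by_contra hcon
    push Not at hcon
    have : x ∈ ⨅ i : ℕ, (maximalIdeal R) ^ i := by
      rw [Ideal.mem_iInf]; exact hcon
    rw [hK] at this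
    exact hx this
  have hn0 : Nat.find hex ≠ 0 := by
    intro h0
    have := Nat.find_spec hex
    rw [h0, pow_zero, Ideal.one_eq_top] at this
    exact this Submodule.mem_top
  obtain ⟨n, hn⟩ := Nat.exists_eq_succ_of_ne_zero hn0
  have hmem : x ∈ (maximalIdeal R) ^ n := by
    by_contra hcon
    have := Nat.find_min' hex hcon
    omega
  have hnot : x ∉ (maximalIdeal R) ^ (n + 1) := by
    have := Nat.find_spec hex
    rwa [hn] at this
  rw [hm, Ideal.span_singleton_pow, Ideal.mem_span_singleton'] at hmem
  obtain ⟨u, hu⟩ := hmem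
  refine ⟨n, u, ?_, by rw [← hu, mul_comm]⟩
  by_contra hunit
  have hum : u ∈ maximalIdeal R := (IsLocalRing.mem_maximalIdeal _).mpr hunit
  apply hnot
  have htm : t ∈ maximalIdeal R := by rw [hm]; exact Ideal.mem_span_singleton_self _
  rw [pow_succ, ← hu, mul_comm u]
  exact Ideal.mul_mem_mul (Ideal.pow_mem_pow htm n) hum

/-- A Noetherian local ring whose maximal ideal is generated by a nonzerodivisor is a domain. -/
theorem isDomain_of_maximalIdeal_eq_span (t : R) (ht : t ∈ nonZeroDivisors R)
    (hm : maximalIdeal R = Ideal.span {t}) : IsDomain R := by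
  have : NoZeroDivisors R := by
    refine ⟨fun {x y} hxy => ?_⟩
    by_contra hcon
    push Not at hcon
    obtain ⟨a, u, hu, rfl⟩ := exists_eq_pow_mul_unit t hm x hcon.1
    obtain ⟨b, w, hw, rfl⟩ := exists_eq_pow_mul_unit t hm y hcon.2
    have h1 : t ^ (a + b) * (u * w) = 0 := by
      rw [← hxy, pow_add]; ring
    have h2 : u * w = 0 := by
      have := (pow_mem ht (a + b))
      rw [mul_comm] at h1
      exact (mem_nonZeroDivisors_iff.mp this).2 _ h1
    exact (hu.mul hw).ne_zero h2
  exact NoZeroDivisors.to_isDomain R

end Local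

section L2

variable (A : Type*) {C : Type*} [CommRing A] [IsDedekindDomain A] [CommRing C] [Algebra A C]
  [Algebra.EssFiniteType A C] [Algebra.FormallyUnramified A C] [Module.Flat A C]
  [IsNoetherianRing C]

include A

/-- The local rings of a Noetherian, flat, unramified algebra (essentially of finite type) over a
Dedekind domain are fields or discrete valuation rings. -/
theorem isField_or_dvr (P : Ideal C) [P.IsPrime] :
    IsField (Localization.AtPrime P) ∨
      ∃ _ : IsDomain (Localization.AtPrime P),
        IsDiscreteValuationRing (Localization.AtPrime P) := by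
  classical
  obtain ⟨p, hpdef⟩ : ∃ p : Ideal A, p = P.under A := ⟨_, rfl⟩
  haveI : p.IsPrime := by rw [hpdef]; infer_instance
  haveI : P.LiesOver p := ⟨hpdef⟩
  letI := Localization.AtPrime.algebraOfLiesOver p P
  haveI : Algebra.FormallyUnramified C (Localization.AtPrime P) :=
    .of_isLocalization P.primeCompl
  haveI : Algebra.IsUnramifiedAt A P :=
    Algebra.FormallyUnramified.comp A C (Localization.AtPrime P)
  obtain ⟨-, hmap⟩ := (Algebra.isUnramifiedAt_iff_map_eq A p P).mp inferInstance
  haveI : IsNoetherianRing (Localization.AtPrime P) :=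
    IsLocalization.isNoetherianRing P.primeCompl _ inferInstance
  by_cases hp : p = ⊥
  · left
    rw [IsLocalRing.isField_iff_maximalIdeal_eq, ← hmap, hp, Ideal.map_bot]
  · right
    haveI : IsDiscreteValuationRing (Localization.AtPrime p) :=
      IsLocalization.AtPrime.isDiscreteValuationRing_of_dedekind_domain A hp _
    obtain ⟨ϖ, hϖ⟩ := IsDiscreteValuationRing.exists_irreducible (Localization.AtPrime p)
    obtain ⟨⟨a, s⟩, has⟩ := IsLocalization.surj p.primeCompl ϖ
    have ha0 : a ≠ 0 := by
      rintro rfl
      rw [map_zero] at has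
      have hsu : IsUnit (algebraMap A (Localization.AtPrime p) s) :=
        IsLocalization.map_units _ s
      exact hϖ.ne_zero ((hsu.mul_left_eq_zero).mp has)
    obtain ⟨t, htdef⟩ : ∃ t : Localization.AtPrime P, t = algebraMap A _ a := ⟨_, rfl⟩
    have hsu : IsUnit (algebraMap A (Localization.AtPrime P) s) := by
      rw [IsScalarTower.algebraMap_apply A C (Localization.AtPrime P)]
      apply IsLocalization.map_units (M := P.primeCompl) (Localization.AtPrime P)
        ⟨algebraMap A C s, ?_⟩
      intro hmem
      have : (s : A) ∈ p := hpdef ▸ (Ideal.mem_comap.mpr hmem : (s : A) ∈ P.under A)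
      exact s.2 this
    have hm : maximalIdeal (Localization.AtPrime P) = Ideal.span {t} := by
      rw [← hmap, IsScalarTower.algebraMap_eq A (Localization.AtPrime p) (Localization.AtPrime P),
        ← Ideal.map_map, Localization.AtPrime.map_eq_maximalIdeal, hϖ.maximalIdeal_eq,
        Ideal.map_span, Set.image_singleton, htdef]
      have h2 : algebraMap (Localization.AtPrime p) (Localization.AtPrime P) ϖ *
          algebraMap A (Localization.AtPrime P) s = algebraMap A (Localization.AtPrime P) a := by
        rw [IsScalarTower.algebraMap_apply A (Localization.AtPrime p) (Localization.AtPrime P) s,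
          IsScalarTower.algebraMap_apply A (Localization.AtPrime p) (Localization.AtPrime P) a,
          ← map_mul, has]
      rw [← h2]
      exact (Ideal.span_singleton_mul_right_unit hsu _).symm
    have haA : a ∈ nonZeroDivisors A := mem_nonZeroDivisors_of_ne_zero ha0
    haveI : Module.Flat C (Localization.AtPrime P) := IsLocalization.flat _ P.primeCompl
    haveI : Module.Flat A (Localization.AtPrime P) := Module.Flat.trans A C _
    have hreg : IsSMulRegular (Localization.AtPrime P) a :=
      Module.Flat.isSMulRegular_of_nonZeroDivisors haA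
    have ht : t ∈ nonZeroDivisors (Localization.AtPrime P) := by
      rw [mem_nonZeroDivisors_iff_right]
      intro x hx
      apply hreg
      show a • x = a • (0 : Localization.AtPrime P)
      rw [smul_zero, Algebra.smul_def, ← htdef, mul_comm]
      exact hx
    have hdom : IsDomain (Localization.AtPrime P) := isDomain_of_maximalIdeal_eq_span t ht hm
    refine ⟨hdom, ?_⟩
    have hnf : ¬ IsField (Localization.AtPrime P) := by
      rw [IsLocalRing.isField_iff_maximalIdeal_eq, hm, Ideal.span_singleton_eq_bot]
      exact nonZeroDivisors.ne_zero ht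
    have hprinc : (maximalIdeal (Localization.AtPrime P)).IsPrincipal := ⟨⟨t, hm⟩⟩
    exact ((IsDiscreteValuationRing.TFAE (Localization.AtPrime P) hnf).out 4 0).mp hprinc

/-- All local rings are domains. -/
theorem isDomain_localization (P : Ideal C) [P.IsPrime] : IsDomain (Localization.AtPrime P) := by
  rcases isField_or_dvr A P with h | ⟨h, -⟩
  · exact h.isDomain
  · exact h

end L2

section Global

variable {C : Type*} [CommRing C]

/-- A ring all of whose local rings at maximal ideals are domains is reduced. -/
theorem isReduced_of_isDomain_localization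
    (h : ∀ (M : Ideal C) [M.IsMaximal], IsDomain (Localization.AtPrime M)) : IsReduced C := by
  refine ⟨fun x hx => ?_⟩
  apply eq_zero_of_localization
  intro J hJ
  haveI := h J
  exact (hx.map (algebraMap C (Localization.AtPrime J))).eq_zero

/-- If `C_M` is a domain, a minimal prime of `C` contained in `M` is the kernel of `C → C_M`. -/
theorem minimalPrime_eq_ker {p M : Ideal C} (hp : p ∈ minimalPrimes C) [M.IsMaximal]
    [IsDomain (Localization.AtPrime M)] (hpM : p ≤ M) :
    p = RingHom.ker (algebraMap C (Localization.AtPrime M)) := by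
  haveI : p.IsPrime := hp.1.1
  have hK : (RingHom.ker (algebraMap C (Localization.AtPrime M))).IsPrime :=
    RingHom.ker_isPrime _
  have hle : RingHom.ker (algebraMap C (Localization.AtPrime M)) ≤ p := by
    intro x hx
    rw [RingHom.mem_ker, IsLocalization.map_eq_zero_iff M.primeCompl] at hx
    obtain ⟨s, hs⟩ := hx
    have : (s : C) * x ∈ p := by rw [hs]; exact p.zero_mem
    rcases Ideal.IsPrime.mem_or_mem ‹p.IsPrime› this with h | h
    · exact absurd (hpM h) s.2
    · exact h
  exact le_antisymm (hp.2 ⟨hK, bot_le⟩ hle) hle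

theorem isCoprime_of_minimalPrimes
    (h : ∀ (M : Ideal C) [M.IsMaximal], IsDomain (Localization.AtPrime M))
    {p₁ p₂ : Ideal C} (h₁ : p₁ ∈ minimalPrimes C) (h₂ : p₂ ∈ minimalPrimes C) (hne : p₁ ≠ p₂) :
    IsCoprime p₁ p₂ := by
  rw [Ideal.isCoprime_iff_sup_eq]
  by_contra hcon
  obtain ⟨M, hM, hle⟩ := Ideal.exists_le_maximal _ hcon
  haveI := hM
  haveI := h M
  apply hne
  rw [minimalPrime_eq_ker h₁ (le_sup_left.trans hle), minimalPrime_eq_ker h₂ (le_sup_right.trans hle)]

/-- Chinese remainder decomposition of a Noetherian ring whose local rings are domains. -/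
theorem exists_ringEquiv_pi_quotient_minimalPrimes [IsNoetherianRing C]
    (h : ∀ (M : Ideal C) [M.IsMaximal], IsDomain (Localization.AtPrime M)) :
    ∃ (n : ℕ) (f : Fin n → Ideal C), (∀ j, f j ∈ minimalPrimes C) ∧
      Nonempty (C ≃+* ∀ j, C ⧸ f j) := by
  classical
  have hfin : (minimalPrimes C).Finite := minimalPrimes.finite_of_isNoetherianRing C
  haveI : Finite (minimalPrimes C) := hfin.to_subtype
  obtain ⟨n, ⟨e⟩⟩ := Finite.exists_equiv_fin (minimalPrimes C)
  obtain ⟨f, hf⟩ : ∃ f : Fin n → Ideal C, f = fun j => (e.symm j).1 := ⟨_, rfl⟩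
  have hfm : ∀ j, f j ∈ minimalPrimes C := fun j => by rw [hf]; exact (e.symm j).2
  have hcop : Pairwise (Function.onFun IsCoprime f) := by
    intro i j hij
    refine isCoprime_of_minimalPrimes h (hfm i) (hfm j) ?_
    intro heq
    apply hij
    have : e.symm i = e.symm j := Subtype.ext (by simpa [hf] using heq)
    exact e.symm.injective this
  haveI := isReduced_of_isDomain_localization h
  have hinf : ⨅ j, f j = ⊥ := by
    have h1 : ⨅ j, f j = sInf (minimalPrimes C) := by
      apply le_antisymm
      · apply le_sInf
        intro p hp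
        have : f (e ⟨p, hp⟩) = p := by simp [hf]
        exact this ▸ iInf_le f (e ⟨p, hp⟩)
      · exact le_iInf fun j => sInf_le (hfm j)
    rw [h1]
    have h2 : sInf (minimalPrimes C) = nilradical C := by
      rw [minimalPrimes, Ideal.sInf_minimalPrimes]; rfl
    rw [h2, nilradical_eq_zero]
    rfl
  refine ⟨n, f, hfm, ⟨?_⟩⟩
  exact ((RingEquiv.quotientBot C).symm.trans (Ideal.quotEquivOfEq hinf.symm)).trans
    (Ideal.quotientInfRingEquivPiQuotient f hcop)

end Global

section Dedekind

variable (A : Type*) {C : Type*} [CommRing A] [IsDedekindDomain A] [CommRing C] [Algebra A C]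
  [Algebra.EssFiniteType A C] [Algebra.FormallyUnramified A C] [Module.Flat A C]
  [IsNoetherianRing C]

include A

theorem algebraMap_notMem_minimalPrime {p : Ideal C} (hp : p ∈ minimalPrimes C) {a : A}
    (ha : a ≠ 0) : algebraMap A C a ∉ p := by
  haveI : p.IsPrime := hp.1.1
  obtain ⟨M, hM, hle⟩ := Ideal.exists_le_maximal p (Ideal.IsPrime.ne_top ‹_›)
  haveI := hM
  haveI : IsDomain (Localization.AtPrime M) := isDomain_localization A M
  rw [minimalPrime_eq_ker hp hle, RingHom.mem_ker,
    ← IsScalarTower.algebraMap_apply A C (Localization.AtPrime M)]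
  haveI : Module.Flat C (Localization.AtPrime M) := IsLocalization.flat _ M.primeCompl
  haveI : Module.Flat A (Localization.AtPrime M) := Module.Flat.trans A C _
  have hreg : IsSMulRegular (Localization.AtPrime M) a :=
    Module.Flat.isSMulRegular_of_nonZeroDivisors (mem_nonZeroDivisors_of_ne_zero ha)
  intro h0
  have : (1 : Localization.AtPrime M) = 0 := by
    apply hreg
    show a • (1 : Localization.AtPrime M) = a • 0
    rw [smul_zero, Algebra.smul_def, mul_one, h0]
  exact one_ne_zero this

theorem isDedekindDomain_quotient_minimalPrime (p : Ideal C) [p.IsPrime]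
    (hp : p ∈ minimalPrimes C) : IsDedekindDomain (C ⧸ p) := by
  haveI : IsDomain (C ⧸ p) := Ideal.Quotient.isDomain p
  haveI : Algebra.FormallyUnramified C (C ⧸ p) :=
    Algebra.FormallyUnramified.of_surjective (Algebra.ofId C (C ⧸ p)) Ideal.Quotient.mk_surjective
  haveI : Algebra.FormallyUnramified A (C ⧸ p) := Algebra.FormallyUnramified.comp A C _
  haveI : Algebra.EssFiniteType A (C ⧸ p) := Algebra.EssFiniteType.comp A C _
  haveI : Module.IsTorsionFree A (C ⧸ p) := by
    refine ⟨fun a ha x y hxy => ?_⟩
    have ha0 : a ≠ 0 := ha.ne_zero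
    obtain ⟨d, hd⟩ := Ideal.Quotient.mk_surjective (x - y)
    have h1 : a • (x - y) = 0 := by
      rw [smul_sub]; exact sub_eq_zero.mpr hxy
    rw [← hd, Algebra.smul_def, IsScalarTower.algebraMap_apply A C (C ⧸ p),
      Ideal.Quotient.algebraMap_eq, ← map_mul, Ideal.Quotient.eq_zero_iff_mem] at h1
    rcases Ideal.IsPrime.mem_or_mem ‹p.IsPrime› h1 with h | h
    · exact absurd h (algebraMap_notMem_minimalPrime A hp ha0)
    · rw [← Ideal.Quotient.eq_zero_iff_mem, hd] at h
      exact sub_eq_zero.mp h
  haveI : Module.Flat A (C ⧸ p) := inferInstance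
  haveI : IsDedekindDomainDvr (C ⧸ p) :=
    { is_dvr_at_nonzero_prime := fun P hP hPp => by
        haveI := hPp
        rcases isField_or_dvr A P with hf | ⟨_, hd⟩
        · exact absurd hf (IsLocalization.AtPrime.not_isField (C ⧸ p) hP _)
        · exact hd }
  infer_instance

/-- A Noetherian flat unramified algebra (essentially of finite type) over a Dedekind domain is a
finite product of Dedekind domains. -/
theorem exists_ringEquiv_pi_dedekind (C : Type u) [CommRing C] [Algebra A C]
    [Algebra.EssFiniteType A C] [Algebra.FormallyUnramified A C] [Module.Flat A C]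
    [IsNoetherianRing C] :
    ∃ (n : ℕ) (D : Fin n → Type u) (_ : ∀ i, CommRing (D i)) (_ : ∀ i, IsDedekindDomain (D i)),
      Nonempty (C ≃+* ∀ i, D i) := by
  obtain ⟨n, f, hf, ⟨e⟩⟩ := exists_ringEquiv_pi_quotient_minimalPrimes (C := C)
    (fun M _ => isDomain_localization A M)
  refine ⟨n, fun j => C ⧸ f j, fun j => inferInstance, fun j => ?_, ⟨e⟩⟩
  haveI : (f j).IsPrime := (hf j).1.1
  exact isDedekindDomain_quotient_minimalPrime A (f j) (hf j)

end Dedekind

end Groth.Agent.Lib.Helper86.EtaleDedekind
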