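import Mathlib.RingTheory.Smooth.Field
import Mathlib.RingTheory.Etale.Kaehler
import Mathlib.RingTheory.Etale.Field
import Mathlib.RingTheory.Unramified.Field
import Mathlib.RingTheory.Kaehler.Polynomial
import Mathlib.LinearAlgebra.TensorProduct.Basis
import Mathlib.FieldTheory.SeparablyGenerated
import Mathlib.RingTheory.AlgebraicIndependent.TranscendenceBasis

/-!
# Kähler differentials of separably generated field extensions

If `x : ι → F` is algebraically independent over `k` and `F` is separable algebraic over `k(x)`,
then the differentials `d (x i)` form a basis of `Ω[F⁄k]`.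
-/

set_option autoImplicit false

namespace Groth.Agent.Lib.Helper86

open scoped IntermediateField.algebraAdjoinAdjoin TensorProduct

universe u v w

variable {k : Type u} {F : Type v} {ι : Type w} [Field k] [Field F] [Algebra k F]

/-- `MvPolynomial ι k → F`, `X i ↦ x i`, is formally étale when `x` is algebraically independent and
`F / k(x)` is separable algebraic. -/
theorem formallyEtale_aeval (x : ι → F) (hx : AlgebraicIndependent k x)
    [Algebra.IsSeparable (IntermediateField.adjoin k (Set.range x)) F] :
    (MvPolynomial.aeval (R := k) x : MvPolynomial ι k →ₐ[k] F).toRingHom.FormallyEtale := by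
  -- step 1: `MvPolynomial ι k ≃ Algebra.adjoin k (range x)`
  have h1 : (hx.aevalEquiv : MvPolynomial ι k →+* Algebra.adjoin k (Set.range x)).FormallyEtale := by
    let _ := (hx.aevalEquiv : MvPolynomial ι k →+* Algebra.adjoin k (Set.range x)).toAlgebra
    show Algebra.FormallyEtale (MvPolynomial ι k) (Algebra.adjoin k (Set.range x))
    exact Algebra.FormallyEtale.of_equiv
      (AlgEquiv.ofRingEquiv (f := hx.aevalEquiv.toRingEquiv) (fun _ => rfl) :
        MvPolynomial ι k ≃ₐ[MvPolynomial ι k] Algebra.adjoin k (Set.range x))
  -- step 2: localization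
  have h2 : (algebraMap (Algebra.adjoin k (Set.range x))
      (IntermediateField.adjoin k (Set.range x))).FormallyEtale := by
    rw [RingHom.formallyEtale_algebraMap]
    exact Algebra.FormallyEtale.of_isLocalization (nonZeroDivisors _)
  -- step 3: separable
  have h3 : (algebraMap (IntermediateField.adjoin k (Set.range x)) F).FormallyEtale := by
    rw [RingHom.formallyEtale_algebraMap]
    exact Algebra.FormallyEtale.of_isSeparable _ F
  have h := (h1.comp h2).comp h3
  convert h using 1
  ext i
  · simp
  · simp

/-- If `x` is algebraically independent over `k` and `F / k(x)` is separable algebraic, then the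
`d (x i)` form a basis of `Ω[F⁄k]`. -/
theorem exists_basis_D_of_isSeparable (x : ι → F) (hx : AlgebraicIndependent k x)
    [Algebra.IsSeparable (IntermediateField.adjoin k (Set.range x)) F] :
    ∃ b : Module.Basis ι F (Ω[F⁄k]), ∀ i, b i = KaehlerDifferential.D k F (x i) := by
  have hfe := formallyEtale_aeval x hx
  letI : Algebra (MvPolynomial ι k) F :=
    (MvPolynomial.aeval (R := k) x : MvPolynomial ι k →ₐ[k] F).toRingHom.toAlgebra
  haveI : IsScalarTower k (MvPolynomial ι k) F :=
    IsScalarTower.of_algebraMap_eq' (by
      ext c
      simp [RingHom.algebraMap_toAlgebra])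
  haveI : Algebra.FormallyEtale (MvPolynomial ι k) F := hfe
  let b₀ := (KaehlerDifferential.mvPolynomialBasis k ι).baseChange F
  let e := KaehlerDifferential.tensorKaehlerEquivOfFormallyEtale k (MvPolynomial ι k) F
  refine ⟨b₀.map e, fun i => ?_⟩
  rw [Module.Basis.map_apply, Module.Basis.baseChange_apply,
    KaehlerDifferential.mvPolynomialBasis_apply,
    KaehlerDifferential.tensorKaehlerEquivOfFormallyEtale_apply,
    KaehlerDifferential.mapBaseChange_tmul, one_smul, KaehlerDifferential.map_D]
  congr 1
  simp [RingHom.algebraMap_toAlgebra]

/-- If the differentials of elements of an intermediate field `E` span `Ω[F⁄k]`, and `F` is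
finitely generated over `k`, then `F / E` is separable (algebraic). -/
theorem isSeparable_of_span_D_eq_top [Algebra.EssFiniteType k F] (E : IntermediateField k F)
    (S : Set F) (hS : S ⊆ E) (hspan : Submodule.span F (KaehlerDifferential.D k F '' S) = ⊤) :
    Algebra.IsSeparable E F := by
  have hzero : KaehlerDifferential.map k E F F = 0 := by
    apply LinearMap.ext_on hspan
    rintro _ ⟨s, hs, rfl⟩
    rw [KaehlerDifferential.map_D, LinearMap.zero_apply]
    have : (algebraMap F F) s = algebraMap E F ⟨s, hS hs⟩ := rfl
    rw [this, Derivation.map_algebraMap]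
  have hsub : Subsingleton (Ω[F⁄E]) := by
    refine ⟨fun a b => ?_⟩
    obtain ⟨a', rfl⟩ := KaehlerDifferential.map_surjective k E F a
    obtain ⟨b', rfl⟩ := KaehlerDifferential.map_surjective k E F b
    rw [hzero, LinearMap.zero_apply, LinearMap.zero_apply]
  have : Algebra.FormallyUnramified E F := ⟨hsub⟩
  have : Algebra.EssFiniteType E F := Algebra.EssFiniteType.of_comp k E F
  exact Algebra.FormallyUnramified.isSeparable E F

/-- Tower version: if the differentials of (images of) elements of `K` span `Ω[L⁄k]`, and `L` is
finitely generated over `k`, then `L / K` is separable. -/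
theorem isSeparable_of_span_D_algebraMap_eq_top {K : Type*} {L : Type*} [Field K] [Field L]
    [Algebra k K] [Algebra k L] [Algebra K L] [IsScalarTower k K L] [Algebra.EssFiniteType k L]
    (S : Set K)
    (hspan : Submodule.span L ((fun s : K => KaehlerDifferential.D k L (algebraMap K L s)) '' S) = ⊤) :
    Algebra.IsSeparable K L := by
  have hzero : KaehlerDifferential.map k K L L = 0 := by
    apply LinearMap.ext_on hspan
    rintro _ ⟨s, hs, rfl⟩
    rw [KaehlerDifferential.map_D, LinearMap.zero_apply]
    have : (algebraMap L L) (algebraMap K L s) = algebraMap K L s := rfl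
    rw [this, Derivation.map_algebraMap]
  have hsub : Subsingleton (Ω[L⁄K]) := by
    refine ⟨fun a b => ?_⟩
    obtain ⟨a', rfl⟩ := KaehlerDifferential.map_surjective k K L a
    obtain ⟨b', rfl⟩ := KaehlerDifferential.map_surjective k K L b
    rw [hzero, LinearMap.zero_apply, LinearMap.zero_apply]
  have : Algebra.FormallyUnramified K L := ⟨hsub⟩
  have : Algebra.EssFiniteType K L := Algebra.EssFiniteType.of_comp k K L
  exact Algebra.FormallyUnramified.isSeparable K L

open Cardinal in
/-- Over a perfect field, the rank of `Ω[F⁄k]` for a finitely generated field extension is the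
transcendence degree. -/
theorem lift_rank_kaehlerDifferential_eq [PerfectField k] [Algebra.EssFiniteType k F]
    (x : ι → F) (hx : IsTranscendenceBasis k x) :
    lift.{w} (Module.rank F (Ω[F⁄k])) = lift.{v} #ι := by
  obtain ⟨s, hs, hsep⟩ := exists_isTranscendenceBasis_and_isSeparable_of_perfectField k F
  have : Algebra.IsSeparable (IntermediateField.adjoin k (Set.range ((↑) : s → F))) F := by
    convert! hsep <;> simp
  obtain ⟨b, -⟩ := exists_basis_D_of_isSeparable ((↑) : s → F) hs.1
  rw [← b.mk_eq_rank'']
  exact hs.lift_cardinalMk_eq hx

end Groth.Agent.Lib.Helper86
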