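import Mathlib
import Groth.Agent.Lib.Helper10.WEBasic

/-!
# Olivier's theorem, part A (helper86)

* `PBez`: rings in which pairs generate principal ideals and annihilators of elements are
  generated by idempotents (e.g. arbitrary products of valuation rings).
* over such rings, submodules of flat modules are flat;
* the key "idempotent lemma": if `C` is weakly étale over such a ring `R`, `s : R` is `C`-regular and
  `b * b = s • b` then `b ∈ s C`.
-/

namespace Groth.Agent.Lib.Helper86.Olivier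

open TensorProduct

/-- pairs generate principal ideals and annihilators of elements are generated by idempotents -/
structure PBez (R : Type*) [CommRing R] : Prop where
  pair : ∀ a a' : R, ∃ g x x' y y' : R, a = g * x ∧ a' = g * x' ∧ g = a * y + a' * y'
  ann : ∀ a : R, ∃ ε : R, a * ε = 0 ∧ ∀ z : R, a * z = 0 → z = ε * z

section PBez

variable {R : Type*} [CommRing R]

theorem PBez.exists_eq_span_singleton (h : PBez R) (I : Ideal R) (hI : I.FG) :
    ∃ g : R, I = Ideal.span {g} := by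
  refine Submodule.fg_induction (motive := fun I _ => ∃ g : R, I = Ideal.span {g}) ?_ ?_ I hI
  · intro x
    exact ⟨x, rfl⟩
  · rintro I J _ _ ⟨a, rfl⟩ ⟨a', rfl⟩
    obtain ⟨g, x, x', y, y', h1, h2, h3⟩ := h.pair a a'
    refine ⟨g, le_antisymm ?_ ?_⟩
    · rw [sup_le_iff]
      constructor
      · rw [Ideal.span_singleton_le_iff_mem, Ideal.mem_span_singleton']
        exact ⟨x, by rw [h1]; ring⟩
      · rw [Ideal.span_singleton_le_iff_mem, Ideal.mem_span_singleton']
        exact ⟨x', by rw [h2]; ring⟩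
    · rw [Ideal.span_singleton_le_iff_mem, h3]
      refine Submodule.add_mem_sup ?_ ?_
      · exact Ideal.mul_mem_right _ _ (Ideal.mem_span_singleton_self a)
      · exact Ideal.mul_mem_right _ _ (Ideal.mem_span_singleton_self a')

/-- in a flat module over a `PBez` ring, `g • m = 0` forces `m = ε • m` for the idempotent `ε`
generating the annihilator of `g` -/
theorem PBez.eq_smul_of_smul_eq_zero {M : Type*} [AddCommGroup M] [Module R M] [Module.Flat R M]
    {g ε : R} (hε : ∀ z : R, g * z = 0 → z = ε * z) {m : M} (hm : g • m = 0) : m = ε • m := by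
  have hrel : ∑ i : Fin 1, (fun _ => g) i • (fun _ => m) i = 0 := by simpa using hm
  obtain ⟨k, a, y, h1, h2⟩ := Module.Flat.isTrivialRelation_of_sum_smul_eq_zero hrel
  have h3 : ∀ j, a 0 j = ε * a 0 j := fun j => hε _ (by simpa using h2 j)
  have h4 : m = ∑ j, a 0 j • y j := h1 0
  rw [h4, Finset.smul_sum]
  refine Finset.sum_congr rfl fun j _ => ?_
  rw [smul_smul, ← h3 j]

/-- over a `PBez` ring, submodules of flat modules are flat -/
theorem PBez.flat_submodule (h : PBez R) {M : Type*} [AddCommGroup M] [Module R M]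
    [Module.Flat R M] (N : Submodule R M) : Module.Flat R N := by
  rw [Module.Flat.iff_lift_lsmul_comp_subtype_injective]
  intro I hI
  obtain ⟨g, rfl⟩ := h.exists_eq_span_singleton I hI
  obtain ⟨ε, hε0, hε⟩ := h.ann g
  have hg : g ∈ Ideal.span {g} := Ideal.mem_span_singleton_self g
  rw [injective_iff_map_eq_zero]
  intro x hx
  have key : ∀ x : (Ideal.span {g} : Ideal R) ⊗[R] N, ∃ n : N, x = (⟨g, hg⟩ : (Ideal.span {g} : Ideal R)) ⊗ₜ n := by
    intro x
    induction x using TensorProduct.induction_on with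
    | zero => exact ⟨0, by simp⟩
    | tmul i n =>
      obtain ⟨r, hr⟩ := Ideal.mem_span_singleton'.mp i.2
      refine ⟨r • n, ?_⟩
      rw [TensorProduct.tmul_smul, TensorProduct.smul_tmul']
      congr 1
      ext
      simp [← hr]
    | add x y hx hy =>
      obtain ⟨n₁, rfl⟩ := hx
      obtain ⟨n₂, rfl⟩ := hy
      exact ⟨n₁ + n₂, by rw [TensorProduct.tmul_add]⟩
  obtain ⟨n, rfl⟩ := key x
  have h1 : g • n = 0 := by simpa using hx
  have h2 : g • (n : M) = 0 := by
    have := congrArg (Subtype.val) h1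
    simpa using this
  have h3 : (n : M) = ε • (n : M) := PBez.eq_smul_of_smul_eq_zero hε h2
  have h4 : n = ε • n := Subtype.ext (by simpa using h3)
  rw [h4, TensorProduct.tmul_smul, TensorProduct.smul_tmul']
  have : ε • (⟨g, hg⟩ : (Ideal.span {g} : Ideal R)) = 0 := by
    ext
    simp [mul_comm ε g, hε0]
  rw [this, TensorProduct.zero_tmul]

end PBez

section Pi

variable {L : Type*} [Field L] {ι : Type*} (V : ι → ValuationSubring L)
  {A' : Type*} [CommRing A'] [Algebra A' L]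

theorem exists_pair_valuationSubring (W : ValuationSubring L) (a a' : L) (ha : a ∈ W)
    (ha' : a' ∈ W) : ∃ g x x' y y' : L, g ∈ W ∧ x ∈ W ∧ x' ∈ W ∧ y ∈ W ∧ y' ∈ W ∧
      a = g * x ∧ a' = g * x' ∧ g = a * y + a' * y' := by
  by_cases h0 : a' = 0
  · exact ⟨a, 1, 0, 1, 0, ha, W.one_mem, W.zero_mem, W.one_mem, W.zero_mem, by simp, by simp [h0],
      by simp⟩
  · by_cases h1 : a / a' ∈ W
    · refine ⟨a', a / a', 1, 0, 1, ha', h1, W.one_mem, W.zero_mem, W.one_mem, ?_, by simp, by simp⟩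
      field_simp
    · have h2 : (a / a')⁻¹ ∈ W := (W.mem_or_inv_mem (a / a')).resolve_left h1
      have ha0 : a ≠ 0 := by
        rintro rfl
        apply h1
        simp [W.zero_mem]
      refine ⟨a, 1, (a / a')⁻¹, 1, 0, ha, W.one_mem, h2, W.one_mem, W.zero_mem, by simp, ?_,
        by simp⟩
      field_simp

/-- a subalgebra of `ι → L` consisting of the families with `i`-th component in the valuation
subring `V i` is `PBez` -/
theorem pbez_of_forall_mem_iff (𝒱 : Subalgebra A' (ι → L))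
    (h𝒱 : ∀ w : ι → L, w ∈ 𝒱 ↔ ∀ i, w i ∈ V i) : PBez 𝒱 := by
  classical
  constructor
  · intro a a'
    have h : ∀ i, ∃ g x x' y y' : L, g ∈ V i ∧ x ∈ V i ∧ x' ∈ V i ∧ y ∈ V i ∧ y' ∈ V i ∧
        a.1 i = g * x ∧ a'.1 i = g * x' ∧ g = a.1 i * y + a'.1 i * y' := fun i =>
      exists_pair_valuationSubring (V i) (a.1 i) (a'.1 i) ((h𝒱 _).mp a.2 i) ((h𝒱 _).mp a'.2 i)
    choose g x x' y y' hg hx hx' hy hy' h1 h2 h3 using h
    refine ⟨⟨g, (h𝒱 _).mpr hg⟩, ⟨x, (h𝒱 _).mpr hx⟩, ⟨x', (h𝒱 _).mpr hx'⟩, ⟨y, (h𝒱 _).mpr hy⟩,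
      ⟨y', (h𝒱 _).mpr hy'⟩, ?_, ?_, ?_⟩
    · ext i
      simpa using h1 i
    · ext i
      simpa using h2 i
    · ext i
      simpa using h3 i
  · intro a
    refine ⟨⟨fun i => if a.1 i = 0 then 1 else 0, (h𝒱 _).mpr fun i => ?_⟩, ?_, ?_⟩
    · split_ifs
      · exact (V i).one_mem
      · exact (V i).zero_mem
    · ext i
      by_cases h : a.1 i = 0 <;> simp [h]
    · intro z hz
      ext i
      have hzi : a.1 i * z.1 i = 0 := by
        have := congrArg (fun w : 𝒱 => w.1 i) hz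
        simpa using this
      by_cases h : a.1 i = 0
      · simp [h]
      · have : z.1 i = 0 := by
          rcases mul_eq_zero.mp hzi with h' | h'
          · exact absurd h' h
          · exact h'
        simp [h, this]

end Pi

section KeyLemma

variable {R C : Type*} [CommRing R] [CommRing C] [Algebra R C]

/-- **Key lemma**: `C` weakly étale over `R`, all `R`-submodules of `C` flat, `s` regular on `C` and
`b * b = s • b`. Then `b ∈ s C`. -/
theorem exists_eq_smul_of_mul_self_eq [Algebra.WeaklyEtale R C]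
    (hsub : ∀ N : Submodule R C, Module.Flat R N) (b : C) (s : R)
    (hs : ∀ c : C, s • c = 0 → c = 0) (hb : b * b = s • b) : ∃ w : C, b = s • w := by
  classical
  -- the pure kernel of the multiplication map
  obtain ⟨μ, hμdef⟩ : ∃ μ : C ⊗[R] C →ₐ[R] C, μ = Algebra.TensorProduct.lmul' R (S := C) := ⟨_, rfl⟩
  have hμs : Function.Surjective μ.toRingHom := fun c => ⟨c ⊗ₜ 1, by simp [hμdef]⟩
  have hpure : (RingHom.ker μ.toRingHom).Pure := by
    rw [hμdef]
    exact Groth.Agent.Lib.Helper10.WE.pure_ker_of_flat _ (by rw [← hμdef]; exact hμs)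
      (Algebra.WeaklyEtale.flat_lmul' R C)
  have hj : (b ⊗ₜ[R] (1 : C) - 1 ⊗ₜ b) ∈ RingHom.ker μ.toRingHom := by
    simp [RingHom.mem_ker, hμdef]
  obtain ⟨y, hy, hjy⟩ := Ideal.exists_eq_mul_of_pure hj
  obtain ⟨u, hu⟩ : ∃ u : C ⊗[R] C, u = 1 - y := ⟨_, rfl⟩
  have hμu : μ u = 1 := by
    have : μ y = 0 := hy
    rw [hu, map_sub, map_one, this, sub_zero]
  have hbu : (b ⊗ₜ[R] (1 : C)) * u = (1 ⊗ₜ b) * u := by
    have : (b ⊗ₜ[R] (1 : C) - 1 ⊗ₜ b) * u = 0 := by
      rw [hu, mul_sub, mul_one, ← hjy, sub_self]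
    rw [sub_mul, sub_eq_zero] at this
    exact this
  -- the element `d = s - b` and its annihilator
  obtain ⟨d, hd⟩ : ∃ d : C, d = s • (1 : C) - b := ⟨_, rfl⟩
  have hdd : d * d = s • d := by
    have hb' : b * b = algebraMap R C s * b := by rw [hb, Algebra.smul_def]
    rw [hd]
    simp only [Algebra.smul_def, mul_one]
    linear_combination hb'
  obtain ⟨J₁, hJ₁⟩ : ∃ J : Ideal C, J = LinearMap.ker (LinearMap.mulLeft C b) := ⟨_, rfl⟩
  obtain ⟨J₂, hJ₂⟩ : ∃ J : Ideal C, J = LinearMap.ker (LinearMap.mulLeft C d) := ⟨_, rfl⟩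
  have hmemJ₁ : ∀ c, c ∈ J₁ ↔ b * c = 0 := fun c => by rw [hJ₁]; simp
  have hmemJ₂ : ∀ c, c ∈ J₂ ↔ d * c = 0 := fun c => by rw [hJ₂]; simp
  -- `N = C / J₂` is flat
  have hker : J₂.restrictScalars R = LinearMap.ker (LinearMap.mulLeft R d) := by
    ext c
    simp [hmemJ₂]
  have hNflat : Module.Flat R (C ⧸ J₂) := by
    have := hsub (LinearMap.range (LinearMap.mulLeft R d))
    exact Module.Flat.of_linearEquiv
      ((Submodule.Quotient.restrictScalarsEquiv R J₂).symm ≪≫ₗ
        (Submodule.quotEquivOfEq _ _ hker) ≪≫ₗ (LinearMap.quotKerEquivRange _))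
  -- `d` is a nonzerodivisor on `N`
  have hdinj : Function.Injective (LinearMap.mulLeft R (Ideal.Quotient.mk J₂ d)) := by
    rw [injective_iff_map_eq_zero]
    intro n hn
    obtain ⟨c, rfl⟩ := Ideal.Quotient.mk_surjective n
    rw [LinearMap.mulLeft_apply, ← map_mul, Ideal.Quotient.eq_zero_iff_mem, hmemJ₂, ← mul_assoc, hdd,
      smul_mul_assoc] at hn
    rw [Ideal.Quotient.eq_zero_iff_mem, hmemJ₂]
    exact hs _ hn
  have hflatC : Module.Flat R C := inferInstance
  have hdinj' : Function.Injective ((LinearMap.mulLeft R (Ideal.Quotient.mk J₂ d)).lTensor C) :=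
    Module.Flat.lTensor_preserves_injective_linearMap _ hdinj
  -- the image of `u` in `C ⊗ N`
  obtain ⟨π, hπ⟩ : ∃ π : C ⊗[R] C →ₐ[R] C ⊗[R] (C ⧸ J₂),
      π = Algebra.TensorProduct.map (AlgHom.id R C) (Ideal.Quotient.mkₐ R J₂) := ⟨_, rfl⟩
  have hπtmul : ∀ c c' : C, π (c ⊗ₜ c') = c ⊗ₜ Ideal.Quotient.mk J₂ c' := fun c c' => by
    rw [hπ]; simp
  have hz1 : (b ⊗ₜ[R] (1 : C ⧸ J₂)) * π u = (1 ⊗ₜ Ideal.Quotient.mk J₂ b) * π u := by
    have := congrArg π hbu
    rw [map_mul, map_mul, hπtmul, hπtmul, map_one] at this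
    exact this
  have hlT : ∀ t : C ⊗[R] (C ⧸ J₂), (LinearMap.mulLeft R (Ideal.Quotient.mk J₂ d)).lTensor C t
      = (1 ⊗ₜ Ideal.Quotient.mk J₂ d) * t := by
    intro t
    induction t using TensorProduct.induction_on with
    | zero => simp
    | tmul c n => simp
    | add x y hx hy => rw [map_add, hx, hy, mul_add]
  have hz0 : (b ⊗ₜ[R] (1 : C ⧸ J₂)) * π u = 0 := by
    apply hdinj'
    rw [map_zero, hlT]
    have e0 : Ideal.Quotient.mk J₂ (s • (1 : C)) = s • (1 : C ⧸ J₂) := by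
      rw [Algebra.smul_def, Algebra.smul_def, mul_one, mul_one]
      rfl
    have e1 : (1 : C) ⊗ₜ[R] Ideal.Quotient.mk J₂ d
        = s • (1 : C ⊗[R] (C ⧸ J₂)) - 1 ⊗ₜ Ideal.Quotient.mk J₂ b := by
      rw [hd, map_sub, e0, TensorProduct.tmul_sub, TensorProduct.tmul_smul,
        Algebra.TensorProduct.one_def]
    rw [e1, sub_mul, smul_mul_assoc, one_mul, ← mul_assoc,
      mul_comm ((1 : C) ⊗ₜ[R] Ideal.Quotient.mk J₂ b) (b ⊗ₜ[R] (1 : C ⧸ J₂)), mul_assoc, ← hz1,
      ← mul_assoc, Algebra.TensorProduct.tmul_mul_tmul, hb, mul_one, ← TensorProduct.smul_tmul',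
      smul_mul_assoc, sub_self]
  -- exactness
  have hex : Function.Exact ((J₁.restrictScalars R).subtype) (LinearMap.mulLeft R b) := by
    intro c
    constructor
    · intro hc
      exact ⟨⟨c, (hmemJ₁ c).mpr (by simpa using hc)⟩, rfl⟩
    · rintro ⟨j, rfl⟩
      simpa using (hmemJ₁ _).mp j.2
  have hex' := Module.Flat.rTensor_exact (C ⧸ J₂) hex
  have hrT : ∀ t : C ⊗[R] (C ⧸ J₂), (LinearMap.mulLeft R b).rTensor (C ⧸ J₂) t
      = (b ⊗ₜ 1) * t := by
    intro t
    induction t using TensorProduct.induction_on with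
    | zero => simp
    | tmul c n => simp
    | add x y hx hy => rw [map_add, hx, hy, mul_add]
  obtain ⟨v, hv⟩ := (hex' (π u)).mp (by rw [hrT]; exact hz0)
  -- apply the multiplication map `C ⊗ N → N`
  obtain ⟨ν, hν⟩ : ∃ ν : C ⊗[R] (C ⧸ J₂) →ₐ[R] (C ⧸ J₂),
      ν = Algebra.TensorProduct.productMap (Ideal.Quotient.mkₐ R J₂) (AlgHom.id R (C ⧸ J₂)) :=
    ⟨_, rfl⟩
  have hνπ : ∀ t : C ⊗[R] C, ν (π t) = Ideal.Quotient.mk J₂ (μ t) := by
    intro t
    induction t using TensorProduct.induction_on with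
    | zero => simp
    | tmul c c' => rw [hπtmul, hν, hμdef]; simp
    | add x y hx hy => simp only [map_add, hx, hy]
  have hνv : ∀ v : (J₁.restrictScalars R) ⊗[R] (C ⧸ J₂),
      ν (((J₁.restrictScalars R).subtype).rTensor (C ⧸ J₂) v) ∈ J₁.map (Ideal.Quotient.mk J₂) := by
    intro v
    induction v using TensorProduct.induction_on with
    | zero => simp
    | tmul j n =>
      rw [hν]
      simp only [LinearMap.rTensor_tmul, Submodule.subtype_apply,
        Algebra.TensorProduct.productMap_apply_tmul, AlgHom.coe_id, id_eq]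
      exact Ideal.mul_mem_right _ _ (Ideal.mem_map_of_mem _ j.2)
    | add x y hx hy =>
      rw [map_add, map_add]
      exact Ideal.add_mem _ hx hy
  have h1 : (1 : C ⧸ J₂) ∈ J₁.map (Ideal.Quotient.mk J₂) := by
    have := hνv v
    rw [hv, hνπ, hμu, map_one] at this
    exact this
  obtain ⟨j, hj, hj1⟩ := (Ideal.mem_map_iff_of_surjective _ Ideal.Quotient.mk_surjective).mp h1
  have hj2 : d * (1 - j) = 0 := by
    rw [← hmemJ₂, ← Ideal.Quotient.eq_zero_iff_mem, map_sub, map_one, hj1, sub_self]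
  have hj3 : b * j = 0 := (hmemJ₁ j).mp hj
  refine ⟨1 - j, ?_⟩
  rw [hd, sub_mul, sub_eq_zero, smul_mul_assoc, one_mul] at hj2
  rw [hj2, mul_sub, mul_one, hj3, sub_zero]

end KeyLemma

end Groth.Agent.Lib.Helper86.Olivier
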