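import Mathlib
import Groth.Agent.Lib.Helper86.OlivierA

/-!
# Olivier's theorem, part B (helper86)

Idempotents of `L ⊗[A'] C`, for `C` weakly étale over a normal domain `A'` with fraction field `L`,
come from `C`.
-/

namespace Groth.Agent.Lib.Helper86.Olivier

open TensorProduct

section

variable {A' L : Type*} [CommRing A'] [IsDomain A'] [Field L] [Algebra A' L] [IsFractionRing A' L]

/-- a normal domain is the intersection of the valuation rings of its fraction field containing it -/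
theorem exists_algebraMap_eq_of_forall_mem_valuationSubring [IsIntegrallyClosed A'] (x : L)
    (hx : ∀ V : ValuationSubring L, (∀ a : A', algebraMap A' L a ∈ V) → x ∈ V) :
    ∃ a : A', algebraMap A' L a = x := by
  by_contra hcon
  obtain ⟨Rg, hRg⟩ : ∃ Rg : Subring L, Rg = (algebraMap A' L).range := ⟨_, rfl⟩
  have hxR : x ∉ Rg := by
    rw [hRg]
    rintro ⟨a, ha⟩
    exact hcon ⟨a, ha⟩
  letI : Algebra A' Rg := ((algebraMap A' L).codRestrict Rg (fun a => by rw [hRg]; exact ⟨a, rfl⟩)).toAlgebra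
  haveI : IsScalarTower A' Rg L := IsScalarTower.of_algebraMap_eq (fun a => rfl)
  haveI : Algebra.IsIntegral A' Rg := by
    apply Algebra.isIntegral_of_surjective
    rintro ⟨y, hy⟩
    rw [hRg] at hy
    obtain ⟨a, ha⟩ := hy
    exact ⟨a, Subtype.ext ha⟩
  haveI : IsIntegrallyClosedIn Rg L := by
    rw [Subring.isIntegrallyClosedIn_iff]
    intro y hy
    have hy' : IsIntegral A' y := isIntegral_trans y hy
    obtain ⟨a, ha⟩ := IsIntegrallyClosed.isIntegral_iff.mp hy'
    rw [hRg]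
    exact ⟨a, ha⟩
  obtain ⟨V, hV1, hV2⟩ := Subring.exists_le_valuationSubring_of_isIntegrallyClosedIn hxR
  apply hV2
  apply hx
  intro a
  apply hV1
  rw [hRg]
  exact ⟨a, rfl⟩

/-- elements of `L ⊗[A'] C` have denominators -/
theorem exists_smul_eq_one_tmul {C : Type*} [CommRing C] [Algebra A' C] (e : L ⊗[A'] C) :
    ∃ s : A', s ≠ 0 ∧ ∃ b : C, s • e = 1 ⊗ₜ b := by
  induction e using TensorProduct.induction_on with
  | zero => exact ⟨1, one_ne_zero, 0, by simp⟩
  | tmul l c =>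
    obtain ⟨a, s, hs, rfl⟩ := IsFractionRing.div_surjective (A := A') l
    refine ⟨s, nonZeroDivisors.ne_zero hs, a • c, ?_⟩
    have hs0 : algebraMap A' L s ≠ 0 := by
      intro h
      exact nonZeroDivisors.ne_zero hs ((IsFractionRing.injective A' L) (by rw [h, map_zero]))
    rw [TensorProduct.smul_tmul', TensorProduct.tmul_smul, TensorProduct.smul_tmul']
    congr 1
    rw [Algebra.smul_def, Algebra.smul_def, mul_one]
    field_simp
  | add x y hx hy =>
    obtain ⟨s₁, h1, b₁, e1⟩ := hx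
    obtain ⟨s₂, h2, b₂, e2⟩ := hy
    refine ⟨s₁ * s₂, mul_ne_zero h1 h2, s₂ • b₁ + s₁ • b₂, ?_⟩
    rw [smul_add, mul_smul, mul_comm s₁ s₂, mul_smul, smul_comm s₁ s₂ x, e1, smul_comm s₂ s₁ y, e2,
      TensorProduct.tmul_add, TensorProduct.tmul_smul, TensorProduct.tmul_smul]

set_option synthInstance.maxHeartbeats 400000 in
set_option maxHeartbeats 1000000 in
/-- **Key step**: idempotents of the generic fibre of a weakly étale algebra over a normal domain
extend. -/
theorem exists_eq_one_tmul_of_isIdempotentElem [IsIntegrallyClosed A'] {C : Type*} [CommRing C]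
    [Algebra A' C] [Algebra.WeaklyEtale A' C] (e : L ⊗[A'] C) (he : IsIdempotentElem e) :
    ∃ c : C, e = 1 ⊗ₜ c := by
  classical
  -- denominators
  obtain ⟨s, hs0, b, hsb⟩ := exists_smul_eq_one_tmul e
  have hsL : algebraMap A' L s ≠ 0 := by
    intro h
    exact hs0 ((IsFractionRing.injective A' L) (by rw [h, map_zero]))
  have hinj : Function.Injective (Algebra.TensorProduct.includeRight : C →ₐ[A'] L ⊗[A'] C) :=
    Algebra.TensorProduct.includeRight_injective (IsFractionRing.injective A' L)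
  have hbb : b * b = s • b := by
    apply hinj
    show (1 : L) ⊗ₜ[A'] (b * b) = 1 ⊗ₜ (s • b)
    rw [TensorProduct.tmul_smul, ← hsb]
    have : (1 : L) ⊗ₜ[A'] (b * b) = (1 ⊗ₜ b) * (1 ⊗ₜ b) := by
      rw [Algebra.TensorProduct.tmul_mul_tmul, mul_one]
    rw [this, ← hsb, smul_mul_smul_comm, he.eq, mul_smul]
  -- the valuation rings
  obtain ⟨𝒱, h𝒱⟩ : ∃ 𝒱 : Subalgebra A'
      ({V : ValuationSubring L // ∀ a : A', algebraMap A' L a ∈ V} → L),
      ∀ w, w ∈ 𝒱 ↔ ∀ i, w i ∈ i.1 :=
    ⟨{ carrier := {w | ∀ i, w i ∈ i.1}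
       mul_mem' := fun ha hb i => i.1.mul_mem _ _ (ha i) (hb i)
       one_mem' := fun i => i.1.one_mem
       add_mem' := fun ha hb i => i.1.add_mem _ _ (ha i) (hb i)
       zero_mem' := fun i => i.1.zero_mem
       algebraMap_mem' := fun a i => i.2 a }, fun w => Iff.rfl⟩
  have hP : PBez 𝒱 := pbez_of_forall_mem_iff (fun i => i.1) 𝒱 h𝒱
  -- regularity of `s`
  have hsreg : IsSMulRegular 𝒱 (algebraMap A' 𝒱 s) := by
    intro z z' hzz'
    ext i
    have := congrArg (fun w : 𝒱 => w.1 i) hzz'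
    simp only [smul_eq_mul, Subalgebra.coe_mul, Pi.mul_apply, Subalgebra.coe_algebraMap,
      Pi.algebraMap_apply] at this
    exact mul_left_cancel₀ hsL this
  have hsreg' : IsSMulRegular (𝒱 ⊗[A'] C) (algebraMap 𝒱 (𝒱 ⊗[A'] C) (algebraMap A' 𝒱 s)) :=
    IsSMulRegular.of_flat hsreg
  have hs' : ∀ c : 𝒱 ⊗[A'] C, (algebraMap A' 𝒱 s) • c = 0 → c = 0 := by
    intro c hc
    apply hsreg'
    simp only [smul_eq_mul, mul_zero, ← Algebra.smul_def]
    exact hc
  have hbb' : ((1 : 𝒱) ⊗ₜ[A'] b) * (1 ⊗ₜ b) = (algebraMap A' 𝒱 s) • ((1 : 𝒱) ⊗ₜ[A'] b) := by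
    rw [Algebra.TensorProduct.tmul_mul_tmul, mul_one, hbb, algebraMap_smul,
      TensorProduct.tmul_smul]
  obtain ⟨w, hw⟩ := exists_eq_smul_of_mul_self_eq (R := 𝒱) (C := 𝒱 ⊗[A'] C)
    (fun N => PBez.flat_submodule hP (M := 𝒱 ⊗[A'] C) N) _ _ hs' hbb'
  rw [algebraMap_smul] at hw
  -- exactness
  obtain ⟨dg, hdg⟩ : ∃ dg : L →ₗ[A'] ({V : ValuationSubring L // ∀ a : A', algebraMap A' L a ∈ V} → L),
      dg = LinearMap.pi (fun _ => LinearMap.id) := ⟨_, rfl⟩
  obtain ⟨q, hq⟩ : ∃ q : ({V : ValuationSubring L // ∀ a : A', algebraMap A' L a ∈ V} → L) →ₗ[A']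
      (_ ⧸ (Subalgebra.toSubmodule 𝒱)), q = Submodule.mkQ _ := ⟨_, rfl⟩
  have hexact : Function.Exact (Algebra.linearMap A' L) (q ∘ₗ dg) := by
    intro x
    rw [LinearMap.comp_apply, hq, Submodule.mkQ_apply, Submodule.Quotient.mk_eq_zero]
    constructor
    · intro hx
      have hx' : dg x ∈ 𝒱 := hx
      rw [h𝒱] at hx'
      obtain ⟨a, ha⟩ := exists_algebraMap_eq_of_forall_mem_valuationSubring x
        (fun V hV => by simpa [hdg] using hx' ⟨V, hV⟩)
      exact ⟨a, ha⟩
    · rintro ⟨a, rfl⟩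
      show dg _ ∈ 𝒱
      rw [h𝒱]
      intro i
      simpa [hdg] using i.2 a
  have hexact' := Module.Flat.rTensor_exact C hexact
  -- the two images agree in `𝒲 ⊗ C`
  have hcancel : ∀ X Y : ({V : ValuationSubring L // ∀ a : A', algebraMap A' L a ∈ V} → L) ⊗[A'] C,
      s • X = s • Y → X = Y := by
    obtain ⟨m, hm⟩ : ∃ m : ({V : ValuationSubring L // ∀ a : A', algebraMap A' L a ∈ V} → L) →ₗ[A']
        ({V : ValuationSubring L // ∀ a : A', algebraMap A' L a ∈ V} → L),
        m = (LinearMap.lsmul L _ (algebraMap A' L s)⁻¹).restrictScalars A' := ⟨_, rfl⟩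
    have hmX : ∀ X, (m.rTensor C) (s • X) = X := by
      intro X
      induction X using TensorProduct.induction_on with
      | zero => simp
      | tmul w c =>
        rw [TensorProduct.smul_tmul', LinearMap.rTensor_tmul, hm]
        congr 1
        ext i
        show (algebraMap A' L s)⁻¹ • (s • w) i = w i
        rw [Pi.smul_apply, smul_eq_mul, Algebra.smul_def, ← mul_assoc, inv_mul_cancel₀ hsL,
          one_mul]
      | add x y hx hy => rw [smul_add, map_add, hx, hy]
    intro X Y h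
    rw [← hmX X, ← hmX Y, h]
  have himg : (dg.rTensor C) e = ((Subalgebra.val 𝒱).toLinearMap.rTensor C) w := by
    apply hcancel
    rw [← map_smul, ← map_smul, hsb, ← hw, LinearMap.rTensor_tmul, LinearMap.rTensor_tmul]
    congr 1
    rw [hdg]
    ext i
    simp
  have hzero : ((q ∘ₗ dg).rTensor C) e = 0 := by
    rw [LinearMap.rTensor_comp, LinearMap.comp_apply, himg, ← LinearMap.comp_apply,
      ← LinearMap.rTensor_comp]
    have : q ∘ₗ (Subalgebra.val 𝒱).toLinearMap = 0 := by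
      ext z
      rw [LinearMap.comp_apply, hq, Submodule.mkQ_apply, LinearMap.zero_apply,
        Submodule.Quotient.mk_eq_zero]
      exact z.2
    rw [this, LinearMap.rTensor_zero, LinearMap.zero_apply]
  obtain ⟨t, ht⟩ := (hexact' e).mp hzero
  have hfin : ∀ t : A' ⊗[A'] C, ∃ c : C, ((Algebra.linearMap A' L).rTensor C) t = 1 ⊗ₜ c := by
    intro t
    induction t using TensorProduct.induction_on with
    | zero => exact ⟨0, by simp⟩
    | tmul a c =>
      refine ⟨a • c, ?_⟩
      rw [LinearMap.rTensor_tmul, Algebra.linearMap_apply, Algebra.algebraMap_eq_smul_one,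
        TensorProduct.smul_tmul]
    | add x y hx hy =>
      obtain ⟨c₁, h1⟩ := hx
      obtain ⟨c₂, h2⟩ := hy
      exact ⟨c₁ + c₂, by rw [map_add, h1, h2, TensorProduct.tmul_add]⟩
  obtain ⟨c, hc⟩ := hfin t
  exact ⟨c, by rw [← ht, hc]⟩

end

end Groth.Agent.Lib.Helper86.Olivier
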