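import Mathlib
import Groth.Agent.Lib.Helper10.WEField
import Groth.Agent.Lib.Helper37.HenselIdem

/-!
# Olivier's theorem, part C (helper86)

* closed fibre of a weakly étale local homomorphism over a local ring with separably closed residue
  field;
* idempotents of `A' ⊗[A] B` are trivial for `A'` an integral domain integral over the henselian `A`.
-/

namespace Groth.Agent.Lib.Helper86.Olivier

open TensorProduct IsLocalRing

universe u

section ClosedFibre

variable {A B : Type u} [CommRing A] [CommRing B] [IsLocalRing A] [IsLocalRing B]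
  [Algebra A B] [IsLocalHom (algebraMap A B)] [Algebra.WeaklyEtale A B]

theorem map_maximalIdeal_eq_maximalIdeal :
    (maximalIdeal A).map (algebraMap A B) = maximalIdeal B := by
  classical
  have hle : (maximalIdeal A).map (algebraMap A B) ≤ maximalIdeal B :=
    ((IsLocalRing.local_hom_TFAE (algebraMap A B)).out 0 2).mp ‹_›
  have hne : (maximalIdeal A).map (algebraMap A B) ≠ ⊤ := by
    intro h
    rw [h] at hle
    exact (maximalIdeal.isMaximal B).ne_top (top_le_iff.mp hle)
  letI fieldK : Field (A ⧸ maximalIdeal A) := Ideal.Quotient.field (maximalIdeal A)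
  have e := Algebra.TensorProduct.quotIdealMapEquivQuotTensor B (maximalIdeal A)
  haveI : Algebra.WeaklyEtale (A ⧸ maximalIdeal A)
      (B ⧸ (maximalIdeal A).map (algebraMap A B)) :=
    Groth.Agent.Lib.Helper10.WE.weaklyEtale_of_algEquiv e.symm
  have vnr := Groth.Agent.Lib.Helper10.WE.exists_eq_sq_mul_of_field (A ⧸ maximalIdeal A)
    (B ⧸ (maximalIdeal A).map (algebraMap A B))
  haveI : Nontrivial (B ⧸ (maximalIdeal A).map (algebraMap A B)) := Ideal.Quotient.nontrivial_iff.mpr hne
  haveI : IsLocalRing (B ⧸ (maximalIdeal A).map (algebraMap A B)) :=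
    IsLocalRing.of_surjective' (Ideal.Quotient.mk _) Ideal.Quotient.mk_surjective
  have hfield := Groth.Agent.Lib.Helper10.WE.isField_of_isLocalRing_of_vnr vnr
  have hmaxl : ((maximalIdeal A).map (algebraMap A B)).IsMaximal :=
    Ideal.Quotient.maximal_of_isField _ hfield
  exact IsLocalRing.eq_maximalIdeal hmaxl

theorem exists_sub_mem_map_maximalIdeal [IsSepClosed (ResidueField A)] (b : B) :
    ∃ a : A, b - algebraMap A B a ∈ (maximalIdeal A).map (algebraMap A B) := by
  have hsep := Groth.Agent.Lib.Helper10.WE.isSeparable_residueField_of_weaklyEtale A B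
  have hsurj : Function.Surjective (algebraMap (ResidueField A) (ResidueField B)) :=
    IsSepClosed.algebraMap_surjective (ResidueField A) (ResidueField B)
  obtain ⟨x, hx⟩ := hsurj (residue B b)
  obtain ⟨a, rfl⟩ := residue_surjective x
  refine ⟨a, ?_⟩
  rw [map_maximalIdeal_eq_maximalIdeal, ← residue_eq_zero_iff, map_sub, ← hx]
  exact sub_eq_zero.mpr rfl

end ClosedFibre

section Idempotents

variable {A B A' : Type*} [CommRing A] [HenselianLocalRing A] [CommRing B] [IsLocalRing B]
  [Algebra A B] [IsLocalHom (algebraMap A B)] [Module.Flat A B]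
  [CommRing A'] [IsDomain A'] [Algebra A A'] [Algebra.IsIntegral A A']

set_option synthInstance.maxHeartbeats 400000 in
set_option maxHeartbeats 1000000 in
/-- idempotents of `A' ⊗[A] B` are trivial -/
theorem eq_zero_or_eq_one_of_isIdempotentElem
    (hres : ∀ b : B, ∃ a : A, b - algebraMap A B a ∈ (maximalIdeal A).map (algebraMap A B))
    (e : A' ⊗[A] B) (he : IsIdempotentElem e) : e = 0 ∨ e = 1 := by
  classical
  obtain ⟨𝔐, h𝔐⟩ : ∃ 𝔐 : Ideal (A' ⊗[A] B),
      𝔐 = ((maximalIdeal A).map (algebraMap A A')).map (algebraMap A' (A' ⊗[A] B)) := ⟨_, rfl⟩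
  have h𝔐' : 𝔐 = (maximalIdeal A).map (algebraMap A (A' ⊗[A] B)) := by
    rw [h𝔐, Ideal.map_map, ← IsScalarTower.algebraMap_eq]
  -- `1 ⊗ n ∈ 𝔐` for `n ∈ m_A B`
  have hinclR : ∀ a : A, (1 : A') ⊗ₜ[A] (algebraMap A B a) = algebraMap A (A' ⊗[A] B) a := by
    intro a
    rw [Algebra.algebraMap_eq_smul_one, Algebra.algebraMap_eq_smul_one (A := A' ⊗[A] B),
      TensorProduct.tmul_smul, Algebra.TensorProduct.one_def]
  have hn : ∀ n ∈ (maximalIdeal A).map (algebraMap A B), (1 : A') ⊗ₜ[A] n ∈ 𝔐 := by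
    have : (maximalIdeal A).map (algebraMap A B) ≤
        𝔐.comap (Algebra.TensorProduct.includeRight : B →ₐ[A] A' ⊗[A] B).toRingHom := by
      rw [Ideal.map_le_iff_le_comap]
      intro a ha
      rw [Ideal.mem_comap, Ideal.mem_comap]
      show (1 : A') ⊗ₜ[A] (algebraMap A B a) ∈ 𝔐
      rw [hinclR, h𝔐']
      exact Ideal.mem_map_of_mem _ ha
    intro n hn
    exact this hn
  -- every element is congruent to some `r ⊗ 1`
  have hcong : ∀ t : A' ⊗[A] B, ∃ r : A', t - r ⊗ₜ 1 ∈ 𝔐 := by
    intro t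
    induction t using TensorProduct.induction_on with
    | zero => exact ⟨0, by simp⟩
    | tmul r b =>
      obtain ⟨a, ha⟩ := hres b
      refine ⟨a • r, ?_⟩
      have : r ⊗ₜ[A] b - (a • r) ⊗ₜ[A] (1 : B) = (r ⊗ₜ 1) * (1 ⊗ₜ (b - algebraMap A B a)) := by
        rw [Algebra.TensorProduct.tmul_mul_tmul, mul_one, one_mul, TensorProduct.tmul_sub,
          TensorProduct.smul_tmul, Algebra.algebraMap_eq_smul_one]
      rw [this]
      exact Ideal.mul_mem_left _ _ (hn _ ha)
    | add x y hx hy =>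
      obtain ⟨r₁, h1⟩ := hx
      obtain ⟨r₂, h2⟩ := hy
      refine ⟨r₁ + r₂, ?_⟩
      have : x + y - (r₁ + r₂) ⊗ₜ[A] (1 : B) = (x - r₁ ⊗ₜ 1) + (y - r₂ ⊗ₜ 1) := by
        rw [TensorProduct.add_tmul]; ring
      rw [this]
      exact Ideal.add_mem _ h1 h2
  -- faithful flatness
  haveI : Module.FaithfullyFlat A B := Module.FaithfullyFlat.of_flat_of_isLocalHom
  have hcomap : 𝔐.comap (algebraMap A' (A' ⊗[A] B)) = (maximalIdeal A).map (algebraMap A A') := by
    rw [h𝔐]
    exact Ideal.comap_map_eq_self_of_faithfullyFlat _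
  -- `𝔐` is in the Jacobson radical
  have hjac : 𝔐 ≤ Ideal.jacobson ⊥ := by
    letI algBD : Algebra B (A' ⊗[A] B) :=
      (Algebra.TensorProduct.includeRight : B →ₐ[A] A' ⊗[A] B).toRingHom.toAlgebra
    have halg : ∀ b : B, algebraMap B (A' ⊗[A] B) b = 1 ⊗ₜ b := fun b => rfl
    haveI : IsScalarTower A B (A' ⊗[A] B) := IsScalarTower.of_algebraMap_eq (fun a => by
      rw [halg, hinclR])
    haveI : Algebra.IsIntegral B (A' ⊗[A] B) := by
      constructor
      intro p
      induction p using TensorProduct.induction_on with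
      | zero => exact isIntegral_zero
      | tmul r b =>
        have h1 : IsIntegral B ((r ⊗ₜ[A] (1 : B) : A' ⊗[A] B)) := by
          have hr : IsIntegral A r := Algebra.IsIntegral.isIntegral r
          have := hr.map (Algebra.TensorProduct.includeLeft : A' →ₐ[A] A' ⊗[A] B)
          exact this.tower_top
        have h2 : IsIntegral B (algebraMap B (A' ⊗[A] B) b) := isIntegral_algebraMap
        have : r ⊗ₜ[A] b = (r ⊗ₜ[A] (1 : B)) * algebraMap B (A' ⊗[A] B) b := by
          rw [halg, Algebra.TensorProduct.tmul_mul_tmul, mul_one, one_mul]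
        rw [this]
        exact h1.mul h2
      | add x y hx hy => exact hx.add hy
    have h1 : (maximalIdeal A).map (algebraMap A B) ≤ Ideal.jacobson ⊥ := by
      rw [IsLocalRing.jacobson_eq_maximalIdeal ⊥ bot_ne_top]
      exact ((IsLocalRing.local_hom_TFAE (algebraMap A B)).out 0 2).mp ‹_›
    have h2 := Groth.Agent.Lib.Helper37.map_le_jacobson_of_isIntegral (B := A' ⊗[A] B) h1
    rw [Ideal.map_map, ← IsScalarTower.algebraMap_eq] at h2
    rw [h𝔐']
    exact h2
  -- now the idempotent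
  obtain ⟨r, hr⟩ := hcong e
  have hrr : r * r - r ∈ (maximalIdeal A).map (algebraMap A A') := by
    rw [← hcomap, Ideal.mem_comap]
    have e1 : algebraMap A' (A' ⊗[A] B) (r * r - r)
        = (e - r ⊗ₜ 1) * ((e - r ⊗ₜ 1) - 2 * e + 1) := by
      have : algebraMap A' (A' ⊗[A] B) (r * r - r) = (r ⊗ₜ 1) * (r ⊗ₜ 1) - r ⊗ₜ 1 := by
        rw [map_sub, map_mul]
        rfl
      rw [this]
      have he' := he.eq
      linear_combination he'
    rw [e1]
    exact Ideal.mul_mem_right _ _ hr
  obtain ⟨e₀, he₀, he₀r⟩ := Groth.Agent.Lib.Helper37.exists_idempotent_lift (maximalIdeal A) r hrr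
  have he₀' : (e₀ ⊗ₜ[A] (1 : B) : A' ⊗[A] B) - r ⊗ₜ 1 ∈ 𝔐 := by
    rw [← TensorProduct.sub_tmul, h𝔐]
    exact Ideal.mem_map_of_mem (algebraMap A' (A' ⊗[A] B)) he₀r
  have hee₀ : e - e₀ ⊗ₜ 1 ∈ 𝔐 := by
    have : e - e₀ ⊗ₜ[A] (1 : B) = (e - r ⊗ₜ 1) - (e₀ ⊗ₜ 1 - r ⊗ₜ 1) := by ring
    rw [this]
    exact Ideal.sub_mem _ hr he₀'
  rcases IsIdempotentElem.iff_eq_zero_or_one.mp he₀ with h0 | h1
  · left
    rw [h0, TensorProduct.zero_tmul, sub_zero] at hee₀
    exact Groth.Agent.Lib.Helper37.eq_of_isIdempotentElem_of_sub_mem_jacobson he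
      IsIdempotentElem.zero (by rw [sub_zero]; exact hjac hee₀)
  · right
    rw [h1] at hee₀
    exact Groth.Agent.Lib.Helper37.eq_of_isIdempotentElem_of_sub_mem_jacobson he
      IsIdempotentElem.one (hjac hee₀)

end Idempotents

end Groth.Agent.Lib.Helper86.Olivier
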