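import Mathlib
import Groth.Agent.Lib.Helper86.OlivierB
import Groth.Agent.Lib.Helper86.OlivierC

/-!
# Olivier's theorem, part D (helper86)

The geometric generic fibre of a weakly étale local algebra over a strictly henselian local domain is
trivial.
-/

namespace Groth.Agent.Lib.Helper86.Olivier

open TensorProduct IsLocalRing

universe u

section DFL

variable {A B L : Type u} [CommRing A] [IsDomain A] [HenselianLocalRing A]
  [IsSepClosed (ResidueField A)] [CommRing B] [IsLocalRing B] [Algebra A B]
  [IsLocalHom (algebraMap A B)] [Algebra.WeaklyEtale A B]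
  [Field L] [IsAlgClosed L] [Algebra A L] [Algebra.IsAlgebraic A L]

set_option synthInstance.maxHeartbeats 400000 in
set_option maxHeartbeats 1000000 in
/-- idempotents of the geometric generic fibre are trivial -/
theorem eq_zero_or_eq_one_of_isIdempotentElem_generic
    (hinj : Function.Injective (algebraMap A L)) (e : L ⊗[A] B) (he : IsIdempotentElem e) :
    e = 0 ∨ e = 1 := by
  classical
  haveI hfrac : IsFractionRing (integralClosure A L) L :=
    integralClosure.isFractionRing_of_algebraic (A := A) (L := L)
      (fun x hx => hinj (by rw [hx, map_zero]))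
  haveI hic : IsIntegrallyClosed (integralClosure A L) :=
    (isIntegrallyClosed_iff_isIntegrallyClosedIn L).mpr inferInstance
  have hres := exists_sub_mem_map_maximalIdeal (A := A) (B := B)
  have htriv : ∀ c : (integralClosure A L) ⊗[A] B, IsIdempotentElem c → c = 0 ∨ c = 1 :=
    fun c hc => eq_zero_or_eq_one_of_isIdempotentElem hres c hc
  obtain ⟨Φ, hΦ⟩ : ∃ Φ : L ⊗[integralClosure A L] ((integralClosure A L) ⊗[A] B) ≃ₐ[integralClosure A L]
      L ⊗[A] B, Φ = Algebra.TensorProduct.cancelBaseChange A (integralClosure A L)
        (integralClosure A L) L B := ⟨_, rfl⟩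
  have he' : IsIdempotentElem (Φ.symm e) := he.map Φ.symm
  obtain ⟨c, hc⟩ := exists_eq_one_tmul_of_isIdempotentElem (A' := integralClosure A L) (L := L)
    (C := (integralClosure A L) ⊗[A] B) (Φ.symm e) he'
  have hinjR : Function.Injective (Algebra.TensorProduct.includeRight :
      ((integralClosure A L) ⊗[A] B) →ₐ[integralClosure A L]
        L ⊗[integralClosure A L] ((integralClosure A L) ⊗[A] B)) :=
    Algebra.TensorProduct.includeRight_injective (IsFractionRing.injective (integralClosure A L) L)
  have hcid : IsIdempotentElem c := by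
    apply hinjR
    show (1 : L) ⊗ₜ[integralClosure A L] (c * c) = 1 ⊗ₜ c
    have : (1 : L) ⊗ₜ[integralClosure A L] (c * c) = (1 ⊗ₜ c) * (1 ⊗ₜ c) := by
      rw [Algebra.TensorProduct.tmul_mul_tmul, mul_one]
    rw [this, ← hc, he'.eq]
  rcases htriv c hcid with h0 | h1
  · left
    rw [h0, TensorProduct.tmul_zero] at hc
    exact (map_eq_zero_iff Φ.symm Φ.symm.injective).mp hc
  · right
    rw [h1] at hc
    have : Φ.symm e = 1 := hc
    exact (map_eq_one_iff Φ.symm Φ.symm.injective).mp this

set_option synthInstance.maxHeartbeats 400000 in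
set_option maxHeartbeats 1000000 in
/-- the geometric generic fibre is trivial -/
theorem algebraMap_surjective_generic (hinj : Function.Injective (algebraMap A L)) :
    Function.Surjective (algebraMap L (L ⊗[A] B)) := by
  classical
  have htriv := eq_zero_or_eq_one_of_isIdempotentElem_generic (B := B) hinj
  have vnr := Groth.Agent.Lib.Helper10.WE.exists_eq_sq_mul_of_field L (L ⊗[A] B)
  rcases subsingleton_or_nontrivial (L ⊗[A] B) with hS | hN
  · intro β
    exact ⟨0, Subsingleton.elim _ _⟩
  · haveI : NoZeroDivisors (L ⊗[A] B) := by
      constructor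
      intro x y hxy
      obtain ⟨c, hc⟩ := vnr x
      have hε : IsIdempotentElem (x * c) := by
        show x * c * (x * c) = x * c
        calc x * c * (x * c) = (x * x * c) * c := by ring
          _ = x * c := by rw [← hc]
      rcases htriv _ hε with h0 | h1
      · left
        calc x = x * x * c := hc
          _ = x * (x * c) := by ring
          _ = 0 := by rw [h0, mul_zero]
      · right
        calc y = y * (x * c) := by rw [h1, mul_one]
          _ = (x * y) * c := by ring
          _ = 0 := by rw [hxy, zero_mul]
    haveI : IsDomain (L ⊗[A] B) := NoZeroDivisors.to_isDomain _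
    haveI : Algebra.IsIntegral L (L ⊗[A] B) := by
      constructor
      intro β
      obtain ⟨P, hPm, -, hPβ⟩ :=
        Groth.Agent.Lib.Helper10.WE.exists_monic_separable_aeval_eq_zero L (L ⊗[A] B) β
      exact ⟨P, hPm, hPβ⟩
    exact (IsAlgClosed.algebraMap_bijective_of_isIntegral (k := L) (K := L ⊗[A] B)).2

end DFL

end Groth.Agent.Lib.Helper86.Olivier
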