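import Mathlib
import Groth.Agent.Lib.Helper86.OlivierD
import Groth.Agent.Lib.Helper37.HenselQuot

/-!
# Olivier's theorem, part E (helper86)

Reduction to the domain case and the final statement.
-/

namespace Groth.Agent.Lib.Helper86.Olivier

open TensorProduct IsLocalRing

universe u

section Transfer

theorem isSepClosed_of_ringEquiv {k k' : Type*} [Field k] [Field k'] [IsSepClosed k]
    (e : k ≃+* k') : IsSepClosed k' := by
  refine IsSepClosed.of_exists_root _ fun p _ hirr hsep => ?_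
  have hdeg : (p.map e.symm.toRingHom).degree ≠ 0 := by
    rw [Polynomial.degree_map]
    exact (Polynomial.degree_pos_of_irreducible hirr).ne'
  obtain ⟨x, hx⟩ := IsSepClosed.exists_root (p.map e.symm.toRingHom) hdeg hsep.map
  refine ⟨e x, ?_⟩
  have h1 : p = (p.map e.symm.toRingHom).map e.toRingHom := by
    rw [Polynomial.map_map]
    have : e.toRingHom.comp e.symm.toRingHom = RingHom.id k' := by
      ext y; simp
    rw [this, Polynomial.map_id]
  rw [h1, Polynomial.eval_map, RingEquiv.toRingHom_eq_coe]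
  show Polynomial.eval₂ (e : k →+* k') ((e : k →+* k') x) _ = 0
  rw [Polynomial.eval₂_at_apply]
  have : Polynomial.eval x (p.map e.symm.toRingHom) = 0 := hx
  rw [this, map_zero]

variable {A : Type*} [CommRing A]

theorem henselianLocalRing_quotient [HenselianLocalRing A] (p : Ideal A) (hp : p ≠ ⊤) :
    HenselianLocalRing (A ⧸ p) := by
  haveI : Nontrivial (A ⧸ p) := Ideal.Quotient.nontrivial_iff.mpr hp
  haveI : IsLocalRing (A ⧸ p) :=
    IsLocalRing.of_surjective' (Ideal.Quotient.mk p) Ideal.Quotient.mk_surjective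
  haveI : IsLocalHom (Ideal.Quotient.mk p) :=
    IsLocalHom.of_surjective _ Ideal.Quotient.mk_surjective
  have hmap : (maximalIdeal A).map (Ideal.Quotient.mk p) = maximalIdeal (A ⧸ p) := by
    refine le_antisymm (((IsLocalRing.local_hom_TFAE (Ideal.Quotient.mk p)).out 0 2).mp ‹_›) ?_
    intro x hx
    obtain ⟨a, rfl⟩ := Ideal.Quotient.mk_surjective x
    apply Ideal.mem_map_of_mem
    rw [IsLocalRing.mem_maximalIdeal, mem_nonunits_iff] at hx ⊢
    intro ha
    exact hx (ha.map _)
  have h := Groth.Agent.Lib.Helper37.henselianRing_map_of_surjective (Ideal.Quotient.mk p)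
    Ideal.Quotient.mk_surjective (maximalIdeal A)
  rw [hmap] at h
  exact { is_henselian := fun f hf a₀ h₁ h₂ => h.is_henselian f hf a₀ h₁ (h₂.map _) }

theorem isSepClosed_residueField_quotient [IsLocalRing A] [IsSepClosed (ResidueField A)]
    (p : Ideal A) [IsLocalRing (A ⧸ p)] : IsSepClosed (ResidueField (A ⧸ p)) := by
  haveI : IsLocalHom (Ideal.Quotient.mk p) :=
    IsLocalHom.of_surjective _ Ideal.Quotient.mk_surjective
  have hbij : Function.Bijective (ResidueField.map (Ideal.Quotient.mk p)) := by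
    refine ⟨RingHom.injective _, ?_⟩
    intro x
    obtain ⟨y, rfl⟩ := residue_surjective x
    obtain ⟨a, rfl⟩ := Ideal.Quotient.mk_surjective y
    exact ⟨residue A a, rfl⟩
  exact isSepClosed_of_ringEquiv (RingEquiv.ofBijective _ hbij)

end Transfer

section Epi

variable {A B : Type u} [CommRing A] [HenselianLocalRing A] [IsSepClosed (ResidueField A)]
  [CommRing B] [IsLocalRing B] [Algebra A B] [IsLocalHom (algebraMap A B)]
  [Algebra.WeaklyEtale A B]

set_option synthInstance.maxHeartbeats 400000 in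
set_option maxHeartbeats 2000000 in
/-- `A → B` is an epimorphism tested on algebraically closed fields -/
theorem ringHom_ext_of_isAlgClosed {F : Type*} [Field F] [IsAlgClosed F] (j₁ j₂ : B →+* F)
    (h : j₁.comp (algebraMap A B) = j₂.comp (algebraMap A B)) : j₁ = j₂ := by
  classical
  obtain ⟨g, hg⟩ : ∃ g : A →+* F, g = j₁.comp (algebraMap A B) := ⟨_, rfl⟩
  haveI hp : (RingHom.ker g).IsPrime := RingHom.ker_isPrime g
  haveI : HenselianLocalRing (A ⧸ RingHom.ker g) := henselianLocalRing_quotient _ hp.ne_top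
  haveI : IsSepClosed (ResidueField (A ⧸ RingHom.ker g)) := isSepClosed_residueField_quotient _
  have hginj : Function.Injective (RingHom.kerLift g) := RingHom.kerLift_injective g
  letI algAF : Algebra A F := g.toAlgebra
  letI algQF : Algebra (A ⧸ RingHom.ker g) F := (RingHom.kerLift g).toAlgebra
  haveI : IsScalarTower A (A ⧸ RingHom.ker g) F := IsScalarTower.of_algebraMap_eq (fun a => rfl)
  have hc₁ : ∀ a, j₁ (algebraMap A B a) = algebraMap A F a := fun a => by
    rw [RingHom.algebraMap_toAlgebra, hg]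
    rfl
  have hc₂ : ∀ a, j₂ (algebraMap A B a) = algebraMap A F a := fun a => by
    rw [RingHom.algebraMap_toAlgebra, hg]
    exact (RingHom.congr_fun h a).symm
  obtain ⟨J₁, hJ₁⟩ : ∃ J₁ : B →ₐ[A] F, ∀ b, J₁ b = j₁ b :=
    ⟨{ j₁ with commutes' := hc₁ }, fun b => rfl⟩
  obtain ⟨J₂, hJ₂⟩ : ∃ J₂ : B →ₐ[A] F, ∀ b, J₂ b = j₂ b :=
    ⟨{ j₂ with commutes' := hc₂ }, fun b => rfl⟩
  obtain ⟨ψ₁, hψ₁⟩ : ∃ ψ : (A ⧸ RingHom.ker g) ⊗[A] B →ₐ[A ⧸ RingHom.ker g] F,
      ∀ b, ψ (1 ⊗ₜ b) = j₁ b :=
    ⟨Algebra.TensorProduct.lift (Algebra.ofId _ F) J₁ (fun _ _ => Commute.all _ _), fun b => by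
      rw [Algebra.TensorProduct.lift_tmul, map_one, one_mul, hJ₁]⟩
  obtain ⟨ψ₂, hψ₂⟩ : ∃ ψ : (A ⧸ RingHom.ker g) ⊗[A] B →ₐ[A ⧸ RingHom.ker g] F,
      ∀ b, ψ (1 ⊗ₜ b) = j₂ b :=
    ⟨Algebra.TensorProduct.lift (Algebra.ofId _ F) J₂ (fun _ _ => Commute.all _ _), fun b => by
      rw [Algebra.TensorProduct.lift_tmul, map_one, one_mul, hJ₂]⟩
  -- `B̄` is local
  haveI : Nontrivial ((A ⧸ RingHom.ker g) ⊗[A] B) := ψ₁.toRingHom.domain_nontrivial
  have hsurjR : Function.Surjective
      (Algebra.TensorProduct.includeRight : B →ₐ[A] (A ⧸ RingHom.ker g) ⊗[A] B) := by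
    intro t
    induction t using TensorProduct.induction_on with
    | zero => exact ⟨0, map_zero _⟩
    | tmul x b =>
      obtain ⟨a, rfl⟩ := Ideal.Quotient.mk_surjective x
      refine ⟨a • b, ?_⟩
      show (1 : A ⧸ RingHom.ker g) ⊗ₜ[A] (a • b) = _
      rw [← TensorProduct.smul_tmul]
      congr 1
      rw [Algebra.smul_def, mul_one]
      rfl
    | add x y hx hy =>
      obtain ⟨b₁, rfl⟩ := hx
      obtain ⟨b₂, rfl⟩ := hy
      exact ⟨b₁ + b₂, map_add _ _ _⟩
  haveI : IsLocalRing ((A ⧸ RingHom.ker g) ⊗[A] B) :=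
    IsLocalRing.of_surjective' (Algebra.TensorProduct.includeRight :
      B →ₐ[A] (A ⧸ RingHom.ker g) ⊗[A] B).toRingHom hsurjR
  haveI hlocR : IsLocalHom (Algebra.TensorProduct.includeRight :
      B →ₐ[A] (A ⧸ RingHom.ker g) ⊗[A] B).toRingHom :=
    IsLocalHom.of_surjective _ hsurjR
  haveI : IsLocalHom (algebraMap (A ⧸ RingHom.ker g) ((A ⧸ RingHom.ker g) ⊗[A] B)) := by
    constructor
    intro x hx
    obtain ⟨a, rfl⟩ := Ideal.Quotient.mk_surjective x
    have e1 : algebraMap (A ⧸ RingHom.ker g) ((A ⧸ RingHom.ker g) ⊗[A] B)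
        (Ideal.Quotient.mk _ a) = (Algebra.TensorProduct.includeRight :
          B →ₐ[A] (A ⧸ RingHom.ker g) ⊗[A] B).toRingHom (algebraMap A B a) := by
      show _ = (1 : A ⧸ RingHom.ker g) ⊗ₜ[A] (algebraMap A B a)
      rw [Algebra.TensorProduct.algebraMap_apply, Algebra.algebraMap_eq_smul_one (A := B),
        ← TensorProduct.smul_tmul]
      congr 1
      rw [Algebra.smul_def, mul_one]
      rfl
    rw [e1] at hx
    have h2 : IsUnit (algebraMap A B a) := hlocR.map_nonunit _ hx
    have h3 : IsUnit a := IsLocalHom.map_nonunit (f := algebraMap A B) _ h2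
    exact h3.map _
  -- the algebraic closure
  haveI : Algebra.IsAlgebraic (A ⧸ RingHom.ker g)
      (AlgebraicClosure (FractionRing (A ⧸ RingHom.ker g))) :=
    (IsFractionRing.comap_isAlgebraic_iff (A := A ⧸ RingHom.ker g)
      (K := FractionRing (A ⧸ RingHom.ker g))
      (C := AlgebraicClosure (FractionRing (A ⧸ RingHom.ker g)))).mpr inferInstance
  have hinjL : Function.Injective (algebraMap (A ⧸ RingHom.ker g)
      (AlgebraicClosure (FractionRing (A ⧸ RingHom.ker g)))) := by
    rw [IsScalarTower.algebraMap_eq (A ⧸ RingHom.ker g) (FractionRing (A ⧸ RingHom.ker g))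
      (AlgebraicClosure (FractionRing (A ⧸ RingHom.ker g)))]
    exact (algebraMap (FractionRing (A ⧸ RingHom.ker g))
      (AlgebraicClosure (FractionRing (A ⧸ RingHom.ker g)))).injective.comp
      (IsFractionRing.injective (A ⧸ RingHom.ker g) (FractionRing (A ⧸ RingHom.ker g)))
  have hsurj := algebraMap_surjective_generic (A := A ⧸ RingHom.ker g)
    (B := (A ⧸ RingHom.ker g) ⊗[A] B)
    (L := AlgebraicClosure (FractionRing (A ⧸ RingHom.ker g))) hinjL
  haveI : Module.IsTorsionFree (A ⧸ RingHom.ker g)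
      (AlgebraicClosure (FractionRing (A ⧸ RingHom.ker g))) :=
    Module.isTorsionFree_iff_algebraMap_injective.mpr hinjL
  haveI : Module.IsTorsionFree (A ⧸ RingHom.ker g) F :=
    Module.isTorsionFree_iff_algebraMap_injective.mpr hginj
  obtain ⟨σ, -⟩ : ∃ σ : AlgebraicClosure (FractionRing (A ⧸ RingHom.ker g)) →ₐ[A ⧸ RingHom.ker g] F,
      True := ⟨IsAlgClosed.lift, trivial⟩
  ext b
  obtain ⟨ℓ, hℓ⟩ := hsurj ((1 : AlgebraicClosure (FractionRing (A ⧸ RingHom.ker g))) ⊗ₜ[A ⧸ RingHom.ker g]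
    ((1 : A ⧸ RingHom.ker g) ⊗ₜ[A] b))
  rw [Algebra.TensorProduct.algebraMap_apply, Algebra.algebraMap_self, RingHom.id_apply] at hℓ
  have k1 := congrArg (Algebra.TensorProduct.productMap σ ψ₁) hℓ
  have k2 := congrArg (Algebra.TensorProduct.productMap σ ψ₂) hℓ
  rw [Algebra.TensorProduct.productMap_apply_tmul, Algebra.TensorProduct.productMap_apply_tmul,
    map_one, map_one, mul_one, one_mul] at k1 k2
  rw [← hψ₁, ← hψ₂, ← k1, ← k2]

/-- `A → B` is an epimorphism tested on fields -/
theorem ringHom_ext_of_field {F : Type*} [Field F] (j₁ j₂ : B →+* F)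
    (h : j₁.comp (algebraMap A B) = j₂.comp (algebraMap A B)) : j₁ = j₂ := by
  have := ringHom_ext_of_isAlgClosed (A := A) ((algebraMap F (AlgebraicClosure F)).comp j₁)
    ((algebraMap F (AlgebraicClosure F)).comp j₂) (by rw [RingHom.comp_assoc, h, RingHom.comp_assoc])
  ext b
  exact (algebraMap F (AlgebraicClosure F)).injective (RingHom.congr_fun this b)

set_option synthInstance.maxHeartbeats 400000 in
set_option maxHeartbeats 1000000 in
/-- **Olivier's theorem**: a weakly étale local homomorphism from a strictly henselian local ring to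
a local ring is an isomorphism. -/
theorem olivier : Function.Bijective (algebraMap A B) := by
  classical
  haveI ff : Module.FaithfullyFlat A B := Module.FaithfullyFlat.of_flat_of_isLocalHom
  refine ⟨FaithfulSMul.algebraMap_injective A B, ?_⟩
  -- the diagonal ideal is contained in every prime
  have hprime : ∀ Q : Ideal (B ⊗[A] B), Q.IsPrime → KaehlerDifferential.ideal A B ≤ Q := by
    intro Q hQ
    rw [← KaehlerDifferential.span_range_eq_ideal, Ideal.span_le]
    rintro _ ⟨b, rfl⟩
    obtain ⟨π, hπ⟩ : ∃ π : B ⊗[A] B →+* FractionRing ((B ⊗[A] B) ⧸ Q),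
        π = (algebraMap _ (FractionRing ((B ⊗[A] B) ⧸ Q))).comp (Ideal.Quotient.mk Q) := ⟨_, rfl⟩
    have hj := ringHom_ext_of_field (A := A)
      (π.comp (Algebra.TensorProduct.includeLeft : B →ₐ[A] B ⊗[A] B).toRingHom)
      (π.comp (Algebra.TensorProduct.includeRight : B →ₐ[A] B ⊗[A] B).toRingHom) (by
        ext a
        simp only [RingHom.coe_comp, Function.comp_apply, AlgHom.toRingHom_eq_coe,
          RingHom.coe_coe, AlgHom.commutes])
    have hb := RingHom.congr_fun hj b
    simp only [RingHom.coe_comp, Function.comp_apply, AlgHom.toRingHom_eq_coe,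
      RingHom.coe_coe, Algebra.TensorProduct.includeLeft_apply,
      Algebra.TensorProduct.includeRight_apply] at hb
    have h0 : π ((1 : B) ⊗ₜ[A] b - b ⊗ₜ[A] (1 : B)) = 0 := by
      rw [map_sub, hb, sub_self]
    rw [hπ, RingHom.comp_apply] at h0
    have h1 := (map_eq_zero_iff _
      (IsFractionRing.injective ((B ⊗[A] B) ⧸ Q) (FractionRing ((B ⊗[A] B) ⧸ Q)))).mp h0
    exact Ideal.Quotient.eq_zero_iff_mem.mp h1
  have hnil : KaehlerDifferential.ideal A B ≤ nilradical (B ⊗[A] B) := by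
    rw [nilradical_eq_sInf]
    exact le_sInf fun Q hQ => hprime Q hQ
  -- purity
  have hμs : Function.Surjective (Algebra.TensorProduct.lmul' A (S := B)).toRingHom :=
    fun c => ⟨c ⊗ₜ 1, by simp⟩
  have hpure : (KaehlerDifferential.ideal A B).Pure :=
    Groth.Agent.Lib.Helper10.WE.pure_ker_of_flat _ hμs (Algebra.WeaklyEtale.flat_lmul' A B)
  have hzero : ∀ x ∈ KaehlerDifferential.ideal A B, x = 0 := by
    intro x hx
    obtain ⟨y, hy, hxy⟩ := Ideal.exists_eq_mul_of_pure hx
    obtain ⟨n, hn⟩ := hnil hy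
    have hpow : ∀ k : ℕ, x = x * y ^ k := by
      intro k
      induction k with
      | zero => simp
      | succ k ih =>
        calc x = x * y := hxy
          _ = (x * y ^ k) * y := by rw [← ih]
          _ = x * y ^ (k + 1) := by ring
    rw [hpow n, hn, mul_zero]
  have hbb : ∀ b : B, b ⊗ₜ[A] (1 : B) = 1 ⊗ₜ b := by
    intro b
    have := hzero _ (KaehlerDifferential.one_smul_sub_smul_one_mem_ideal A b)
    exact (sub_eq_zero.mp this).symm
  -- descent of surjectivity
  have hsurj : Function.Surjective ((Algebra.linearMap A B).lTensor B) := by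
    intro t
    induction t using TensorProduct.induction_on with
    | zero => exact ⟨0, map_zero _⟩
    | tmul b b' =>
      refine ⟨(b * b') ⊗ₜ 1, ?_⟩
      rw [LinearMap.lTensor_tmul, Algebra.linearMap_apply, map_one]
      calc (b * b') ⊗ₜ[A] (1 : B) = (b ⊗ₜ 1) * (b' ⊗ₜ 1) := by
            rw [Algebra.TensorProduct.tmul_mul_tmul, mul_one]
        _ = (b ⊗ₜ 1) * (1 ⊗ₜ b') := by rw [hbb b']
        _ = b ⊗ₜ b' := by rw [Algebra.TensorProduct.tmul_mul_tmul, mul_one, one_mul]
    | add x y hx hy =>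
      obtain ⟨x', rfl⟩ := hx
      obtain ⟨y', rfl⟩ := hy
      exact ⟨x' + y', map_add _ _ _⟩
  exact (Module.FaithfullyFlat.lTensor_surjective_iff_surjective A B _).mp hsurj

end Epi

end Groth.Agent.Lib.Helper86.Olivier
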