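import Mathlib
import Groth.Agent.Lib.Helper13.SepDiff4
import Groth.Agent.S2535

/-!
# Differentials of minimal generators of the maximal ideal are independent mod `𝔪`
(equal characteristic `p`), and extension of a family to a basis over a local ring.
-/

set_option autoImplicit false

namespace Groth.Agent.Lib.Helper86.CotangentIndep

open IsLocalRing TensorProduct KaehlerDifferential

universe u

section Inj

variable {F A : Type u} [Field F] [CommRing A] [IsLocalRing A] [Algebra F A]

/-- If the residue field of the local `F`-algebra `A` is formally smooth over `F`, then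
`𝔪/𝔪² → κ ⊗ Ω[A/F]` is injective. -/
theorem kerCotangentToTensor_injective [Algebra.FormallySmooth F (ResidueField A)] :
    Function.Injective (kerCotangentToTensor F A (ResidueField A)) := by
  have hsurj : Function.Surjective (algebraMap A (ResidueField A)) :=
    IsLocalRing.residue_surjective
  obtain ⟨φ, hφ⟩ : ∃ φ, φ = (IsScalarTower.toAlgHom F A (ResidueField A)).kerSquareLift :=
    ⟨_, rfl⟩
  have hφs : Function.Surjective φ := by
    intro z
    obtain ⟨a, rfl⟩ := hsurj z
    exact ⟨Ideal.Quotient.mk _ a, by rw [hφ]; rfl⟩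
  have hφn : IsNilpotent (RingHom.ker φ) := by
    refine ⟨2, ?_⟩
    rw [hφ]
    have := AlgHom.ker_kerSquareLift (IsScalarTower.toAlgHom F A (ResidueField A))
    exact (congrArg (· ^ 2) this).trans (Ideal.cotangentIdeal_square _)
  obtain ⟨g, hg⟩ : ∃ g, g = Algebra.FormallySmooth.liftOfSurjective
      (AlgHom.id F (ResidueField A)) φ hφs hφn := ⟨_, rfl⟩
  have hcomp : φ.comp g = AlgHom.id F (ResidueField A) := by
    rw [hg]; exact Algebra.FormallySmooth.comp_liftOfSurjective _ _ _ _
  obtain ⟨l, hl⟩ := (retractionKerCotangentToTensorEquivSection (R := F) (P := A)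
    (S := ResidueField A) hsurj).symm ⟨g, by rw [← hφ]; exact hcomp⟩
  intro a b hab
  have := congrArg l hab
  have h1 := LinearMap.congr_fun hl a
  have h2 := LinearMap.congr_fun hl b
  simp only [LinearMap.coe_comp, Function.comp_apply, LinearMap.id_coe, id_eq] at h1 h2
  rw [← h1, ← h2, this]

end Inj

section Indep

variable {F A : Type u} [Field F] [CommRing A] [IsLocalRing A] [Algebra F A]

/-- for `y ∈ 𝔪` with `1 ⊗ dy = 0` in `κ ⊗ Ω[A/ℤ]`, `y ∈ 𝔪²` (coefficient field argument). -/
theorem mem_sq_of_tmul_D_eq_zero [Algebra.FormallySmooth F (ResidueField A)] (y : A)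
    (hy : y ∈ maximalIdeal A)
    (h : (1 : ResidueField A) ⊗ₜ[A] D ℤ A y = 0) : y ∈ maximalIdeal A ^ 2 := by
  have hker : RingHom.ker (algebraMap A (ResidueField A)) = maximalIdeal A :=
    IsLocalRing.ker_residue
  have hy' : y ∈ RingHom.ker (algebraMap A (ResidueField A)) := by rw [hker]; exact hy
  have h2 : (1 : ResidueField A) ⊗ₜ[A] D F A y = 0 := by
    have := congrArg ((KaehlerDifferential.map ℤ F A A).lTensor (ResidueField A)) h
    simpa using this
  have h3 : kerCotangentToTensor F A (ResidueField A)
      (Ideal.toCotangent _ ⟨y, hy'⟩) = 0 := by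
    rw [kerCotangentToTensor_toCotangent]; exact h2
  have h4 : Ideal.toCotangent _ (⟨y, hy'⟩ : RingHom.ker (algebraMap A (ResidueField A))) = 0 :=
    kerCotangentToTensor_injective (F := F) (by rw [h3, map_zero])
  rw [Ideal.toCotangent_eq_zero] at h4
  rw [← hker]
  exact h4

theorem linearIndependent_tmul_D [IsNoetherianRing A]
    [Algebra.FormallySmooth F (ResidueField A)] {N : ℕ} (x : Fin N → A)
    (hx : Ideal.span (Set.range x) = maximalIdeal A)
    (hN : Module.finrank (ResidueField A) (CotangentSpace A) = N) :
    LinearIndependent (ResidueField A) (fun i => (1 : ResidueField A) ⊗ₜ[A] D ℤ A (x i)) := by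
  classical
  have hxm : ∀ i, x i ∈ maximalIdeal A := fun i => by
    rw [← hx]; exact Ideal.subset_span ⟨i, rfl⟩
  -- the classes of the `x i` in the cotangent space
  obtain ⟨xb, hxb⟩ : ∃ xb : Fin N → CotangentSpace A,
      xb = fun i => (maximalIdeal A).toCotangent ⟨x i, hxm i⟩ := ⟨_, rfl⟩
  have hspan : Submodule.span (ResidueField A) (Set.range xb) = ⊤ := by
    have : Set.range xb = (maximalIdeal A).toCotangent ''
        (Set.range fun i => (⟨x i, hxm i⟩ : maximalIdeal A)) := by
      rw [hxb, ← Set.range_comp]; rfl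
    rw [this, CotangentSpace.span_image_eq_top_iff]
    apply Submodule.map_injective_of_injective (maximalIdeal A).subtype_injective
    rw [Submodule.map_span, Submodule.map_top, Submodule.range_subtype, ← Set.range_comp]
    exact hx
  have hli : LinearIndependent (ResidueField A) xb :=
    linearIndependent_of_top_le_span_of_card_eq_finrank hspan.ge (by simp [hN])
  rw [Fintype.linearIndependent_iff]
  intro g hg
  choose c hc using fun i => IsLocalRing.residue_surjective (g i)
  obtain ⟨y, hydef⟩ : ∃ y : A, y = ∑ i, c i * x i := ⟨_, rfl⟩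
  have hym : y ∈ maximalIdeal A := by
    rw [hydef]
    exact Ideal.sum_mem _ fun i _ => Ideal.mul_mem_left _ _ (hxm i)
  have hDy : (1 : ResidueField A) ⊗ₜ[A] D ℤ A y = 0 := by
    rw [← hg, hydef, map_sum, TensorProduct.tmul_sum]
    refine Finset.sum_congr rfl fun i _ => ?_
    rw [Derivation.leibniz, TensorProduct.tmul_add, TensorProduct.tmul_smul,
      TensorProduct.tmul_smul, TensorProduct.smul_tmul', TensorProduct.smul_tmul',
      TensorProduct.smul_tmul']
    have h1 : (c i • (1 : ResidueField A)) = g i := by
      rw [Algebra.smul_def, mul_one]; exact hc i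
    have h2 : (x i • (1 : ResidueField A)) = 0 := by
      rw [Algebra.smul_def, mul_one]
      exact (IsLocalRing.residue_eq_zero_iff _).mpr (hxm i)
    rw [h1, h2, TensorProduct.zero_tmul, add_zero, smul_eq_mul, mul_one]
  have hy2 := mem_sq_of_tmul_D_eq_zero (F := F) y hym hDy
  have hsum : ∑ i, g i • xb i = 0 := by
    have h0 : (maximalIdeal A).toCotangent ⟨y, hym⟩ = 0 := by
      rw [Ideal.toCotangent_eq_zero]; exact hy2
    rw [← h0]
    have : (⟨y, hym⟩ : maximalIdeal A) = ∑ i, c i • (⟨x i, hxm i⟩ : maximalIdeal A) := by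
      apply Subtype.ext
      show y = _
      rw [AddSubmonoidClass.coe_finsetSum, hydef]
      rfl
    rw [this, map_sum]
    refine Finset.sum_congr rfl fun i _ => ?_
    rw [map_smul, hxb, ← hc i]
    rfl
  exact Fintype.linearIndependent_iff.mp hli g hsum

end Indep

section Extend

theorem sumExtend_inl {K V ι : Type*} [DivisionRing K] [AddCommGroup V] [Module K V] {v : ι → V}
    (hs : LinearIndependent K v) (i : ι) : Module.Basis.sumExtend hs (Sum.inl i) = v i := by
  classical
  simp [Module.Basis.sumExtend]
  rfl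

variable {A : Type u} [CommRing A] [IsLocalRing A] {M : Type u} [AddCommGroup M] [Module A M]
  [Module.Free A M] [Module.Finite A M]

/-- A family in a finite free module over a local ring which is linearly independent modulo
the maximal ideal is part of a basis. -/
theorem exists_basis_extending {N : ℕ} (v : Fin N → M)
    (hv : LinearIndependent (ResidueField A)
      (fun i => (1 : ResidueField A) ⊗ₜ[A] v i)) :
    ∃ (ι : Type u) (b : Module.Basis ι A M) (e : Fin N ↪ ι), ∀ i, b (e i) = v i := by
  classical
  obtain ⟨B, hB⟩ : ∃ B : Module.Basis (Fin N ⊕ Module.Basis.sumExtendIndex hv) (ResidueField A)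
      (ResidueField A ⊗[A] M), B = Module.Basis.sumExtend hv := ⟨_, rfl⟩
  have hsurj : Function.Surjective (TensorProduct.mk A (ResidueField A) M 1) :=
    TensorProduct.mk_surjective A M (ResidueField A) IsLocalRing.residue_surjective
  choose lift hlift using hsurj
  obtain ⟨w, hw⟩ : ∃ w : ULift.{u} (Fin N) ⊕ Module.Basis.sumExtendIndex hv → M,
      w = Sum.elim (fun i => v i.down) (fun j => lift (B (Sum.inr j))) := ⟨_, rfl⟩
  obtain ⟨B', hB'⟩ : ∃ B' : Module.Basis (ULift.{u} (Fin N) ⊕ Module.Basis.sumExtendIndex hv)
      (ResidueField A) (ResidueField A ⊗[A] M),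
      B' = B.reindex (Equiv.sumCongr Equiv.ulift.symm (Equiv.refl _)) := ⟨_, rfl⟩
  have hwB : TensorProduct.mk A (ResidueField A) M 1 ∘ w = B' := by
    funext j
    rcases j with ⟨i⟩ | j
    · simp [hw, hB', hB, sumExtend_inl]
    · simp [hw, hB', hlift]
  have hbij : Function.Bijective (Finsupp.linearCombination (ResidueField A)
      (TensorProduct.mk A (ResidueField A) M 1 ∘ w)) := by
    rw [hwB]
    have : Finsupp.linearCombination (ResidueField A) (B' : _ → _) = B'.repr.symm := by
      ext; simp
    rw [this]
    exact B'.repr.symm.bijective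
  have hbij' := Module.IsLocalRing.linearCombination_bijective_of_flat w hbij
  refine ⟨ULift.{u} (Fin N) ⊕ Module.Basis.sumExtendIndex hv,
    Module.Basis.ofRepr (LinearEquiv.ofBijective _ hbij').symm,
    ⟨fun i => Sum.inl ⟨i⟩, fun a b h => by simpa using h⟩, fun i => ?_⟩
  simp [hw]

end Extend

end Groth.Agent.Lib.Helper86.CotangentIndep
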