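import Mathlib
import Groth.Prelude.Def_W4c2azumayainvolQEt
import Groth.Agent.Lib.Helper37.HenselHom
import Groth.Agent.Lib.Helper37.HenselFinite

/-!
# Rings with involution whose fixed ring is strictly henselian

If `S = R^λ` is strictly henselian then `R` is a product of at most two strictly henselian local
rings.
-/

set_option autoImplicit false
set_option linter.style.haveILetI false
set_option linter.unusedSectionVars false

namespace Groth.Agent.Lib.Helper86.InvolHensel

open IsLocalRing Polynomial

universe u v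

/-- A local ring which is integral over a henselian local ring is henselian (argument of
helper37, `Hz30`). -/
theorem henselianLocalRing_of_isIntegral (R : Type*) [CommRing R] [HenselianLocalRing R]
    (S : Type*) [CommRing S] [IsLocalRing S] [Algebra R S] [Algebra.IsIntegral R S] :
    HenselianLocalRing S := by
  have hRh : HenselianRing R (maximalIdeal R) := inferInstance
  have hSI : HenselianRing S ((maximalIdeal R).map (algebraMap R S)) :=
    Groth.Agent.Lib.Helper37.henselianRing_map_of_isIntegral (maximalIdeal R) S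
  have hIle : (maximalIdeal R).map (algebraMap R S) ≤ maximalIdeal S := by
    have := hSI.jac
    rwa [IsLocalRing.jacobson_eq_maximalIdeal ⊥ bot_ne_top] at this
  have hrad : ∀ x ∈ maximalIdeal S, ∃ n : ℕ, x ^ n ∈ (maximalIdeal R).map (algebraMap R S) := by
    intro x hx
    have : x ∈ ((maximalIdeal R).map (algebraMap R S)).radical := by
      rw [Ideal.radical_eq_sInf, Ideal.mem_sInf]
      rintro P ⟨hIP, hP⟩
      have h1 : maximalIdeal R = P.comap (algebraMap R S) := by
        refine (maximalIdeal.isMaximal R).eq_of_le (Ideal.comap_ne_top _ hP.ne_top) ?_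
        rw [← Ideal.map_le_iff_le_comap]
        exact hIP
      have hmax : (P.comap (algebraMap R S)).IsMaximal := h1 ▸ maximalIdeal.isMaximal R
      have : P.IsMaximal := Ideal.isMaximal_of_isIntegral_of_isMaximal_comap P hmax
      rw [IsLocalRing.eq_maximalIdeal this]
      exact hx
    exact this
  have hnil : ∀ x ∈ Ideal.map (Ideal.Quotient.mk ((maximalIdeal R).map (algebraMap R S)))
      (maximalIdeal S), IsNilpotent x := by
    intro x hx
    rw [Ideal.mem_map_iff_of_surjective _ Ideal.Quotient.mk_surjective] at hx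
    obtain ⟨y, hy, rfl⟩ := hx
    obtain ⟨n, hn⟩ := hrad y hy
    exact ⟨n, by rw [← map_pow, Ideal.Quotient.eq_zero_iff_mem]; exact hn⟩
  have hQ : HenselianRing (S ⧸ (maximalIdeal R).map (algebraMap R S))
      (Ideal.map (Ideal.Quotient.mk _) (maximalIdeal S)) :=
    Groth.Agent.Lib.Helper3.henselianRing_of_forall_isNilpotent _ hnil
  have : HenselianRing S (maximalIdeal S) := Groth.Agent.Lib.Helper37.henselianRing_of_quotient hIle
  exact Groth.Agent.Lib.Helper37.henselianLocalRing_of_henselianRing S

section Integral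

variable {S : Type u} {T : Type v} [CommRing S] [CommRing T] [IsLocalRing S] [IsLocalRing T]
  [Algebra S T] [Algebra.IsIntegral S T]

theorem comap_maximalIdeal_of_isIntegral :
    (maximalIdeal T).comap (algebraMap S T) = maximalIdeal S :=
  IsLocalRing.eq_maximalIdeal
    (Ideal.isMaximal_comap_of_isIntegral_of_isMaximal (R := S) (maximalIdeal T))

theorem isLocalHom_of_isIntegral : IsLocalHom (algebraMap S T) := by
  constructor
  intro s hs
  by_contra hns
  have h1 : s ∈ maximalIdeal S := (IsLocalRing.mem_maximalIdeal s).mpr hns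
  rw [← comap_maximalIdeal_of_isIntegral (T := T), Ideal.mem_comap] at h1
  exact (IsLocalRing.mem_maximalIdeal _).mp h1 hs

theorem isSepClosed_residueField_of_isIntegral [IsSepClosed (ResidueField S)] :
    IsSepClosed (ResidueField T) := by
  haveI : IsLocalHom (algebraMap S T) := isLocalHom_of_isIntegral
  haveI : Algebra.IsIntegral S (ResidueField T) := Algebra.IsIntegral.trans T
  haveI : Algebra.IsIntegral (ResidueField S) (ResidueField T) :=
    Algebra.IsIntegral.tower_top (R := S)
  exact Algebra.IsAlgebraic.isSepClosed (F := ResidueField S)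

end Integral

/-- A quotient with exactly one maximal ideal above is local. -/
theorem isLocalRing_quotient_of_unique {R : Type*} [CommRing R] (I M : Ideal R) (hM : M.IsMaximal)
    (hIM : I ≤ M) (huniq : ∀ N : Ideal R, N.IsMaximal → I ≤ N → N = M) :
    IsLocalRing (R ⧸ I) := by
  haveI : Nontrivial (R ⧸ I) :=
    Ideal.Quotient.nontrivial_iff.mpr (fun h => hM.ne_top (top_le_iff.mp (h ▸ hIM)))
  obtain ⟨N₀, hN₀⟩ := Ideal.exists_maximal (R ⧸ I)
  have key : ∀ N : Ideal (R ⧸ I), N.IsMaximal → N = M.map (Ideal.Quotient.mk I) := by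
    intro N hN
    have h1 : (N.comap (Ideal.Quotient.mk I)).IsMaximal :=
      Ideal.comap_isMaximal_of_surjective _ Ideal.Quotient.mk_surjective
    have h2 : I ≤ N.comap (Ideal.Quotient.mk I) := by
      intro x hx
      rw [Ideal.mem_comap, Ideal.Quotient.eq_zero_iff_mem.mpr hx]
      exact N.zero_mem
    rw [← huniq _ h1 h2, Ideal.map_comap_of_surjective _ Ideal.Quotient.mk_surjective]
  exact IsLocalRing.of_unique_max_ideal ⟨N₀, hN₀, fun N hN => (key N hN).trans (key N₀ hN₀).symm⟩

section Finish

theorem finish (S : Type u) {R : Type v} [CommRing S] [CommRing R] [Algebra S R]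
    [HenselianLocalRing S] [IsSepClosed (ResidueField S)] [Algebra.IsIntegral S R]
    {k : ℕ} (I : Fin k → Ideal R) (hcop : Pairwise (Function.onFun IsCoprime I))
    (hinf : ⨅ i, I i = ⊥) (hloc : ∀ i, IsLocalRing (R ⧸ I i)) :
    ∃ (ι : Type) (_ : Fintype ι) (T : ι → Type v) (_ : ∀ i, CommRing (T i))
      (_ : ∀ i, HenselianLocalRing (T i)),
      (∀ i, IsSepClosed (IsLocalRing.ResidueField (T i))) ∧ Nonempty (R ≃+* (∀ i, T i)) := by
  refine ⟨Fin k, inferInstance, fun i => R ⧸ I i, fun i => inferInstance,
    fun i => @henselianLocalRing_of_isIntegral S _ _ (R ⧸ I i) _ (hloc i) _ _, ?_, ?_⟩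
  · intro i
    haveI := hloc i
    exact isSepClosed_residueField_of_isIntegral (S := S) (T := R ⧸ I i)
  · exact ⟨((RingEquiv.quotientBot R).symm.trans (Ideal.quotEquivOfEq hinf.symm)).trans
      (Ideal.quotientInfRingEquivPiQuotient I hcop)⟩

end Finish

section Invol

variable {S : Type u} {R : Type v} [CommRing S] [CommRing R] [Algebra S R]
  (lam : R ≃+* R) (hlam : Function.Involutive lam) (hS : RInv.IsFixedRing S R lam)

include hlam hS

theorem exists_trace (r : R) : ∃ t : S, algebraMap S R t = r + lam r := by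
  have h : lam (r + lam r) = r + lam r := by rw [map_add, hlam r, add_comm]
  exact (hS.2 _).mp h

theorem exists_norm (r : R) : ∃ n : S, algebraMap S R n = r * lam r := by
  have h : lam (r * lam r) = r * lam r := by rw [map_mul, hlam r, mul_comm]
  exact (hS.2 _).mp h

omit hlam hS in
theorem monic_quad (t n : S) : (X ^ 2 + (C (-t) * X + C n) : S[X]).Monic := by
  nontriviality S
  exact monic_X_pow_add (lt_of_le_of_lt (degree_linear_le) (by norm_num))

theorem isIntegral : Algebra.IsIntegral S R := by
  refine ⟨fun r => ?_⟩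
  obtain ⟨t, ht⟩ := exists_trace lam hlam hS r
  obtain ⟨n, hn⟩ := exists_norm lam hlam hS r
  refine ⟨X ^ 2 + (C (-t) * X + C n), monic_quad t n, ?_⟩
  simp only [eval₂_add, eval₂_pow, eval₂_X, eval₂_mul, eval₂_C, map_neg, eval₂_neg, ht, hn]
  ring

theorem exists_idempotent [HenselianLocalRing S] (M M' : Ideal R) (hM : M.IsMaximal)
    (hM' : M'.IsMaximal) (hne : M' ≠ M) (hmem' : ∀ r, r ∈ M' ↔ lam r ∈ M)
    (hcM : M.comap (algebraMap S R) = maximalIdeal S)
    (hcM' : M'.comap (algebraMap S R) = maximalIdeal S) :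
    ∃ e : R, IsIdempotentElem e ∧ e ∈ M ∧ 1 - e ∈ M' := by
  have hsup : M ⊔ M' = ⊤ := hM.coprime_of_ne hM' (Ne.symm hne)
  obtain ⟨a, ha, b, hb, hab⟩ := Submodule.mem_sup.mp ((Ideal.eq_top_iff_one _).mp hsup)
  have hlamM : ∀ r ∈ M, lam r ∈ M' := fun r hr => (hmem' _).mpr (by rw [hlam r]; exact hr)
  obtain ⟨τ, hτ⟩ := exists_trace lam hlam hS a
  obtain ⟨ν, hν⟩ := exists_norm lam hlam hS a
  have hτ1 : τ - 1 ∈ maximalIdeal S := by
    rw [← hcM', Ideal.mem_comap, map_sub, map_one, hτ]
    have : a + lam a - 1 = lam a - b := by rw [← hab]; ring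
    rw [this]
    exact M'.sub_mem (hlamM a ha) hb
  have hν0 : ν ∈ maximalIdeal S := by
    rw [← hcM, Ideal.mem_comap, hν]
    exact M.mul_mem_right _ ha
  have hτu : IsUnit τ := by
    by_contra h
    have h1 : τ ∈ maximalIdeal S := (IsLocalRing.mem_maximalIdeal τ).mpr h
    have h2 : (1 : S) ∈ maximalIdeal S := by
      have := (maximalIdeal S).sub_mem h1 hτ1
      rwa [sub_sub_cancel] at this
    exact (Ideal.ne_top_iff_one _).mp (maximalIdeal.isMaximal S).ne_top h2
  -- Hensel
  obtain ⟨α, hα, hα0⟩ := HenselianLocalRing.is_henselian (X ^ 2 + (C (-τ) * X + C ν) : S[X])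
    (monic_quad τ ν) 0 (by simpa using hν0) (by simpa using hτu)
  rw [sub_zero] at hα0
  have hαeq : α ^ 2 - τ * α + ν = 0 := by
    have := hα
    simp only [IsRoot.def, eval_add, eval_pow, eval_X, eval_mul, eval_C] at this
    linear_combination this
  obtain ⟨u, hu⟩ : ∃ u : S, u = τ - 2 * α := ⟨_, rfl⟩
  have huu : IsUnit u := by
    by_contra h
    have h1 : u ∈ maximalIdeal S := (IsLocalRing.mem_maximalIdeal u).mpr h
    have h2 : (1 : S) ∈ maximalIdeal S := by
      have h3 : (1 : S) = u - (τ - 1) + 2 * α := by rw [hu]; ring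
      rw [h3]
      exact (maximalIdeal S).add_mem ((maximalIdeal S).sub_mem h1 hτ1)
        ((maximalIdeal S).mul_mem_left _ hα0)
    exact (Ideal.ne_top_iff_one _).mp (maximalIdeal.isMaximal S).ne_top h2
  obtain ⟨v, hv⟩ := huu.exists_right_inv
  obtain ⟨A, hA⟩ : ∃ A : R, A = algebraMap S R α := ⟨_, rfl⟩
  obtain ⟨V, hV⟩ : ∃ V : R, V = algebraMap S R v := ⟨_, rfl⟩
  have hAM : A ∈ M := by
    rw [hA, ← Ideal.mem_comap, hcM]; exact hα0
  have hAM' : A ∈ M' := by
    rw [hA, ← Ideal.mem_comap, hcM']; exact hα0
  have hUV : (a + lam a - 2 * A) * V = 1 := by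
    rw [hA, hV, ← hτ]
    have : algebraMap S R (u * v) = 1 := by rw [hv, map_one]
    rw [hu] at this
    simpa [map_mul, map_sub, map_ofNat] using this
  have hAeq : A ^ 2 - (a + lam a) * A + a * lam a = 0 := by
    have := congrArg (algebraMap S R) hαeq
    simpa [map_add, map_sub, map_mul, map_pow, hτ, hν, hA] using this
  refine ⟨(a - A) * V, ?_, M.mul_mem_right _ (M.sub_mem ha hAM), ?_⟩
  · unfold IsIdempotentElem
    have h1 : (a - A) * V * ((a - A) * V) - (a - A) * V =
        (a - A) * V * ((a - A) * V - (a + lam a - 2 * A) * V) := by rw [hUV]; ring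
    have h2 : (a - A) * V * ((a - A) * V - (a + lam a - 2 * A) * V) =
        -(V * V) * (A ^ 2 - (a + lam a) * A + a * lam a) := by ring
    rw [h2, hAeq, mul_zero] at h1
    exact sub_eq_zero.mp h1
  · have h1 : 1 - (a - A) * V = (lam a - A) * V := by
      rw [← hUV]; ring
    rw [h1]
    exact M'.mul_mem_right _ (M'.sub_mem (hlamM a ha) hAM')

theorem main [HenselianLocalRing S] [IsSepClosed (IsLocalRing.ResidueField S)] :
    ∃ (ι : Type) (_ : Fintype ι) (T : ι → Type v) (_ : ∀ i, CommRing (T i))
      (_ : ∀ i, HenselianLocalRing (T i)),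
      (∀ i, IsSepClosed (IsLocalRing.ResidueField (T i))) ∧ Nonempty (R ≃+* (∀ i, T i)) := by
  haveI := isIntegral lam hlam hS
  haveI : Nontrivial R := hS.1.nontrivial
  obtain ⟨M, hM⟩ := Ideal.exists_maximal R
  obtain ⟨M', hM'def⟩ : ∃ M' : Ideal R, M' = M.comap (lam : R →+* R) := ⟨_, rfl⟩
  have hM'max : M'.IsMaximal := by
    rw [hM'def]; exact Ideal.comap_isMaximal_of_surjective _ lam.surjective
  have hmem' : ∀ r, r ∈ M' ↔ lam r ∈ M := fun r => by rw [hM'def]; rfl
  have hcomap : ∀ N : Ideal R, N.IsMaximal → N.comap (algebraMap S R) = maximalIdeal S :=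
    fun N hN => IsLocalRing.eq_maximalIdeal
      (Ideal.isMaximal_comap_of_isIntegral_of_isMaximal (R := S) N)
  have hall : ∀ N : Ideal R, N.IsMaximal → N = M ∨ N = M' := by
    intro N hN
    by_contra hcon
    rw [not_or] at hcon
    have h1 : ¬ ((N : Set R) ⊆ (M : Set R) ∪ (M' : Set R)) := by
      rw [Ideal.subset_union]
      rintro (h | h)
      · exact hcon.1 (hN.eq_of_le hM.ne_top h)
      · exact hcon.2 (hN.eq_of_le hM'max.ne_top h)
    obtain ⟨r, hrN, hr⟩ := Set.not_subset.mp h1
    rw [Set.mem_union, not_or] at hr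
    obtain ⟨n, hn⟩ := exists_norm lam hlam hS r
    have h2 : n ∈ maximalIdeal S := by
      rw [← hcomap N hN, Ideal.mem_comap, hn]
      exact N.mul_mem_right _ hrN
    rw [← hcomap M hM, Ideal.mem_comap, hn] at h2
    rcases hM.isPrime.mem_or_mem h2 with h3 | h3
    · exact hr.1 h3
    · exact hr.2 ((hmem' r).mpr h3)
  by_cases hMM' : M' = M
  · refine finish S (fun _ : Fin 1 => (⊥ : Ideal R)) ?_ ?_ ?_
    · intro i j hij
      exact absurd (Subsingleton.elim i j) hij
    · exact iInf_const
    · intro _
      exact isLocalRing_quotient_of_unique ⊥ M hM bot_le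
        (fun N hN _ => (hall N hN).elim id (fun h => h.trans hMM'))
  · obtain ⟨e, he, heM, heM'⟩ := exists_idempotent lam hlam hS M M' hM hM'max hMM' hmem'
      (hcomap M hM) (hcomap M' hM'max)
    have hnotM' : e ∉ M' := fun h => by
      have : (1 : R) ∈ M' := by
        have := M'.add_mem h heM'
        rwa [add_sub_cancel] at this
      exact (Ideal.ne_top_iff_one _).mp hM'max.ne_top this
    have hnotM : 1 - e ∉ M := fun h => by
      have : (1 : R) ∈ M := by
        have := M.add_mem heM h
        rwa [add_sub_cancel] at this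
      exact (Ideal.ne_top_iff_one _).mp hM.ne_top this
    have h01 : IsCoprime (Ideal.span {e}) (Ideal.span {1 - e}) := by
      rw [Ideal.isCoprime_iff_sup_eq, Ideal.eq_top_iff_one]
      refine Submodule.mem_sup.mpr ⟨e, Ideal.mem_span_singleton_self e, 1 - e,
        Ideal.mem_span_singleton_self _, by ring⟩
    refine finish S ![Ideal.span {e}, Ideal.span {1 - e}] ?_ ?_ ?_
    · intro i j hij
      fin_cases i <;> fin_cases j
      · exact absurd rfl hij
      · exact h01
      · exact h01.symm
      · exact absurd rfl hij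
    · rw [eq_bot_iff]
      intro x hx
      have h0 := (Ideal.mem_iInf.mp hx) 0
      have h1 := (Ideal.mem_iInf.mp hx) 1
      simp only [Matrix.cons_val_zero, Matrix.cons_val_one] at h0 h1
      obtain ⟨c, hc⟩ := Ideal.mem_span_singleton'.mp h0
      obtain ⟨d, hd⟩ := Ideal.mem_span_singleton'.mp h1
      have he2 : e * e = e := he
      have h2 : e * x = x := by rw [← hc]; linear_combination c * he2
      have h3 : e * x = 0 := by rw [← hd]; linear_combination (-d) * he2
      rw [Ideal.mem_bot, ← h2, h3]
    · intro i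
      fin_cases i
      · refine isLocalRing_quotient_of_unique _ M hM ?_ ?_
        · simpa [Ideal.span_singleton_le_iff_mem] using heM
        · intro N hN hle
          rcases hall N hN with h | h
          · exact h
          · exfalso
            apply hnotM'
            rw [← h]
            have : Ideal.span {e} ≤ N := by simpa using hle
            exact this (Ideal.mem_span_singleton_self e)
      · refine isLocalRing_quotient_of_unique _ M' hM'max ?_ ?_
        · simpa [Ideal.span_singleton_le_iff_mem] using heM'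
        · intro N hN hle
          rcases hall N hN with h | h
          · exfalso
            apply hnotM
            rw [← h]
            have : Ideal.span {1 - e} ≤ N := by simpa using hle
            exact this (Ideal.mem_span_singleton_self _)
          · exact h

end Invol

end Groth.Agent.Lib.Helper86.InvolHensel
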