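import Mathlib.FieldTheory.Fixed
import Mathlib.FieldTheory.Galois.Basic
import Mathlib.LinearAlgebra.Matrix.NonsingularInverse
import Mathlib.LinearAlgebra.Dimension.StrongRankCondition
import Mathlib.LinearAlgebra.Basis.VectorSpace
import Mathlib.LinearAlgebra.Dimension.Constructions
import Mathlib.RingTheory.TensorProduct.Basic
import Mathlib.LinearAlgebra.TensorProduct.Tower

/-!
# Galois descent for vector spaces with a (twisted) semilinear action

`K / k` finite Galois with group `Γ = K ≃ₐ[k] K`; `M` a `K`-vector space with maps `ρ σ : M → M`,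
additive, `σ`-semilinear, multiplicative in `σ`.  Then `K ⊗[k] M^ρ → M` is bijective.
-/

set_option autoImplicit false
set_option linter.unusedSectionVars false

namespace Groth.Agent.Lib.Helper86.GaloisDescent

open Matrix TensorProduct

universe u v w

variable {k : Type u} {K : Type v} [Field k] [Field K] [Algebra k K]

section Matrix

variable [FiniteDimensional k K] [IsGalois k K]

/-- A `k`-basis of `K` indexed by the Galois group. -/
noncomputable def galBasis : Module.Basis (K ≃ₐ[k] K) k K :=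
  (Module.finBasis k K).reindex
    (Fintype.equivOfCardEq (by
      rw [Fintype.card_fin, ← Nat.card_eq_fintype_card, IsGalois.card_aut_eq_finrank]))

/-- The matrix `(σ (e τ))`. -/
noncomputable def galMatrix : Matrix (K ≃ₐ[k] K) (K ≃ₐ[k] K) K :=
  Matrix.of fun σ τ => σ (galBasis (k := k) (K := K) τ)

theorem isUnit_galMatrix [DecidableEq (K ≃ₐ[k] K)] : IsUnit (galMatrix (k := k) (K := K)) := by
  rw [← linearIndependent_rows_iff_isUnit, Fintype.linearIndependent_iff]
  intro d hd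
  have hlin := linearIndependent_toLinearMap k K K
  have hinj : Function.Injective (fun τ : K ≃ₐ[k] K => (τ : K →ₐ[k] K)) := by
    intro a b hab
    ext y
    exact congrArg (fun g : K →ₐ[k] K => g y) hab
  have hlin' := hlin.comp _ hinj
  rw [Fintype.linearIndependent_iff] at hlin'
  apply hlin' d
  apply (galBasis (k := k) (K := K)).ext
  intro τ
  have := congrFun hd τ
  simpa [galMatrix, Matrix.row, Finset.sum_apply] using this

end Matrix

section Descent

variable (k K) in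
/-- A semilinear action of the Galois group on a `K`-vector space. -/
structure SemiAction (M : Type w) [AddCommGroup M] [Module K M] where
  /-- the action -/
  ρ : (K ≃ₐ[k] K) → M → M
  map_add : ∀ σ x y, ρ σ (x + y) = ρ σ x + ρ σ y
  map_smul : ∀ σ (c : K) x, ρ σ (c • x) = σ c • ρ σ x
  one : ∀ x, ρ 1 x = x
  mul : ∀ σ τ x, ρ (σ * τ) x = ρ σ (ρ τ x)

variable {M : Type w} [AddCommGroup M] [Module K M] [Module k M] [IsScalarTower k K M]

namespace SemiAction

variable (A : SemiAction k K M)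

/-- `ρ σ` as an additive map. -/
def addHom (σ : K ≃ₐ[k] K) : M →+ M where
  toFun := A.ρ σ
  map_zero' := by
    have := A.map_smul σ 0 0
    simpa using this
  map_add' := A.map_add σ

@[simp] theorem addHom_apply (σ : K ≃ₐ[k] K) (x : M) : A.addHom σ x = A.ρ σ x := rfl

theorem map_sum {ι : Type*} (σ : K ≃ₐ[k] K) (s : Finset ι) (f : ι → M) :
    A.ρ σ (∑ i ∈ s, f i) = ∑ i ∈ s, A.ρ σ (f i) := by
  exact _root_.map_sum (A.addHom σ) f s

theorem map_zero (σ : K ≃ₐ[k] K) : A.ρ σ 0 = 0 := (A.addHom σ).map_zero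

/-- The fixed vectors, a `k`-subspace. -/
def fixed : Submodule k M where
  carrier := {x | ∀ σ, A.ρ σ x = x}
  zero_mem' := fun σ => A.map_zero σ
  add_mem' := by
    intro x y hx hy σ
    rw [A.map_add, hx σ, hy σ]
  smul_mem' := by
    intro r x hx σ
    change A.ρ σ (r • x) = r • x
    rw [← algebraMap_smul K r x, A.map_smul, AlgEquiv.commutes, hx σ]

theorem mem_fixed (x : M) : x ∈ A.fixed ↔ ∀ σ, A.ρ σ x = x := Iff.rfl

variable [FiniteDimensional k K] [IsGalois k K]

/-- The trace-like averaging operator. -/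
noncomputable def avg (τ : K ≃ₐ[k] K) (x : M) : M :=
  ∑ σ : K ≃ₐ[k] K, A.ρ σ (galBasis (k := k) (K := K) τ • x)

theorem avg_mem_fixed (τ : K ≃ₐ[k] K) (x : M) : A.avg τ x ∈ A.fixed := by
  intro σ'
  unfold avg
  rw [A.map_sum]
  simp only [← A.mul]
  exact Fintype.sum_equiv (Equiv.mulLeft σ') _ _ (fun σ => rfl)

theorem avg_eq [DecidableEq (K ≃ₐ[k] K)] (τ : K ≃ₐ[k] K) (x : M) :
    A.avg τ x = ∑ σ : K ≃ₐ[k] K, galMatrix (k := k) (K := K) σ τ • A.ρ σ x := by
  unfold avg
  refine Finset.sum_congr rfl fun σ _ => ?_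
  rw [A.map_smul]
  rfl

theorem surjective_liftBaseChange :
    Function.Surjective (A.fixed.subtype.liftBaseChange K) := by
  classical
  intro x
  obtain ⟨E, hE⟩ : ∃ E : Matrix (K ≃ₐ[k] K) (K ≃ₐ[k] K) K, E = galMatrix (k := k) (K := K) :=
    ⟨_, rfl⟩
  obtain ⟨Einv, hmul⟩ : ∃ Einv : Matrix (K ≃ₐ[k] K) (K ≃ₐ[k] K) K, E * Einv = 1 := by
    obtain ⟨U, hU⟩ := isUnit_galMatrix (k := k) (K := K)
    refine ⟨(↑(U⁻¹) : Matrix (K ≃ₐ[k] K) (K ≃ₐ[k] K) K), ?_⟩
    rw [hE, ← hU]
    exact_mod_cast U.mul_inv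
  refine ⟨∑ τ : K ≃ₐ[k] K, Einv τ 1 ⊗ₜ[k] (⟨A.avg τ x, A.avg_mem_fixed τ x⟩ : A.fixed), ?_⟩
  rw [_root_.map_sum]
  simp only [LinearMap.liftBaseChange_tmul, Submodule.subtype_apply]
  simp only [A.avg_eq, ← hE, Finset.smul_sum, smul_smul]
  rw [Finset.sum_comm]
  simp only [← Finset.sum_smul]
  have : ∀ σ : K ≃ₐ[k] K, ∑ τ : K ≃ₐ[k] K, Einv τ 1 * E σ τ = (1 : Matrix (K ≃ₐ[k] K) (K ≃ₐ[k] K) K) σ 1 := by
    intro σ
    rw [← hmul, Matrix.mul_apply]
    exact Finset.sum_congr rfl fun τ _ => mul_comm _ _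
  simp only [this, Matrix.one_apply, ite_smul, one_smul, zero_smul, Finset.sum_ite_eq',
    Finset.mem_univ, if_true]
  exact A.one x

theorem exists_repr (t : K ⊗[k] A.fixed) :
    ∃ w : (K ≃ₐ[k] K) → A.fixed, t = ∑ τ, galBasis (k := k) (K := K) τ ⊗ₜ[k] w τ := by
  induction t using TensorProduct.induction_on with
  | zero => exact ⟨fun _ => 0, by simp⟩
  | tmul c w =>
    refine ⟨fun τ => (galBasis (k := k) (K := K)).repr c τ • w, ?_⟩
    conv_lhs => rw [← (galBasis (k := k) (K := K)).sum_repr c]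
    rw [TensorProduct.sum_tmul]
    refine Finset.sum_congr rfl fun τ _ => ?_
    rw [TensorProduct.smul_tmul]
  | add x y hx hy =>
    obtain ⟨wx, rfl⟩ := hx
    obtain ⟨wy, rfl⟩ := hy
    refine ⟨fun τ => wx τ + wy τ, ?_⟩
    simp only [TensorProduct.tmul_add, Finset.sum_add_distrib]

theorem injective_liftBaseChange :
    Function.Injective (A.fixed.subtype.liftBaseChange K) := by
  classical
  rw [injective_iff_map_eq_zero]
  intro t ht
  obtain ⟨w, rfl⟩ := A.exists_repr t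
  obtain ⟨E, hE⟩ : ∃ E : Matrix (K ≃ₐ[k] K) (K ≃ₐ[k] K) K, E = galMatrix (k := k) (K := K) :=
    ⟨_, rfl⟩
  obtain ⟨Einv, hmul⟩ : ∃ Einv : Matrix (K ≃ₐ[k] K) (K ≃ₐ[k] K) K, Einv * E = 1 := by
    obtain ⟨U, hU⟩ := isUnit_galMatrix (k := k) (K := K)
    refine ⟨(↑(U⁻¹) : Matrix (K ≃ₐ[k] K) (K ≃ₐ[k] K) K), ?_⟩
    rw [hE, ← hU]
    exact_mod_cast U.inv_mul
  rw [_root_.map_sum] at ht
  simp only [LinearMap.liftBaseChange_tmul, Submodule.subtype_apply] at ht
  -- apply `ρ σ`
  have h1 : ∀ σ : K ≃ₐ[k] K, ∑ τ : K ≃ₐ[k] K, E σ τ • (w τ : M) = 0 := by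
    intro σ
    have := congrArg (A.ρ σ) ht
    rw [A.map_sum, A.map_zero] at this
    rw [← this]
    refine Finset.sum_congr rfl fun τ _ => ?_
    rw [A.map_smul, (w τ).2 σ, hE]
    rfl
  have h2 : ∀ τ' : K ≃ₐ[k] K, (w τ' : M) = 0 := by
    intro τ'
    have h3 : ∑ σ : K ≃ₐ[k] K, Einv τ' σ • ∑ τ : K ≃ₐ[k] K, E σ τ • (w τ : M) = 0 := by
      simp only [h1, smul_zero, Finset.sum_const_zero]
    simp only [Finset.smul_sum, smul_smul] at h3
    rw [Finset.sum_comm] at h3
    simp only [← Finset.sum_smul] at h3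
    have : ∀ τ : K ≃ₐ[k] K, ∑ σ : K ≃ₐ[k] K, Einv τ' σ * E σ τ = (1 : Matrix (K ≃ₐ[k] K) (K ≃ₐ[k] K) K) τ' τ := by
      intro τ
      rw [← hmul, Matrix.mul_apply]
    simp only [this, Matrix.one_apply, ite_smul, one_smul, zero_smul, Finset.sum_ite_eq,
      Finset.mem_univ, if_true] at h3
    exact h3
  have h4 : ∀ τ, w τ = 0 := fun τ => Subtype.ext (h2 τ)
  simp only [h4, TensorProduct.tmul_zero, Finset.sum_const_zero]

theorem bijective_liftBaseChange :
    Function.Bijective (A.fixed.subtype.liftBaseChange K) :=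
  ⟨A.injective_liftBaseChange, A.surjective_liftBaseChange⟩

end SemiAction

end Descent

end Groth.Agent.Lib.Helper86.GaloisDescent
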