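import Groth.Agent.Lib.Helper86.Herm2

/-!
# Hermitian matrices: diagonalisation over "hermitian-local" rings (helper86)

Setting: `φ` an involution of `A`, `ε` with `ε * ε = 1`, `M` a prime ideal such that every
`ε`-hermitian element outside `M` is a unit.
-/

set_option autoImplicit false
set_option linter.style.haveILetI false

universe w

namespace Groth.Agent.Lib.Helper86.Herm

open Matrix

variable {A : Type*} [CommRing A]

/-- reduce to sum form at an index with unit diagonal entry -/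
theorem diagble_of_unit_diag {ι : Type w} [Fintype ι] [DecidableEq ι] (φ : A →+* A) (ε : A)
    (h : Matrix ι ι A) (hh : IsUnit h) (hherm : Herm φ ε h) (i : ι) (hi : IsUnit (h i i))
    (step : ∀ g : Matrix ({j // j = i} ⊕ {j // ¬ j = i}) ({j // j = i} ⊕ {j // ¬ j = i}) A,
      IsUnit g → Herm φ ε g → IsUnit (g (Sum.inl default) (Sum.inl default)) → Diagble φ g) :
    Diagble φ h := by
  apply diagble_reindex φ (Equiv.sumCompl (· = i)).symm
  apply step _ (isUnit_reindex _ h hh) (herm_reindex φ ε _ h hherm)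
  have : Matrix.reindex (Equiv.sumCompl (· = i)).symm (Equiv.sumCompl (· = i)).symm h
      (Sum.inl default) (Sum.inl default) = h i i := by
    simp
    rfl
  rwa [this]

theorem exists_unit_diag (φ : A →+* A) (hφ : ∀ a, φ (φ a) = a) (ε : A) (hε : ε * ε = 1)
    (M : Ideal A) [hM : M.IsPrime] (HU : ∀ z, φ z = ε * z → z ∉ M → IsUnit z)
    (G : ∀ c, φ c ∉ M → ∃ t, t * c + ε * φ t * φ c ∉ M)
    {ι : Type w} [Fintype ι] [DecidableEq ι] [Nonempty ι] (h : Matrix ι ι A) (hh : IsUnit h)
    (hherm : Herm φ ε h) :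
    ∃ w : Matrix ι ι A, IsUnit w ∧ ∃ i, IsUnit (((w.map φ)ᵀ * h * w) i i) := by
  by_cases hex : ∃ i, h i i ∉ M
  · obtain ⟨i, hi⟩ := hex
    refine ⟨1, isUnit_one, i, ?_⟩
    have : ((1 : Matrix ι ι A).map φ)ᵀ * h * 1 = h := by simp
    rw [this]
    exact HU _ (herm_diag φ ε hε h hherm i) hi
  · push Not at hex
    obtain ⟨i⟩ := ‹Nonempty ι›
    obtain ⟨j, hj⟩ := exists_col_notMem M hM.ne_top h hh i
    have hji : j ≠ i := by
      rintro rfl
      exact hj (hex _)
    have hc : φ (h i j) ∉ M := by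
      intro hc
      apply hj
      rw [herm_apply φ ε h hherm j i]
      exact M.mul_mem_left _ hc
    obtain ⟨t, ht⟩ := G (h i j) hc
    refine ⟨Matrix.transvection j i t, isUnit_transvection j i hji t, i, ?_⟩
    refine HU _ (herm_diag φ ε hε _ (herm_congr φ hφ ε h _ hherm) i) ?_
    rw [transv_congr_apply]
    simp only [if_true, and_self]
    rw [herm_apply φ ε h hherm j i]
    intro hmem
    apply ht
    have : t * h i j + ε * φ t * φ (h i j) =
        (h i i + h i j * t + φ t * (ε * φ (h i j)) + φ t * h j j * t) - h i i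
          - φ t * h j j * t := by ring
    rw [this]
    exact M.sub_mem (M.sub_mem hmem (hex i)) (M.mul_mem_right _ (M.mul_mem_left _ (hex j)))

theorem diagble_of_G (φ : A →+* A) (hφ : ∀ a, φ (φ a) = a) (ε : A) (hε : ε * ε = 1)
    (M : Ideal A) [hM : M.IsPrime] (HU : ∀ z, φ z = ε * z → z ∉ M → IsUnit z)
    (G : ∀ c, φ c ∉ M → ∃ t, t * c + ε * φ t * φ c ∉ M) :
    ∀ (n : ℕ) {ι : Type w} [Fintype ι] [DecidableEq ι] (h : Matrix ι ι A),
      Fintype.card ι = n → IsUnit h → Herm φ ε h → Diagble φ h := by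
  intro n
  induction n using Nat.strong_induction_on with
  | _ n ih =>
    intro ι _ _ h hcard hh hherm
    by_cases hι : IsEmpty ι
    · exact ⟨1, isUnit_one, fun _ => 0, Subsingleton.elim _ _⟩
    · rw [not_isEmpty_iff] at hι
      obtain ⟨w, hw, i, hi⟩ := exists_unit_diag φ hφ ε hε M HU G h hh hherm
      apply diagble_congr φ h w hw
      apply diagble_of_unit_diag φ ε _ (isUnit_congr φ h w hh hw)
        (herm_congr φ hφ ε h w hherm) i hi
      intro g hgu hg hu
      apply sum_step φ hφ ε hε g hgu hg hu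
      intro s hs hsh
      exact ih (Fintype.card {j // ¬ j = i})
        (by rw [← hcard]; exact Fintype.card_subtype_lt (x := i) (by simp)) s rfl hs hsh

theorem diagble_of_skew (φ : A →+* A) (hφ : ∀ a, φ (φ a) = a) (ε : A) (hε : ε * ε = 1)
    (M : Ideal A) [hM : M.IsPrime] (HU : ∀ z, φ z = ε * z → z ∉ M → IsUnit z)
    (hid : ∀ a, φ a - a ∈ M) :
    ∀ (n : ℕ) {ι : Type w} [Fintype ι] [DecidableEq ι] (h : Matrix ι ι A),
      Fintype.card ι = n → IsUnit h → Herm φ ε h → (IsEmpty ι ∨ ∃ i, IsUnit (h i i)) →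
      Diagble φ h := by
  intro n
  induction n using Nat.strong_induction_on with
  | _ n ih =>
    intro ι _ _ h hcard hh hherm hQ
    rcases hQ with hι | ⟨i, hi⟩
    · exact ⟨1, isUnit_one, fun _ => 0, Subsingleton.elim _ _⟩
    · apply diagble_of_unit_diag φ ε h hh hherm i hi
      intro g hgu hg hu
      apply sum_step_c φ hφ ε hε M HU hid g hgu hg hu
      intro s hs hsh hsQ
      exact ih (Fintype.card {j // ¬ j = i})
        (by rw [← hcard]; exact Fintype.card_subtype_lt (x := i) (by simp)) s rfl hs hsh hsQ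

theorem exists_diag_notMem_of_odd (φ : A →+* A) (ε : A) (M : Ideal A) [hM : M.IsPrime]
    (hid : ∀ a, φ a - a ∈ M) (hε1 : ε + 1 ∈ M) {ι : Type w} [Fintype ι] [DecidableEq ι]
    (hodd : Odd (Fintype.card ι)) (h : Matrix ι ι A) (hh : IsUnit h) (hherm : Herm φ ε h) :
    ∃ i, h i i ∉ M := by
  by_contra hcon
  push Not at hcon
  have hdet : (h.map (Ideal.Quotient.mk M)).det = 0 := by
    apply det_eq_zero_of_alt _ _ _ hodd
    · intro i j
      simp only [Matrix.map_apply]
      rw [← map_neg, Ideal.Quotient.eq, herm_apply φ ε h hherm j i]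
      have : ε * φ (h i j) - -h i j = (ε + 1) * φ (h i j) - (φ (h i j) - h i j) := by ring
      rw [this]
      exact M.sub_mem (M.mul_mem_right _ hε1) (hid _)
    · intro i
      simp only [Matrix.map_apply]
      exact Ideal.Quotient.eq_zero_iff_mem.2 (hcon i)
  have hu : IsUnit (h.map (Ideal.Quotient.mk M)).det := by
    rw [← RingHom.mapMatrix_apply, ← RingHom.map_det]
    exact ((Matrix.isUnit_iff_isUnit_det _).1 hh).map _
  rw [hdet] at hu
  exact not_isUnit_zero hu

/-- Main theorem in the abstract setting. -/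
theorem diagble_main (φ : A →+* A) (hφ : ∀ a, φ (φ a) = a) (ε : A) (hε : ε * ε = 1)
    (M : Ideal A) [hM : M.IsPrime] (HU : ∀ z, φ z = ε * z → z ∉ M → IsUnit z)
    {ι : Type w} [Fintype ι] [DecidableEq ι] (h : Matrix ι ι A) (hh : IsUnit h)
    (hherm : Herm φ ε h)
    (hcase : (∀ c, φ c ∉ M → ∃ t, t * c + ε * φ t * φ c ∉ M) ∨
      ((∀ a, φ a - a ∈ M) ∧ ε + 1 ∈ M ∧ Odd (Fintype.card ι))) : Diagble φ h := by
  rcases hcase with G | ⟨hid, hε1, hodd⟩
  · exact diagble_of_G φ hφ ε hε M HU G _ h rfl hh hherm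
  · refine diagble_of_skew φ hφ ε hε M HU hid _ h rfl hh hherm (Or.inr ?_)
    obtain ⟨i, hi⟩ := exists_diag_notMem_of_odd φ ε M hid hε1 hodd h hh hherm
    exact ⟨i, HU _ (herm_diag φ ε hε h hherm i) hi⟩

end Groth.Agent.Lib.Helper86.Herm
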