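import Mathlib

/-!
# Hermitian matrices over a commutative ring with involution: congruence toolkit (helper86)

`Diagble φ h` : `h` is congruent (`(v.map φ)ᵀ * h * v`) to a diagonal matrix.
Reindexing, congruence invariance, Schur complement splitting at a `Unique` block.
-/

set_option autoImplicit false
set_option linter.style.haveILetI false

namespace Groth.Agent.Lib.Helper86.Herm

open Matrix

variable {A : Type*} [CommRing A]

/-- congruent to a diagonal matrix -/
def Diagble {ι : Type*} [Fintype ι] [DecidableEq ι] (φ : A →+* A) (h : Matrix ι ι A) : Prop :=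
  ∃ v : Matrix ι ι A, IsUnit v ∧ ∃ d : ι → A, (v.map φ)ᵀ * h * v = Matrix.diagonal d

/-- `ε`-hermitian -/
def Herm {ι : Type*} (φ : A →+* A) (ε : A) (h : Matrix ι ι A) : Prop :=
  ε • (h.map φ)ᵀ = h

theorem star_mul {l m n : Type*} [Fintype m] (φ : A →+* A) (v : Matrix l m A)
    (w : Matrix m n A) : ((v * w).map φ)ᵀ = (w.map φ)ᵀ * (v.map φ)ᵀ := by
  rw [Matrix.map_mul, Matrix.transpose_mul]

theorem star_star {m n : Type*} (φ : A →+* A) (hφ : ∀ a, φ (φ a) = a) (v : Matrix m n A) :
    (((v.map φ)ᵀ).map φ)ᵀ = v := by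
  ext i j
  simp [hφ]

theorem isUnit_star {ι : Type*} [Fintype ι] [DecidableEq ι] (φ : A →+* A) (v : Matrix ι ι A)
    (hv : IsUnit v) : IsUnit ((v.map φ)ᵀ) := by
  rw [Matrix.isUnit_iff_isUnit_det] at hv ⊢
  rw [Matrix.det_transpose, ← RingHom.mapMatrix_apply, ← RingHom.map_det]
  exact hv.map φ

theorem diagble_congr {ι : Type*} [Fintype ι] [DecidableEq ι] (φ : A →+* A) (h w : Matrix ι ι A)
    (hw : IsUnit w) (hd : Diagble φ ((w.map φ)ᵀ * h * w)) : Diagble φ h := by
  obtain ⟨v, hv, d, hvd⟩ := hd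
  refine ⟨w * v, hw.mul hv, d, ?_⟩
  rw [star_mul, ← hvd]
  simp only [Matrix.mul_assoc]

theorem herm_congr {ι : Type*} [Fintype ι] [DecidableEq ι] (φ : A →+* A)
    (hφ : ∀ a, φ (φ a) = a) (ε : A) (h w : Matrix ι ι A) (hh : Herm φ ε h) :
    Herm φ ε ((w.map φ)ᵀ * h * w) := by
  unfold Herm at hh ⊢
  rw [star_mul, star_mul, star_star φ hφ, ← Matrix.mul_smul, ← Matrix.smul_mul, hh,
    Matrix.mul_assoc]

theorem isUnit_congr {ι : Type*} [Fintype ι] [DecidableEq ι] (φ : A →+* A) (h w : Matrix ι ι A)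
    (hh : IsUnit h) (hw : IsUnit w) : IsUnit ((w.map φ)ᵀ * h * w) :=
  ((isUnit_star φ w hw).mul hh).mul hw

/-! ### reindexing -/

theorem diagble_reindex {ι κ : Type*} [Fintype ι] [DecidableEq ι] [Fintype κ] [DecidableEq κ]
    (φ : A →+* A) (e : ι ≃ κ) (h : Matrix ι ι A) (hd : Diagble φ (Matrix.reindex e e h)) :
    Diagble φ h := by
  obtain ⟨v, hv, d, hvd⟩ := hd
  refine ⟨v.submatrix e e, ?_, d ∘ e, ?_⟩
  · rw [Matrix.isUnit_iff_isUnit_det] at hv ⊢
    rwa [Matrix.det_submatrix_equiv_self]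
  · have h1 : h = (Matrix.reindex e e h).submatrix e e := by
      ext i j
      simp
    calc ((v.submatrix e e).map φ)ᵀ * h * v.submatrix e e
        = ((v.map φ)ᵀ).submatrix e e * (Matrix.reindex e e h).submatrix e e * v.submatrix e e := by
          rw [← h1]; rfl
      _ = ((v.map φ)ᵀ * Matrix.reindex e e h * v).submatrix e e := by
          rw [Matrix.submatrix_mul_equiv, Matrix.submatrix_mul_equiv]
      _ = (Matrix.diagonal d).submatrix e e := by rw [hvd]
      _ = Matrix.diagonal (d ∘ e) := Matrix.submatrix_diagonal_equiv _ _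

theorem herm_reindex {ι κ : Type*} (φ : A →+* A) (ε : A) (e : ι ≃ κ) (h : Matrix ι ι A)
    (hh : Herm φ ε h) : Herm φ ε (Matrix.reindex e e h) := by
  unfold Herm at hh ⊢
  ext i j
  have := congrFun (congrFun hh (e.symm i)) (e.symm j)
  simpa using this

theorem isUnit_reindex {ι κ : Type*} [Fintype ι] [DecidableEq ι] [Fintype κ] [DecidableEq κ]
    (e : ι ≃ κ) (h : Matrix ι ι A) (hh : IsUnit h) : IsUnit (Matrix.reindex e e h) := by
  rw [Matrix.isUnit_iff_isUnit_det] at hh ⊢
  rwa [Matrix.det_reindex_self]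

theorem herm_apply {ι : Type*} (φ : A →+* A) (ε : A) (h : Matrix ι ι A) (hh : Herm φ ε h)
    (i j : ι) : h i j = ε * φ (h j i) := by
  have := congrFun (congrFun hh i) j
  simpa using this.symm

theorem herm_diag {ι : Type*} (φ : A →+* A) (ε : A) (hε : ε * ε = 1) (h : Matrix ι ι A)
    (hh : Herm φ ε h) (i : ι) : φ (h i i) = ε * h i i := by
  have h1 := herm_apply φ ε h hh i i
  calc φ (h i i) = (ε * ε) * φ (h i i) := by rw [hε, one_mul]
    _ = ε * (ε * φ (h i i)) := by ring
    _ = ε * h i i := by rw [← h1]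

/-! ### transvections -/

theorem transv_congr_apply {ι : Type*} [Fintype ι] [DecidableEq ι] (φ : A →+* A)
    (g : Matrix ι ι A) (i j : ι) (t : A) (x y : ι) :
    (((Matrix.transvection j i t).map φ)ᵀ * g * Matrix.transvection j i t) x y =
      g x y + (if y = i then g x j * t else 0) + (if x = i then φ t * g j y else 0)
        + (if x = i ∧ y = i then φ t * g j j * t else 0) := by
  have h1 : ((Matrix.transvection j i t).map φ)ᵀ = 1 + Matrix.single i j (φ t) := by
    ext a b
    simp only [Matrix.transvection, Matrix.transpose_apply, Matrix.map_apply, Matrix.add_apply,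
      Matrix.one_apply, Matrix.single_apply]
    by_cases h1 : b = a
    · subst h1
      by_cases h2 : j = b ∧ i = b
      · obtain ⟨rfl, rfl⟩ := h2
        simp
      · have h3 : ¬ (i = b ∧ j = b) := fun h => h2 ⟨h.2, h.1⟩
        simp [h2, h3]
    · have h1' : ¬ a = b := fun h => h1 h.symm
      by_cases h2 : j = b ∧ i = a
      · have h3 : i = a ∧ j = b := ⟨h2.2, h2.1⟩
        simp [h1, h1', h2, h3]
      · have h3 : ¬ (i = a ∧ j = b) := fun h => h2 ⟨h.2, h.1⟩
        simp [h1, h1', h2, h3]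
  rw [h1, Matrix.transvection]
  simp only [Matrix.add_mul, Matrix.mul_add, Matrix.one_mul, Matrix.mul_one, Matrix.add_apply]
  by_cases hx : x = i <;> by_cases hy : y = i
  · subst hx; subst hy
    simp [Matrix.mul_assoc]
    ring
  · subst hx
    simp [hy, Matrix.mul_assoc]
  · subst hy
    simp [hx, Matrix.mul_assoc]
  · simp [hx, hy, Matrix.mul_assoc]

theorem isUnit_transvection {ι : Type*} [Fintype ι] [DecidableEq ι] (i j : ι) (hij : i ≠ j)
    (t : A) : IsUnit (Matrix.transvection i j t) := by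
  rw [Matrix.isUnit_iff_isUnit_det, Matrix.det_transvection_of_ne i j hij]
  exact isUnit_one

/-! ### rows and columns of invertible matrices -/

theorem exists_row_notMem {ι : Type*} [Fintype ι] [DecidableEq ι] (M : Ideal A) (hM : M ≠ ⊤)
    (h : Matrix ι ι A) (hh : IsUnit h) (i : ι) : ∃ j, h i j ∉ M := by
  by_contra hcon
  push Not at hcon
  obtain ⟨h', hh'⟩ := hh.exists_right_inv
  have : (1 : A) ∈ M := by
    have h1 : (h * h') i i = 1 := by rw [hh']; simp
    rw [← h1, Matrix.mul_apply]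
    exact Ideal.sum_mem _ fun j _ => M.mul_mem_right _ (hcon j)
  exact hM ((Ideal.eq_top_iff_one M).2 this)

theorem exists_col_notMem {ι : Type*} [Fintype ι] [DecidableEq ι] (M : Ideal A) (hM : M ≠ ⊤)
    (h : Matrix ι ι A) (hh : IsUnit h) (i : ι) : ∃ j, h j i ∉ M := by
  by_contra hcon
  push Not at hcon
  obtain ⟨h', hh'⟩ := hh.exists_left_inv
  have : (1 : A) ∈ M := by
    have h1 : (h' * h) i i = 1 := by rw [hh']; simp
    rw [← h1, Matrix.mul_apply]
    exact Ideal.sum_mem _ fun j _ => M.mul_mem_left _ (hcon j)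
  exact hM ((Ideal.eq_top_iff_one M).2 this)

/-! ### odd alternating matrices are singular -/

theorem det_eq_zero_of_alt {K : Type*} [CommRing K] {ι : Type*} [Fintype ι] [DecidableEq ι]
    (N : Matrix ι ι K) (hskew : ∀ i j, N j i = - N i j) (hdiag : ∀ i, N i i = 0)
    (hodd : Odd (Fintype.card ι)) : N.det = 0 := by
  rw [Matrix.det_apply]
  refine Finset.sum_involution (fun σ _ => σ⁻¹) ?_ ?_ ?_ ?_
  · intro σ _
    have h1 : ∏ i, N (σ⁻¹ i) i = - ∏ i, N (σ i) i := by
      calc ∏ i, N (σ⁻¹ i) i = ∏ j, N (σ⁻¹ (σ j)) (σ j) :=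
            (Equiv.prod_comp σ (fun i => N (σ⁻¹ i) i)).symm
        _ = ∏ j, - N (σ j) j := by
            refine Finset.prod_congr rfl fun j _ => ?_
            rw [Equiv.Perm.coe_inv, Equiv.symm_apply_apply]
            exact hskew _ _
        _ = - ∏ i, N (σ i) i := by
            rw [Finset.prod_neg, Finset.card_univ, hodd.neg_one_pow, neg_one_mul]
    rw [Equiv.Perm.sign_inv, h1, smul_neg, add_neg_cancel]
  · intro σ _ hne hσ
    apply hne
    have hσ2 : σ ^ 2 = 1 := by
      rw [pow_two]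
      nth_rewrite 1 [← hσ]
      exact inv_mul_cancel σ
    have hfix : ∃ i, σ i = i := by
      by_contra hcon
      push Not at hcon
      have hsupp : σ.support = Finset.univ := by
        ext i
        simp [hcon i]
      have h2 := Equiv.Perm.two_dvd_card_support hσ2
      rw [hsupp, Finset.card_univ] at h2
      exact (Nat.not_even_iff_odd.2 hodd) (even_iff_two_dvd.2 h2)
    obtain ⟨i, hi⟩ := hfix
    have : ∏ i, N (σ i) i = 0 := Finset.prod_eq_zero (Finset.mem_univ i) (by rw [hi, hdiag])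
    rw [this, smul_zero]
  · intro σ _
    exact Finset.mem_univ _
  · intro σ _
    exact inv_inv σ

end Groth.Agent.Lib.Helper86.Herm
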