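import Groth.Agent.Lib.Helper86.GaloisDescent
import Groth.Prelude.Def_GalDesc

/-!
# Galois descent: cocycle twists and base-changed spaces
-/

set_option autoImplicit false
set_option linter.unusedSectionVars false

namespace Groth.Agent.Lib.Helper86.GaloisDescent

open TensorProduct

universe u v w w'

variable {k : Type u} {K : Type v} [Field k] [Field K] [Algebra k K]

section Twist

variable {M : Type w} [AddCommGroup M] [Module K M] [Module k M] [IsScalarTower k K M]
  [DistribMulAction (K ≃ₐ[k] K) M] [SMulDistribClass (K ≃ₐ[k] K) K M]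

theorem cocycle_one (a : GpH1.OneCocycle (K ≃ₐ[k] K) (M ≃ₗ[K] M)) : a 1 = 1 := by
  have h := a.2 1 1
  rw [one_smul, mul_one] at h
  exact (mul_eq_left.mp h.symm)

/-- The semilinear action twisted by a cocycle. -/
def twist (a : GpH1.OneCocycle (K ≃ₐ[k] K) (M ≃ₗ[K] M)) : SemiAction k K M where
  ρ σ x := a σ (σ • x)
  map_add σ x y := by rw [smul_add, map_add]
  map_smul σ c x := by
    rw [smul_distrib_smul σ c x, map_smul]
    rfl
  one x := by
    rw [one_smul, cocycle_one a]
    rfl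
  mul σ τ x := by
    rw [a.2 σ τ, mul_smul]
    change a σ ((σ • a τ) (σ • τ • x)) = _
    rw [GalDesc.conj_smul_apply, inv_smul_smul]

theorem twist_fixed (a : GpH1.OneCocycle (K ≃ₐ[k] K) (M ≃ₗ[K] M)) :
    (twist a).fixed = GalDesc.fixedSub a := rfl

end Twist

section Range

variable [FiniteDimensional k K] [IsGalois k K]
variable {M : Type w} [AddCommGroup M] [Module K M] [Module k M] [IsScalarTower k K M]
variable {W : Type w'} [AddCommGroup W] [Module k W]

/-- Descent with the fixed space presented by an injective map. -/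
theorem SemiAction.bijective_liftBaseChange_of_range (A : SemiAction k K M) (ι : W →ₗ[k] M)
    (hι : Function.Injective ι) (hr : LinearMap.range ι = A.fixed) :
    Function.Bijective (ι.liftBaseChange K) := by
  have hmem : ∀ w, ι w ∈ A.fixed := fun w => by
    rw [← hr]
    exact LinearMap.mem_range_self ι w
  let ι' : W →ₗ[k] A.fixed := ι.codRestrict A.fixed hmem
  have hι'bij : Function.Bijective ι' := by
    refine ⟨fun x y hxy => hι (congrArg Subtype.val hxy), fun y => ?_⟩
    have : (y : M) ∈ LinearMap.range ι := by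
      rw [hr]
      exact y.2
    obtain ⟨w, hw⟩ := this
    exact ⟨w, Subtype.ext hw⟩
  let e₀ : W ≃ₗ[k] A.fixed := LinearEquiv.ofBijective ι' hι'bij
  have hcomp : ι.liftBaseChange K =
      (A.fixed.subtype.liftBaseChange K) ∘ₗ (e₀.baseChange k K W A.fixed).toLinearMap := by
    apply TensorProduct.AlgebraTensorModule.curry_injective
    ext w
    simp [e₀, ι']
  rw [hcomp]
  exact A.bijective_liftBaseChange.comp (e₀.baseChange k K W A.fixed).bijective

end Range

section Construct

variable [FiniteDimensional k K] [IsGalois k K]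
variable {M : Type w} [AddCommGroup M] [Module K M] [Module k M] [IsScalarTower k K M]
  [DistribMulAction (K ≃ₐ[k] K) M] [SMulDistribClass (K ≃ₐ[k] K) K M]
variable {W : Type w'} [AddCommGroup W] [Module k W]

/-- Key computation: `h (σ • t) = a σ (σ • h t)` for `h = ι.liftBaseChange K`. -/
theorem liftBaseChange_smul (a : GpH1.OneCocycle (K ≃ₐ[k] K) (M ≃ₗ[K] M)) (ι : W →ₗ[k] M)
    (hfix : ∀ w, ι w ∈ GalDesc.fixedSub a) (σ : K ≃ₐ[k] K) (t : K ⊗[k] W) :
    ι.liftBaseChange K (σ • t) = a σ (σ • ι.liftBaseChange K t) := by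
  induction t using TensorProduct.induction_on with
  | zero => simp
  | tmul c w =>
    rw [TensorProduct.smul_tmul', LinearMap.liftBaseChange_tmul, LinearMap.liftBaseChange_tmul,
      smul_distrib_smul σ c (ι w), map_smul, hfix w σ]
  | add x y hx hy => rw [smul_add, map_add, hx, hy, map_add, smul_add, map_add]

/-- The descent datum attached to a cocycle: the inverse of `c ⊗ w ↦ c • ι w` has cocycle `a`. -/
theorem exists_equiv_cocycle_eq (a : GpH1.OneCocycle (K ≃ₐ[k] K) (M ≃ₗ[K] M)) (ι : W →ₗ[k] M)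
    (hι : Function.Injective ι) (hW : LinearMap.range ι = GalDesc.fixedSub a) :
    ∃ g : M ≃ₗ[K] K ⊗[k] W, (∀ t, g.symm t = ι.liftBaseChange K t) ∧ GalDesc.cocycle k g = a := by
  have hbij := SemiAction.bijective_liftBaseChange_of_range (twist a) ι hι hW
  have hfix : ∀ w, ι w ∈ GalDesc.fixedSub a := fun w => by
    rw [← hW]
    exact LinearMap.mem_range_self ι w
  let h : (K ⊗[k] W) ≃ₗ[K] M := LinearEquiv.ofBijective (ι.liftBaseChange K) hbij
  refine ⟨h.symm, fun t => rfl, ?_⟩
  apply GpH1.OneCocycle.ext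
  intro σ
  apply LinearEquiv.ext
  intro x
  rw [GalDesc.cocycle_apply]
  show h (σ • h.symm (σ⁻¹ • x)) = a σ x
  have := liftBaseChange_smul a ι hfix σ (h.symm (σ⁻¹ • x))
  have h2 : ι.liftBaseChange K (h.symm (σ⁻¹ • x)) = σ⁻¹ • x := h.apply_symm_apply _
  rw [h2, smul_inv_smul] at this
  exact this

end Construct

section Untwisted

variable {W : Type w} [AddCommGroup W] [Module k W]

variable (k K) in
/-- The untwisted semilinear action on `K ⊗[k] W`. -/
def untwisted (W : Type w) [AddCommGroup W] [Module k W] : SemiAction k K (K ⊗[k] W) where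
  ρ σ x := σ • x
  map_add σ x y := smul_add σ x y
  map_smul σ c x := smul_distrib_smul σ c x
  one x := one_smul _ x
  mul σ τ x := mul_smul σ τ x

variable (k K) in
/-- A `k`-linear retraction of `k → K`. -/
theorem exists_retraction : ∃ l : K →ₗ[k] k, l 1 = 1 := by
  obtain ⟨g, hg⟩ := (Algebra.linearMap k K).exists_leftInverse_of_injective
    (LinearMap.ker_eq_bot.2 (algebraMap k K).injective)
  refine ⟨g, ?_⟩
  have := LinearMap.congr_fun hg 1
  simpa using this

/-- `c ⊗ w ↦ l c • w`. -/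
noncomputable def retr (l : K →ₗ[k] k) (W : Type w) [AddCommGroup W] [Module k W] :
    K ⊗[k] W →ₗ[k] W :=
  (TensorProduct.lid k W).toLinearMap ∘ₗ (LinearMap.rTensor W l)

@[simp] theorem retr_tmul (l : K →ₗ[k] k) (c : K) (w : W) : retr l W (c ⊗ₜ[k] w) = l c • w := by
  simp [retr]

variable [FiniteDimensional k K] [IsGalois k K]

/-- Fixed vectors of the untwisted action on `K ⊗[k] W` are of the form `1 ⊗ w`. -/
theorem eq_one_tmul_of_fixed (l : K →ₗ[k] k) (hl : l 1 = 1) (x : K ⊗[k] W)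
    (hx : ∀ σ : K ≃ₐ[k] K, σ • x = x) : x = (1 : K) ⊗ₜ[k] retr l W x := by
  set A := untwisted k K W with hA
  have hone : ∀ w : W, (1 : K) ⊗ₜ[k] w ∈ A.fixed := by
    intro w σ
    show σ • ((1 : K) ⊗ₜ[k] w) = _
    rw [TensorProduct.smul_tmul']
    congr 1
    exact map_one σ
  let j : W →ₗ[k] A.fixed := (TensorProduct.mk k K W 1).codRestrict A.fixed hone
  have hj : ∀ w, ((j w : A.fixed) : K ⊗[k] W) = (1 : K) ⊗ₜ[k] w := fun w => rfl
  let H := A.fixed.subtype.liftBaseChange K
  -- `H ∘ lTensor K j = id`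
  have h1 : ∀ n : K ⊗[k] W, H (LinearMap.lTensor K j n) = n := by
    intro n
    induction n using TensorProduct.induction_on with
    | zero => simp
    | tmul c w =>
      rw [LinearMap.lTensor_tmul]
      show c • ((j w : A.fixed) : K ⊗[k] W) = _
      rw [hj, TensorProduct.smul_tmul', smul_eq_mul, mul_one]
    | add a b ha hb => rw [map_add, map_add, ha, hb]
  have h2 : H ((1 : K) ⊗ₜ[k] (⟨x, hx⟩ : A.fixed)) = x := by
    show (1 : K) • x = x
    rw [one_smul]
  have h3 : (1 : K) ⊗ₜ[k] (⟨x, hx⟩ : A.fixed) = LinearMap.lTensor K j x :=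
    A.injective_liftBaseChange (h2.trans (h1 x).symm)
  -- apply the retraction
  have h4 : ∀ n : K ⊗[k] W, retr l A.fixed (LinearMap.lTensor K j n) = j (retr l W n) := by
    intro n
    induction n using TensorProduct.induction_on with
    | zero => simp
    | tmul c w => rw [LinearMap.lTensor_tmul, retr_tmul, retr_tmul, map_smul]
    | add a b ha hb => simp only [map_add, ha, hb]
  have h5 : (⟨x, hx⟩ : A.fixed) = j (retr l W x) := by
    have := congrArg (retr l A.fixed) h3
    rw [retr_tmul, hl, one_smul, h4] at this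
    exact this
  have := congrArg (fun y : A.fixed => (y : K ⊗[k] W)) h5
  exact this

theorem one_tmul_fixed (σ : K ≃ₐ[k] K) (w : W) : σ • ((1 : K) ⊗ₜ[k] w) = (1 : K) ⊗ₜ[k] w := by
  rw [TensorProduct.smul_tmul']
  congr 1
  exact map_one σ

theorem one_tmul_injective : Function.Injective (fun w : W => (1 : K) ⊗ₜ[k] w) := by
  obtain ⟨l, hl⟩ := exists_retraction k K
  intro w w' h
  have := congrArg (retr l W) h
  simpa [hl] using this

variable {W' : Type w'} [AddCommGroup W'] [Module k W']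

/-- A `K`-linear isomorphism `K ⊗ W ≃ K ⊗ W'` commuting with the Galois action is the base change
of a `k`-linear isomorphism. -/
theorem exists_equiv_of_equivariant (f : K ⊗[k] W ≃ₗ[K] K ⊗[k] W')
    (hf : ∀ (σ : K ≃ₐ[k] K) (x : K ⊗[k] W), f (σ • x) = σ • f x) :
    ∃ e : W ≃ₗ[k] W', ∀ w, f ((1 : K) ⊗ₜ[k] w) = (1 : K) ⊗ₜ[k] e w := by
  obtain ⟨l, hl⟩ := exists_retraction k K
  have hf' : ∀ (σ : K ≃ₐ[k] K) (y : K ⊗[k] W'), f.symm (σ • y) = σ • f.symm y := by
    intro σ y
    apply f.injective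
    rw [hf, f.apply_symm_apply, f.apply_symm_apply]
  let e₁ : W →ₗ[k] W' :=
    retr l W' ∘ₗ (f.toLinearMap.restrictScalars k) ∘ₗ (TensorProduct.mk k K W 1)
  let e₂ : W' →ₗ[k] W :=
    retr l W ∘ₗ (f.symm.toLinearMap.restrictScalars k) ∘ₗ (TensorProduct.mk k K W' 1)
  have h₁ : ∀ w, f ((1 : K) ⊗ₜ[k] w) = (1 : K) ⊗ₜ[k] e₁ w := by
    intro w
    apply eq_one_tmul_of_fixed l hl
    intro σ
    rw [← hf, one_tmul_fixed]
  have h₂ : ∀ w', f.symm ((1 : K) ⊗ₜ[k] w') = (1 : K) ⊗ₜ[k] e₂ w' := by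
    intro w'
    apply eq_one_tmul_of_fixed l hl
    intro σ
    rw [← hf', one_tmul_fixed]
  refine ⟨LinearEquiv.ofLinear e₁ e₂ ?_ ?_, h₁⟩
  · ext w'
    apply one_tmul_injective (k := k) (K := K)
    show (1 : K) ⊗ₜ[k] e₁ (e₂ w') = (1 : K) ⊗ₜ[k] w'
    rw [← h₁, ← h₂, f.apply_symm_apply]
  · ext w
    apply one_tmul_injective (k := k) (K := K)
    show (1 : K) ⊗ₜ[k] e₂ (e₁ w) = (1 : K) ⊗ₜ[k] w
    rw [← h₂, ← h₁, f.symm_apply_apply]

end Untwisted

end Groth.Agent.Lib.Helper86.GaloisDescent
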