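import Mathlib

/-!
# Semisimple modules over an algebra over a field are determined by Hom-dimensions

`nonempty_linearEquiv_of_finrank_hom_eq`: two finite-dimensional semisimple modules `N`, `N'` over a
`k`-algebra `R` of the same dimension with `dim_k Hom_R(N, T) = dim_k Hom_R(N', T)` for all simple `T`
are isomorphic.
-/

set_option autoImplicit false
set_option linter.style.haveILetI false
set_option linter.deprecated false

namespace Groth.Agent.Lib.Helper86.NoetherDeuring

universe u v

section Hom

variable {k : Type*} [Field k] {R : Type*} [Ring R] [Algebra k R]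

/-- `Hom_R(N, T)` is finite-dimensional over `k`. -/
theorem finite_hom (N T : Type*) [AddCommGroup N] [Module R N] [Module k N] [IsScalarTower k R N]
    [AddCommGroup T] [Module R T] [Module k T] [IsScalarTower k R T]
    [Module.Finite k N] [Module.Finite k T] : Module.Finite k (N →ₗ[R] T) :=
  Module.Finite.of_injective (LinearMap.restrictScalarsₗ k R N T k)
    (LinearMap.restrictScalars_injective k)

/-- A submodule of a finite-dimensional module is finite-dimensional over `k`. -/
theorem finite_submodule {N : Type*} [AddCommGroup N] [Module R N] [Module k N] [IsScalarTower k R N]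
    [Module.Finite k N] (S : Submodule R N) : Module.Finite k S :=
  Module.Finite.of_injective (S.subtype.restrictScalars k) S.injective_subtype

/-- `dim Hom(S × N₁, T) = dim Hom(S, T) + dim Hom(N₁, T)`. -/
theorem finrank_hom_of_isCompl {N T : Type*} [AddCommGroup N] [Module R N] [Module k N]
    [IsScalarTower k R N] [AddCommGroup T] [Module R T] [Module k T] [IsScalarTower k R T]
    [Module.Finite k N] [Module.Finite k T] (S N₁ : Submodule R N) (h : IsCompl S N₁) :
    Module.finrank k (N →ₗ[R] T) =
      Module.finrank k (S →ₗ[R] T) + Module.finrank k (N₁ →ₗ[R] T) := by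
  haveI := finite_submodule (k := k) S
  haveI := finite_submodule (k := k) N₁
  haveI := finite_hom (k := k) (R := R) S T
  haveI := finite_hom (k := k) (R := R) N₁ T
  rw [← Module.finrank_prod]
  exact ((LinearMap.coprodEquiv k).trans
    (LinearEquiv.congrLeft T k (Submodule.prodEquivOfIsCompl S N₁ h))).symm.finrank_eq

/-- `dim N = dim S + dim N₁`. -/
theorem finrank_of_isCompl {N : Type*} [AddCommGroup N] [Module R N] [Module k N]
    [IsScalarTower k R N] [Module.Finite k N] (S N₁ : Submodule R N) (h : IsCompl S N₁) :
    Module.finrank k N = Module.finrank k S + Module.finrank k N₁ := by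
  haveI := finite_submodule (k := k) S
  haveI := finite_submodule (k := k) N₁
  rw [← Module.finrank_prod]
  exact ((Submodule.prodEquivOfIsCompl S N₁ h).restrictScalars k).symm.finrank_eq

end Hom

section Main

variable {k : Type*} [Field k] {R : Type*} [Ring R] [Algebra k R]

/-- Semisimple finite-dimensional modules with the same Hom-dimensions into all simple modules are
isomorphic. (The simple test modules range over the universes of both modules.) -/
theorem nonempty_linearEquiv_of_finrank_hom_eq (d : ℕ) :
    ∀ (N : Type u) (N' : Type v) [AddCommGroup N] [Module R N] [Module k N] [IsScalarTower k R N]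
      [AddCommGroup N'] [Module R N'] [Module k N'] [IsScalarTower k R N']
      [Module.Finite k N] [Module.Finite k N'] [IsSemisimpleModule R N] [IsSemisimpleModule R N'],
      Module.finrank k N = d →
      (∀ (T : Type u) [AddCommGroup T] [Module R T] [Module k T] [IsScalarTower k R T]
          [Module.Finite k T] [IsSimpleModule R T],
          Module.finrank k (N →ₗ[R] T) = Module.finrank k (N' →ₗ[R] T)) →
      (∀ (T : Type v) [AddCommGroup T] [Module R T] [Module k T] [IsScalarTower k R T]
          [Module.Finite k T] [IsSimpleModule R T],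
          Module.finrank k (N →ₗ[R] T) = Module.finrank k (N' →ₗ[R] T)) →
      Nonempty (N ≃ₗ[R] N') := by
  induction d using Nat.strong_induction_on with
  | _ d ih =>
  intro N N' _ _ _ _ _ _ _ _ _ _ _ _ hN hT hT'
  rcases Nat.eq_zero_or_pos d with hd | hd
  · subst hd
    haveI : Subsingleton N := Module.finrank_zero_iff.mp hN
    by_cases hN' : Subsingleton N'
    · exact ⟨LinearEquiv.ofSubsingleton N N'⟩
    · exfalso
      haveI : Nontrivial N' := not_subsingleton_iff_nontrivial.mp hN'
      obtain ⟨S, hS⟩ := IsSemisimpleModule.exists_simple_submodule R N'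
      haveI := hS
      haveI : Nontrivial S := IsSimpleModule.nontrivial R S
      obtain ⟨N₁, hc⟩ := exists_isCompl S
      haveI := finite_submodule (k := k) S
      have h1 : 0 < Module.finrank k (N' →ₗ[R] S) := by
        haveI := finite_hom (k := k) (R := R) N' S
        rw [Module.finrank_pos_iff_exists_ne_zero]
        refine ⟨Submodule.linearProjOfIsCompl S N₁ hc, fun h0 => ?_⟩
        obtain ⟨x, hx⟩ := exists_ne (0 : S)
        have h2 : Submodule.linearProjOfIsCompl S N₁ hc (x : N') = x :=
          Submodule.linearProjOfIsCompl_apply_left hc x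
        rw [h0] at h2
        exact hx h2.symm
      rw [← hT' S] at h1
      haveI : Subsingleton (N →ₗ[R] S) := ⟨fun f g => LinearMap.ext fun x => by
        rw [Subsingleton.elim x 0, map_zero, map_zero]⟩
      rw [Module.finrank_zero_of_subsingleton] at h1
      exact lt_irrefl _ h1
  · haveI : Nontrivial N := Module.nontrivial_of_finrank_pos (R := k) (by rw [hN]; exact hd)
    obtain ⟨S, hS⟩ := IsSemisimpleModule.exists_simple_submodule R N
    haveI := hS
    haveI : Nontrivial S := IsSimpleModule.nontrivial R S
    obtain ⟨N₁, hc⟩ := exists_isCompl S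
    haveI := finite_submodule (k := k) S
    haveI := finite_submodule (k := k) N₁
    -- a nonzero map `N → S`
    have h1 : 0 < Module.finrank k (N →ₗ[R] S) := by
      haveI := finite_hom (k := k) (R := R) N S
      rw [Module.finrank_pos_iff_exists_ne_zero]
      refine ⟨Submodule.linearProjOfIsCompl S N₁ hc, fun h0 => ?_⟩
      obtain ⟨x, hx⟩ := exists_ne (0 : S)
      have h2 : Submodule.linearProjOfIsCompl S N₁ hc (x : N) = x :=
        Submodule.linearProjOfIsCompl_apply_left hc x
      rw [h0] at h2
      exact hx h2.symm
    rw [hT S] at h1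
    haveI := finite_hom (k := k) (R := R) N' S
    obtain ⟨g, hg⟩ := Module.finrank_pos_iff_exists_ne_zero.mp h1
    have hgs : Function.Surjective g := (LinearMap.surjective_or_eq_zero g).resolve_right hg
    obtain ⟨S', hc'⟩ := exists_isCompl (LinearMap.ker g)
    have eS : S' ≃ₗ[R] S :=
      (Submodule.quotientEquivOfIsCompl (LinearMap.ker g) S' hc').symm.trans
        (g.quotKerEquivOfSurjective hgs)
    obtain ⟨N₁', hN₁'⟩ : ∃ N₁' : Submodule R N', N₁' = LinearMap.ker g := ⟨_, rfl⟩
    rw [← hN₁'] at hc'
    haveI := finite_submodule (k := k) S'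
    haveI := finite_submodule (k := k) N₁'
    have hSpos : 0 < Module.finrank k S := Module.finrank_pos
    have hd1 := finrank_of_isCompl (k := k) S N₁ hc
    have hT1 : ∀ (T : Type u) [AddCommGroup T] [Module R T] [Module k T] [IsScalarTower k R T]
          [Module.Finite k T] [IsSimpleModule R T],
          Module.finrank k (N₁ →ₗ[R] T) = Module.finrank k (N₁' →ₗ[R] T) := by
      intro T _ _ _ _ _ _
      have e1 := finrank_hom_of_isCompl (k := k) (T := T) S N₁ hc
      have e2 := finrank_hom_of_isCompl (k := k) (T := T) S' N₁' hc'.symm
      have e3 : Module.finrank k (S' →ₗ[R] T) = Module.finrank k (S →ₗ[R] T) :=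
        (LinearEquiv.congrLeft T k eS).finrank_eq
      have := hT T
      omega
    have hT1' : ∀ (T : Type v) [AddCommGroup T] [Module R T] [Module k T] [IsScalarTower k R T]
          [Module.Finite k T] [IsSimpleModule R T],
          Module.finrank k (N₁ →ₗ[R] T) = Module.finrank k (N₁' →ₗ[R] T) := by
      intro T _ _ _ _ _ _
      have e1 := finrank_hom_of_isCompl (k := k) (T := T) S N₁ hc
      have e2 := finrank_hom_of_isCompl (k := k) (T := T) S' N₁' hc'.symm
      have e3 : Module.finrank k (S' →ₗ[R] T) = Module.finrank k (S →ₗ[R] T) :=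
        (LinearEquiv.congrLeft T k eS).finrank_eq
      have := hT' T
      omega
    obtain ⟨e₁⟩ := ih (Module.finrank k N₁) (by omega) N₁ N₁' rfl hT1 hT1'
    exact ⟨(Submodule.prodEquivOfIsCompl S N₁ hc).symm.trans
      ((LinearEquiv.prodCongr eS.symm e₁).trans (Submodule.prodEquivOfIsCompl S' N₁' hc'.symm))⟩

end Main

end Groth.Agent.Lib.Helper86.NoetherDeuring
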