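import Mathlib
import Groth.Agent.Lib.Helper86.NoetherDeuring1

/-!
# Noether–Deuring type cancellation

`nonempty_linearEquiv_of_pi`: if `R` is a finite-dimensional algebra over a field and `M` an
`R`-module with `M^n ≅ R^n` (`n > 0`), then `M ≅ R`.
-/

set_option autoImplicit false
set_option linter.style.haveILetI false
set_option linter.deprecated false

namespace Groth.Agent.Lib.Helper86.NoetherDeuring

universe u v

section

variable {k : Type*} [Field k] {R : Type*} [Ring R] [Algebra k R]

/-- Precomposition as a `k`-linear map. -/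
def precomp {M M' : Type*} (T : Type*) [AddCommGroup M] [Module R M] [AddCommGroup M'] [Module R M']
    [AddCommGroup T] [Module R T] [Module k T] [IsScalarTower k R T]
    (f : M →ₗ[R] M') : (M' →ₗ[R] T) →ₗ[k] (M →ₗ[R] T) where
  toFun g := g.comp f
  map_add' g g' := LinearMap.add_comp f g' g
  map_smul' c g := LinearMap.smul_comp c g f

/-- The quotient by the radical is semisimple. -/
theorem isSemisimpleModule_quot [IsSemiprimaryRing R] (M : Type*) [AddCommGroup M] [Module R M] :
    IsSemisimpleModule R (M ⧸ (Ring.jacobson R • (⊤ : Submodule R M))) := by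
  have h : Module.IsTorsionBySet R (M ⧸ (Ring.jacobson R • (⊤ : Submodule R M)))
      (Ring.jacobson R : Set R) :=
    (Module.isTorsionBySet_quotient_iff _ _).mpr fun m i hi =>
      Submodule.smul_mem_smul hi trivial
  let _ := h.module
  exact (h.semilinearMap.isSemisimpleModule_iff_of_bijective Function.bijective_id).2 inferInstance

/-- Maps into a module killed by the radical factor through the quotient by the radical. -/
theorem finrank_hom_quot (M T : Type*) [AddCommGroup M] [Module R M]
    [AddCommGroup T] [Module R T] [Module k T] [IsScalarTower k R T]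
    (hT : Ring.jacobson R ≤ Module.annihilator R T) :
    Module.finrank k ((M ⧸ (Ring.jacobson R • (⊤ : Submodule R M))) →ₗ[R] T) =
      Module.finrank k (M →ₗ[R] T) := by
  refine (LinearEquiv.ofBijective
    (precomp (k := k) T (Submodule.mkQ (Ring.jacobson R • (⊤ : Submodule R M)))) ⟨?_, ?_⟩).finrank_eq
  · intro g g' h
    refine LinearMap.ext fun x => ?_
    obtain ⟨y, rfl⟩ := Submodule.mkQ_surjective _ x
    exact LinearMap.congr_fun h y
  · intro h
    refine ⟨Submodule.liftQ _ h ?_, ?_⟩
    · rw [Submodule.smul_le]
      intro r hr m _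
      rw [LinearMap.mem_ker, map_smul]
      exact Module.mem_annihilator.mp (hT hr) (h m)
    · exact Submodule.liftQ_mkQ _ h _

end

section Main

variable {k : Type*} [Field k] {R : Type u} [Ring R] [Algebra k R] [Module.Finite k R]

theorem nonempty_linearEquiv_of_pi {M : Type v} [AddCommGroup M] [Module R M] [Module k M]
    [IsScalarTower k R M] {n : ℕ} (hn : 0 < n) (e : (Fin n → M) ≃ₗ[R] (Fin n → R)) :
    Nonempty (M ≃ₗ[R] R) := by
  classical
  haveI : IsArtinianRing R := IsArtinianRing.of_finite k R
  -- finiteness of `M`
  haveI : Module.Finite k M :=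
    Module.Finite.of_injective
      (((e.restrictScalars k).toLinearMap).comp
        ((LinearMap.single R (fun _ : Fin n => M) ⟨0, hn⟩).restrictScalars k))
      (e.injective.comp (Pi.single_injective (M := fun _ : Fin n => M) ⟨0, hn⟩))
  have hdim : Module.finrank k M = Module.finrank k R := by
    have h1 := (e.restrictScalars k).finrank_eq
    rw [Module.finrank_pi_fintype, Module.finrank_pi_fintype] at h1
    simp only [Finset.sum_const, Finset.card_univ, Fintype.card_fin, smul_eq_mul] at h1
    exact Nat.eq_of_mul_eq_mul_left hn h1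
  obtain ⟨J, hJ⟩ : ∃ J : Ideal R, J = Ring.jacobson R := ⟨_, rfl⟩
  haveI := isSemisimpleModule_quot (R := R) M
  haveI := isSemisimpleModule_quot (R := R) R
  -- Hom-dimensions agree
  have hT : ∀ (T : Type v) [AddCommGroup T] [Module R T] [Module k T] [IsScalarTower k R T]
      [Module.Finite k T] [IsSimpleModule R T],
      Module.finrank k ((M ⧸ (Ring.jacobson R • (⊤ : Submodule R M))) →ₗ[R] T) =
        Module.finrank k ((R ⧸ (Ring.jacobson R • (⊤ : Submodule R R))) →ₗ[R] T) := by
    intro T _ _ _ _ _ _
    have hann := IsSemisimpleModule.jacobson_le_annihilator R T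
    rw [finrank_hom_quot (k := k) M T hann, finrank_hom_quot (k := k) R T hann]
    haveI := finite_hom (k := k) (R := R) M T
    haveI := finite_hom (k := k) (R := R) R T
    have h1 : Module.finrank k ((Fin n → M) →ₗ[R] T) = Module.finrank k ((Fin n → R) →ₗ[R] T) :=
      (LinearEquiv.congrLeft T k e).finrank_eq
    rw [← (LinearMap.lsum R (fun _ : Fin n => M) k).finrank_eq,
      ← (LinearMap.lsum R (fun _ : Fin n => R) k).finrank_eq,
      Module.finrank_pi_fintype, Module.finrank_pi_fintype] at h1
    simp only [Finset.sum_const, Finset.card_univ, Fintype.card_fin, smul_eq_mul] at h1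
    exact Nat.eq_of_mul_eq_mul_left hn h1
  have hT' : ∀ (T : Type u) [AddCommGroup T] [Module R T] [Module k T] [IsScalarTower k R T]
      [Module.Finite k T] [IsSimpleModule R T],
      Module.finrank k ((M ⧸ (Ring.jacobson R • (⊤ : Submodule R M))) →ₗ[R] T) =
        Module.finrank k ((R ⧸ (Ring.jacobson R • (⊤ : Submodule R R))) →ₗ[R] T) := by
    intro T _ _ _ _ _ _
    have hann := IsSemisimpleModule.jacobson_le_annihilator R T
    rw [finrank_hom_quot (k := k) M T hann, finrank_hom_quot (k := k) R T hann]
    haveI := finite_hom (k := k) (R := R) M T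
    haveI := finite_hom (k := k) (R := R) R T
    have h1 : Module.finrank k ((Fin n → M) →ₗ[R] T) = Module.finrank k ((Fin n → R) →ₗ[R] T) :=
      (LinearEquiv.congrLeft T k e).finrank_eq
    rw [← (LinearMap.lsum R (fun _ : Fin n => M) k).finrank_eq,
      ← (LinearMap.lsum R (fun _ : Fin n => R) k).finrank_eq,
      Module.finrank_pi_fintype, Module.finrank_pi_fintype] at h1
    simp only [Finset.sum_const, Finset.card_univ, Fintype.card_fin, smul_eq_mul] at h1
    exact Nat.eq_of_mul_eq_mul_left hn h1
  obtain ⟨φ⟩ := nonempty_linearEquiv_of_finrank_hom_eq (k := k) (R := R) _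
    (M ⧸ (Ring.jacobson R • (⊤ : Submodule R M))) (R ⧸ (Ring.jacobson R • (⊤ : Submodule R R)))
    rfl hT hT'
  -- lift a generator
  obtain ⟨m, hm⟩ := Submodule.mkQ_surjective _ (φ.symm (Submodule.mkQ _ (1 : R)))
  have hspan : Submodule.span R {m} = ⊤ := by
    obtain ⟨P, hP⟩ : ∃ P : Submodule R M, P = Submodule.span R {m} := ⟨_, rfl⟩
    rw [← hP]
    haveI : Module.Finite R M := Module.Finite.of_restrictScalars_finite k R M
    have htop : (⊤ : Submodule R (M ⧸ P)) = ⊥ := by
      refine Submodule.FG.eq_bot_of_le_jacobson_smul Module.Finite.fg_top ?_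
      rintro x -
      obtain ⟨y, rfl⟩ := Submodule.mkQ_surjective _ x
      obtain ⟨r, hr⟩ := Submodule.mkQ_surjective _ (φ (Submodule.mkQ _ y))
      have h1 : Submodule.mkQ (Ring.jacobson R • (⊤ : Submodule R M)) y =
          Submodule.mkQ (Ring.jacobson R • (⊤ : Submodule R M)) (r • m) := by
        apply φ.injective
        rw [← hr, map_smul, map_smul, hm, LinearEquiv.apply_symm_apply, ← map_smul]
        congr 1
        exact (mul_one r).symm
      have h2 : y - r • m ∈ Ring.jacobson R • (⊤ : Submodule R M) := by
        rw [← Submodule.Quotient.eq]; exact h1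
      have h3 : Submodule.mkQ P y = Submodule.mkQ P (y - r • m) := by
        rw [map_sub, map_smul]
        have : Submodule.mkQ P m = 0 := by
          rw [Submodule.mkQ_apply, Submodule.Quotient.mk_eq_zero, hP]
          exact Submodule.mem_span_singleton_self m
        rw [this, smul_zero, sub_zero]
      rw [h3]
      have h4 := Submodule.mem_map_of_mem (f := Submodule.mkQ P) h2
      rw [Submodule.map_smul'', Submodule.map_top, Submodule.range_mkQ] at h4
      exact h4
    have : P = ⊤ := by
      rw [← Submodule.Quotient.subsingleton_iff]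
      exact (Submodule.subsingleton_iff R).mp (subsingleton_of_bot_eq_top htop.symm)
    exact this
  have hsurj : Function.Surjective (LinearMap.toSpanSingleton R M m) := by
    rw [← LinearMap.range_eq_top, LinearMap.range_toSpanSingleton]
    exact hspan
  have hinj : Function.Injective (LinearMap.toSpanSingleton R M m) :=
    (LinearMap.injective_iff_surjective_of_finrank_eq_finrank
      (f := (LinearMap.toSpanSingleton R M m).restrictScalars k) hdim.symm).mpr hsurj
  exact ⟨(LinearEquiv.ofBijective (LinearMap.toSpanSingleton R M m) ⟨hinj, hsurj⟩).symm⟩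

end Main

end Groth.Agent.Lib.Helper86.NoetherDeuring
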