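import Mathlib
import Groth.Prelude.Def_GSzCSA
import Groth.Agent.Lib.Helper86.GaloisDescentTensor
import Groth.Agent.Lib.Helper86.NoetherDeuring2

/-!
# Hilbert 90 for the units of `K ⊗[k] A`, `A` a finite-dimensional algebra

`H90Alg.h1_trivial`: `H¹(Gal(K/k), (K ⊗[k] A)ˣ)` is trivial.
-/

set_option autoImplicit false
set_option linter.style.haveILetI false
set_option linter.unusedSectionVars false

open scoped TensorProduct
attribute [local instance] CSAGal.tensorAction GpH1.unitsAction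

namespace Groth.Agent.Lib.Helper86.H90Alg

open Groth.Agent.Lib.Helper86.GaloisDescent

universe u v w

section Descent

variable {k : Type u} [Field k] {K : Type v} [Field K] [Algebra k K]
  {B : Type w} [AddCommGroup B] [Module K B] [Module k B] [IsScalarTower k K B]

/-- If `K ⊗ F → B` is bijective and `b` is a `k`-basis of `K` then `(f_i) ↦ ∑ b_i • f_i` is
bijective `F^ι → B`. -/
theorem bijective_sum_basis {ι : Type*} [Fintype ι] (b : Module.Basis ι k K) (F : Submodule k B)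
    (hF : Function.Bijective (F.subtype.liftBaseChange K)) :
    Function.Bijective (fun f : ι → F => ∑ i, b i • (f i : B)) := by
  classical
  have key : ∀ c : ι →₀ F, F.subtype.liftBaseChange K (c.sum fun i n => b i ⊗ₜ[k] n) =
      ∑ i, b i • ((c i : F) : B) := by
    intro c
    rw [Finsupp.sum_fintype _ _ (fun i => by simp), map_sum]
    refine Finset.sum_congr rfl fun i _ => ?_
    rw [LinearMap.liftBaseChange_tmul]
    rfl
  constructor
  · intro f f' h
    have h0 : ∑ i, b i • (((f - f') i : F) : B) = 0 := by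
      simp only [Pi.sub_apply, Submodule.coe_sub, smul_sub, Finset.sum_sub_distrib]
      exact sub_eq_zero.mpr h
    have h1 := key (Finsupp.equivFunOnFinite.symm (f - f'))
    simp only [Finsupp.coe_equivFunOnFinite_symm] at h1
    rw [h0] at h1
    have h2 := hF.1 (h1.trans (map_zero _).symm)
    have h3 := TensorProduct.sum_tmul_basis_left_eq_zero b _ h2
    have h4 : f - f' = 0 := by
      have := congrArg Finsupp.equivFunOnFinite h3
      rw [Equiv.apply_symm_apply] at this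
      rw [this]
      rfl
    exact sub_eq_zero.mp h4
  · intro x
    obtain ⟨t, ht⟩ := hF.2 x
    obtain ⟨c, hc⟩ := TensorProduct.eq_repr_basis_left b t
    refine ⟨fun i => c i, ?_⟩
    show ∑ i, b i • ((c i : F) : B) = x
    rw [← key c, hc, ht]

end Descent

section Main

variable {k : Type u} [Field k] {K : Type v} [Field K] [Algebra k K]
  {A : Type w} [Ring A] [Algebra k A]

/-- The left `A`-module structure on `K ⊗[k] A` through `a ↦ 1 ⊗ a`. -/
@[reducible] noncomputable def modA : Module A (K ⊗[k] A) :=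
  Module.compHom (K ⊗[k] A)
    ((Algebra.TensorProduct.includeRight : A →ₐ[k] K ⊗[k] A) : A →+* K ⊗[k] A)

attribute [local instance] modA

theorem smulA_def (c : A) (x : K ⊗[k] A) : c • x = ((1 : K) ⊗ₜ[k] c) * x := rfl

instance : IsScalarTower k A (K ⊗[k] A) := ⟨fun c a x => by
  rw [smulA_def, smulA_def, TensorProduct.tmul_smul, smul_mul_assoc]⟩

theorem smulA_smul_comm (c : A) (r : K) (x : K ⊗[k] A) : c • (r • x) = r • (c • x) := by
  rw [smulA_def, smulA_def, mul_smul_comm]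

theorem gal_smul_one_tmul (σ : K ≃ₐ[k] K) (c : A) :
    σ • ((1 : K) ⊗ₜ[k] c) = (1 : K) ⊗ₜ[k] c := by
  rw [TensorProduct.smul_tmul']
  congr 1
  exact map_one σ

variable (a : (K ≃ₐ[k] K) → (K ⊗[k] A)ˣ) (ha : GpH1.IsOneCocycle a)

include ha in
theorem cocycle_one : a 1 = 1 := by
  have h := ha 1 1
  rw [one_smul, mul_one] at h
  exact (mul_eq_left.mp h.symm)

theorem coe_smul_units (σ : K ≃ₐ[k] K) (u : (K ⊗[k] A)ˣ) :
    ((σ • u : (K ⊗[k] A)ˣ) : K ⊗[k] A) = σ • (u : K ⊗[k] A) := rfl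

/-- The twisted semilinear action `x ↦ σ(x) * a_σ⁻¹`. -/
noncomputable def twistR : SemiAction k K (K ⊗[k] A) where
  ρ σ x := (σ • x) * (((a σ)⁻¹ : (K ⊗[k] A)ˣ) : K ⊗[k] A)
  map_add σ x y := by rw [smul_add, add_mul]
  map_smul σ c x := by
    rw [smul_distrib_smul σ c x, smul_mul_assoc]
    rfl
  one x := by rw [one_smul, cocycle_one a ha, inv_one, Units.val_one, mul_one]
  mul σ τ x := by
    rw [ha σ τ, mul_inv_rev, Units.val_mul, smul_mul', mul_smul, mul_assoc, ← smul_inv',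
      coe_smul_units]

theorem mem_twistR_fixed (x : K ⊗[k] A) :
    x ∈ (twistR a ha).fixed ↔ ∀ σ : K ≃ₐ[k] K, σ • x = x * (a σ : K ⊗[k] A) := by
  rw [SemiAction.mem_fixed]
  refine forall_congr' fun σ => ?_
  show (σ • x) * (((a σ)⁻¹ : (K ⊗[k] A)ˣ) : K ⊗[k] A) = x ↔ _
  rw [Units.mul_inv_eq_iff_eq_mul]

/-- The twisted fixed points as an `A`-submodule. -/
noncomputable def fixedA : Submodule A (K ⊗[k] A) where
  carrier := {x | ∀ σ : K ≃ₐ[k] K, σ • x = x * (a σ : K ⊗[k] A)}
  zero_mem' σ := by rw [smul_zero, zero_mul]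
  add_mem' := by
    intro x y hx hy σ
    rw [smul_add, hx σ, hy σ, add_mul]
  smul_mem' := by
    intro c x hx σ
    rw [smulA_def, smul_mul', gal_smul_one_tmul, hx σ, mul_assoc]

theorem mem_fixedA (x : K ⊗[k] A) :
    x ∈ fixedA a ↔ ∀ σ : K ≃ₐ[k] K, σ • x = x * (a σ : K ⊗[k] A) := Iff.rfl

end Main

section Final

variable {k : Type u} [Field k] {K : Type v} [Field K] [Algebra k K]
  {A : Type w} [Ring A] [Algebra k A]

attribute [local instance] modA

/-- `(f_i) ↦ ∑ b_i • f_i`, as an `A`-linear map. -/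
noncomputable def phi {n : ℕ} (b : Module.Basis (Fin n) k K) (P : Submodule A (K ⊗[k] A)) :
    (Fin n → P) →ₗ[A] (K ⊗[k] A) where
  toFun f := ∑ i, b i • (f i : K ⊗[k] A)
  map_add' f g := by
    simp only [Pi.add_apply, Submodule.coe_add, smul_add, Finset.sum_add_distrib]
  map_smul' c f := by
    simp only [Pi.smul_apply, Submodule.coe_smul, RingHom.id_apply, Finset.smul_sum,
      smulA_smul_comm]

/-- `(c_i) ↦ ∑ b_i ⊗ c_i`, as an `A`-linear map. -/
noncomputable def psi {n : ℕ} (b : Module.Basis (Fin n) k K) :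
    (Fin n → A) →ₗ[A] (K ⊗[k] A) where
  toFun f := ∑ i, b i ⊗ₜ[k] f i
  map_add' f g := by
    simp only [Pi.add_apply, TensorProduct.tmul_add, Finset.sum_add_distrib]
  map_smul' c f := by
    simp only [Pi.smul_apply, RingHom.id_apply, Finset.smul_sum, smulA_def,
      Algebra.TensorProduct.tmul_mul_tmul, one_mul, smul_eq_mul]

theorem bijective_psi {n : ℕ} (b : Module.Basis (Fin n) k K) :
    Function.Bijective (psi (A := A) b) := by
  classical
  have h : (psi (A := A) b : (Fin n → A) → K ⊗[k] A) =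
      (TensorProduct.equivFinsuppOfBasisLeft b).symm ∘ Finsupp.equivFunOnFinite.symm := by
    funext f
    show ∑ i, b i ⊗ₜ[k] f i = _
    rw [Function.comp_apply, TensorProduct.equivFinsuppOfBasisLeft_symm_apply,
      Finsupp.sum_fintype _ _ (fun i => by simp)]
    rfl
  rw [h]
  exact (TensorProduct.equivFinsuppOfBasisLeft b).symm.bijective.comp
    Finsupp.equivFunOnFinite.symm.bijective

variable [FiniteDimensional k K] [IsGalois k K]

theorem bijective_phi {n : ℕ} (b : Module.Basis (Fin n) k K)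
    (a : (K ≃ₐ[k] K) → (K ⊗[k] A)ˣ) (ha : GpH1.IsOneCocycle a) :
    Function.Bijective (phi b (fixedA a)) := by
  have h1 := bijective_sum_basis b (twistR a ha).fixed (twistR a ha).bijective_liftBaseChange
  have h : (phi b (fixedA a) : (Fin n → fixedA a) → K ⊗[k] A) =
      (fun f : Fin n → (twistR a ha).fixed => ∑ i, b i • (f i : K ⊗[k] A)) ∘
        (Equiv.piCongrRight fun _ : Fin n => Equiv.subtypeEquivRight
          (fun x => ((mem_twistR_fixed a ha x).trans (mem_fixedA a x).symm).symm)) := by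
    funext f
    rfl
  rw [h]
  exact h1.comp (Equiv.bijective _)

variable [FiniteDimensional k A]

theorem exists_unit_of_cocycle (a : (K ≃ₐ[k] K) → (K ⊗[k] A)ˣ) (ha : GpH1.IsOneCocycle a) :
    ∃ c : (K ⊗[k] A)ˣ, ∀ σ : K ≃ₐ[k] K, a σ = c⁻¹ * σ • c := by
  classical
  obtain ⟨n, ⟨b⟩⟩ : ∃ n : ℕ, Nonempty (Module.Basis (Fin n) k K) := ⟨_, ⟨Module.finBasis k K⟩⟩
  have hn : 0 < n := by
    have h := Module.finrank_eq_card_basis b
    rw [Fintype.card_fin] at h
    rw [← h]
    exact Module.finrank_pos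
  obtain ⟨e⟩ : Nonempty ((Fin n → fixedA a) ≃ₗ[A] (Fin n → A)) :=
    ⟨(LinearEquiv.ofBijective (phi b (fixedA a)) (bijective_phi b a ha)).trans
      (LinearEquiv.ofBijective (psi (A := A) b) (bijective_psi b)).symm⟩
  obtain ⟨θ⟩ := NoetherDeuring.nonempty_linearEquiv_of_pi (k := k) hn e
  obtain ⟨m, hm⟩ : ∃ m : fixedA a, m = θ.symm 1 := ⟨_, rfl⟩
  have hgen : ∀ y : fixedA a, y = θ y • m := by
    intro y
    rw [hm, ← map_smul, smul_eq_mul, mul_one, LinearEquiv.symm_apply_apply]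
  obtain ⟨f, hf⟩ := (bijective_phi b a ha).2 1
  obtain ⟨y, hy⟩ : ∃ y : K ⊗[k] A, y = ∑ i, b i • ((1 : K) ⊗ₜ[k] θ (f i)) := ⟨_, rfl⟩
  have hym : y * (m : K ⊗[k] A) = 1 := by
    rw [← hf, hy, Finset.sum_mul]
    show _ = ∑ i, b i • ((f i : fixedA a) : K ⊗[k] A)
    refine Finset.sum_congr rfl fun i _ => ?_
    rw [smul_mul_assoc]
    congr 1
    conv_rhs => rw [hgen (f i)]
    rfl
  haveI : IsArtinianRing (K ⊗[k] A) := IsArtinianRing.of_finite K (K ⊗[k] A)
  have hmy : (m : K ⊗[k] A) * y = 1 := mul_eq_one_comm.mp hym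
  refine ⟨⟨m, y, hmy, hym⟩, fun σ => ?_⟩
  apply Units.ext
  have hσ : σ • (m : K ⊗[k] A) = (m : K ⊗[k] A) * (a σ : K ⊗[k] A) := m.2 σ
  show (a σ : K ⊗[k] A) = y * (σ • (m : K ⊗[k] A))
  rw [hσ, ← mul_assoc, hym, one_mul]

/-- `H¹(Gal(K/k), (K ⊗[k] A)ˣ)` is trivial for a finite-dimensional algebra `A`. -/
theorem h1_trivial : GpH1.H1.IsTrivial (K ≃ₐ[k] K) (K ⊗[k] A)ˣ := by
  intro x
  obtain ⟨a, rfl⟩ := GpH1.OneCocycle.cl_surjective x
  refine (GpH1.OneCocycle.cl_eq_cl_iff a GpH1.OneCocycle.trivial).mpr ?_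
  obtain ⟨c, hc⟩ := exists_unit_of_cocycle a.1 a.2
  refine ⟨c, fun σ => ?_⟩
  show a.1 σ = c⁻¹ * 1 * σ • c
  rw [hc σ, mul_one]

end Final

end Groth.Agent.Lib.Helper86.H90Alg
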