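import Groth.Prelude.Def_GSzCSA
import Groth.Prelude.Def_GalDesc
import Mathlib

/-!
# `PGL_n(K) ≃ Aut_K(M_n(K))`, equivariantly for a group acting on `K`
-/

set_option autoImplicit false

namespace Groth.Agent.Lib.Helper86.PGLAut

open scoped MatrixGroups

universe u v w

variable {K : Type v} [Field K] {n : Type w} [Fintype n] [DecidableEq n]

/-- The inner automorphism `M ↦ g M g⁻¹` of the matrix algebra. -/
def innAut (g : GL n K) : Matrix n n K ≃ₐ[K] Matrix n n K where
  toFun M := (g : Matrix n n K) * M * ((g⁻¹ : GL n K) : Matrix n n K)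
  invFun M := ((g⁻¹ : GL n K) : Matrix n n K) * M * (g : Matrix n n K)
  left_inv M := by
    show ((g⁻¹ : GL n K) : Matrix n n K) * ((g : Matrix n n K) * M * ((g⁻¹ : GL n K) : Matrix n n K))
      * (g : Matrix n n K) = M
    rw [mul_assoc, mul_assoc, Units.inv_mul, mul_one, ← mul_assoc, Units.inv_mul, one_mul]
  right_inv M := by
    show (g : Matrix n n K) * (((g⁻¹ : GL n K) : Matrix n n K) * M * (g : Matrix n n K))
      * ((g⁻¹ : GL n K) : Matrix n n K) = M
    rw [mul_assoc, mul_assoc, Units.mul_inv, mul_one, ← mul_assoc, Units.mul_inv, one_mul]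
  map_mul' M N := by
    show (g : Matrix n n K) * (M * N) * ((g⁻¹ : GL n K) : Matrix n n K) =
      ((g : Matrix n n K) * M * ((g⁻¹ : GL n K) : Matrix n n K)) *
        ((g : Matrix n n K) * N * ((g⁻¹ : GL n K) : Matrix n n K))
    have h : ((g⁻¹ : GL n K) : Matrix n n K) * (g : Matrix n n K) = 1 := Units.inv_mul g
    calc (g : Matrix n n K) * (M * N) * ((g⁻¹ : GL n K) : Matrix n n K)
        = (g : Matrix n n K) * M * 1 * N * ((g⁻¹ : GL n K) : Matrix n n K) := by
          rw [mul_one, ← mul_assoc]
      _ = _ := by rw [← h]; simp only [mul_assoc]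
  map_add' M N := by
    show (g : Matrix n n K) * (M + N) * ((g⁻¹ : GL n K) : Matrix n n K) = _
    rw [mul_add, add_mul]
  commutes' c := by
    show (g : Matrix n n K) * (algebraMap K (Matrix n n K) c) * ((g⁻¹ : GL n K) : Matrix n n K) = _
    rw [← Algebra.commutes c (g : Matrix n n K), mul_assoc, Units.mul_inv, mul_one]

theorem innAut_apply (g : GL n K) (M : Matrix n n K) :
    innAut g M = (g : Matrix n n K) * M * ((g⁻¹ : GL n K) : Matrix n n K) := rfl

theorem innAut_symm_apply (g : GL n K) (M : Matrix n n K) :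
    (innAut g).symm M = ((g⁻¹ : GL n K) : Matrix n n K) * M * (g : Matrix n n K) := rfl

theorem innAut_one : innAut (1 : GL n K) = 1 := by
  apply AlgEquiv.ext
  intro M
  rw [innAut_apply]
  simp

theorem innAut_mul (g h : GL n K) : innAut (g * h) = innAut g * innAut h := by
  apply AlgEquiv.ext
  intro M
  show innAut (g * h) M = innAut g (innAut h M)
  rw [innAut_apply, innAut_apply, innAut_apply, mul_inv_rev, Units.val_mul, Units.val_mul]
  simp only [mul_assoc]

/-- `innAut` as a monoid hom. -/
def innAutHom : GL n K →* (Matrix n n K ≃ₐ[K] Matrix n n K) where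
  toFun := innAut
  map_one' := innAut_one
  map_mul' := innAut_mul

theorem innAut_eq_one_iff (g : GL n K) : innAut g = 1 ↔ g ∈ Subgroup.center (GL n K) := by
  constructor
  · intro h
    rw [Subgroup.mem_center_iff]
    intro x
    have h1 := congrArg (fun f : Matrix n n K ≃ₐ[K] Matrix n n K => f (x : Matrix n n K)) h
    have h2 : (g : Matrix n n K) * (x : Matrix n n K) * ((g⁻¹ : GL n K) : Matrix n n K) =
      (x : Matrix n n K) := h1
    apply Units.ext
    rw [Units.val_mul, Units.val_mul]
    calc (x : Matrix n n K) * (g : Matrix n n K)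
        = (g : Matrix n n K) * (x : Matrix n n K) * ((g⁻¹ : GL n K) : Matrix n n K) *
            (g : Matrix n n K) := by rw [h2]
      _ = (g : Matrix n n K) * (x : Matrix n n K) := by
          rw [mul_assoc, Units.inv_mul, mul_one]
  · intro h
    rw [Matrix.GeneralLinearGroup.center_eq_range_scalar] at h
    obtain ⟨u, rfl⟩ := h
    apply AlgEquiv.ext
    intro M
    rw [innAut_apply]
    show _ = M
    have hc : ((Matrix.GeneralLinearGroup.scalar n u : GL n K) : Matrix n n K) * M =
        M * ((Matrix.GeneralLinearGroup.scalar n u : GL n K) : Matrix n n K) := by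
      rw [Matrix.GeneralLinearGroup.coe_scalar]
      exact (Matrix.scalar_commute (u : K) (fun _ => Commute.all _ _) M).eq
    rw [hc, mul_assoc, Units.mul_inv, mul_one]

/-- `PGL_n(K) → Aut_K(M_n(K))`. -/
def pglAut : Matrix.ProjGenLinGroup n K →* (Matrix n n K ≃ₐ[K] Matrix n n K) :=
  QuotientGroup.lift (Subgroup.center (GL n K)) innAutHom (fun g hg => (innAut_eq_one_iff g).mpr hg)

theorem pglAut_mk (g : GL n K) : pglAut (Matrix.ProjGenLinGroup.mk g) = innAut g := rfl

theorem pglAut_injective : Function.Injective (pglAut : Matrix.ProjGenLinGroup n K → _) := by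
  rw [injective_iff_map_eq_one]
  intro p hp
  induction p using Matrix.ProjGenLinGroup.induction_on with
  | mk g =>
    rw [pglAut_mk] at hp
    rw [Matrix.ProjGenLinGroup.mk_eq_one]
    exact (innAut_eq_one_iff g).mp hp

theorem innAut_surjective (f : Matrix n n K ≃ₐ[K] Matrix n n K) : ∃ g : GL n K, innAut g = f := by
  let L : Matrix n n K ≃ₐ[K] Module.End K (n → K) := Matrix.toLinAlgEquiv'
  let f' : Module.End K (n → K) ≃ₐ[K] Module.End K (n → K) := L.symm.trans (f.trans L)
  obtain ⟨T, hT⟩ := f'.eq_linearEquivConjAlgEquiv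
  have h1 : L.symm T.toLinearMap * L.symm T.symm.toLinearMap = 1 := by
    rw [← map_mul, ← map_one L.symm]
    congr 1
    ext x
    simp
  have h2 : L.symm T.symm.toLinearMap * L.symm T.toLinearMap = 1 := by
    rw [← map_mul, ← map_one L.symm]
    congr 1
    ext x
    simp
  refine ⟨⟨L.symm T.toLinearMap, L.symm T.symm.toLinearMap, h1, h2⟩, ?_⟩
  apply AlgEquiv.ext
  intro M
  rw [innAut_apply]
  show L.symm T.toLinearMap * M * L.symm T.symm.toLinearMap = f M
  have h3 : f' (L M) = L (f M) := by
    show L (f (L.symm (L M))) = _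
    rw [L.symm_apply_apply]
  have h4 : f M = L.symm (f' (L M)) := by rw [h3, L.symm_apply_apply]
  rw [h4, hT, LinearEquiv.conjAlgEquiv_apply]
  have : (T.toLinearMap ∘ₗ (L M) ∘ₗ T.symm.toLinearMap : Module.End K (n → K)) =
      T.toLinearMap * L M * T.symm.toLinearMap := rfl
  rw [this, map_mul, map_mul, L.symm_apply_apply]

theorem pglAut_surjective : Function.Surjective (pglAut : Matrix.ProjGenLinGroup n K → _) := by
  intro f
  obtain ⟨g, hg⟩ := innAut_surjective f
  exact ⟨Matrix.ProjGenLinGroup.mk g, hg⟩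

section Equivariant

variable {k : Type u} [Field k] [Algebra k K]

attribute [local instance] CSAGal.matrixAction GpH1.unitsAction CSAGal.pglAction

theorem smul_mk (σ : K ≃ₐ[k] K) (g : GL n K) :
    σ • (Matrix.ProjGenLinGroup.mk g : Matrix.ProjGenLinGroup n K) =
      Matrix.ProjGenLinGroup.mk (σ • g) := rfl

theorem innAut_smul (σ : K ≃ₐ[k] K) (g : GL n K) (M : Matrix n n K) :
    innAut (σ • g) (σ • M) = σ • innAut g M := by
  rw [innAut_apply, innAut_apply, smul_mul', smul_mul']
  rfl

theorem pglAut_smul (σ : K ≃ₐ[k] K) (p : Matrix.ProjGenLinGroup n K) (M : Matrix n n K) :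
    pglAut (σ • p) (σ • M) = σ • pglAut p M := by
  induction p using Matrix.ProjGenLinGroup.induction_on with
  | mk g => rw [smul_mk, pglAut_mk, pglAut_mk, innAut_smul]

theorem pglAut_smul_eq (σ : K ≃ₐ[k] K) (p : Matrix.ProjGenLinGroup n K) :
    pglAut (σ • p) = σ • pglAut p := by
  apply AlgEquiv.ext
  intro M
  rw [GalDesc.conjAlg_smul_apply, ← pglAut_smul, smul_inv_smul]

end Equivariant

end Groth.Agent.Lib.Helper86.PGLAut
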