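import Groth.Agent.Lib.Helper86.GaloisDescentTensor
import Groth.Agent.Lib.Helper86.PGLAut

/-!
# Galois descent for central simple algebras: helper lemmas
-/

set_option autoImplicit false
set_option linter.unusedSectionVars false

namespace Groth.Agent.Lib.Helper86.CSADescent

open TensorProduct
open Groth.Agent.Lib.Helper86.GaloisDescent
open Groth.Agent.Lib.Helper86.PGLAut
open scoped MatrixGroups

universe u v w w'

variable {k : Type u} {K : Type v} [Field k] [Field K] [Algebra k K]

attribute [local instance] CSAGal.tensorAction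

section Equivariant

variable [FiniteDimensional k K] [IsGalois k K]
variable {A : Type w} [Ring A] [Algebra k A] {A' : Type w'} [Ring A'] [Algebra k A']

/-- A Galois-equivariant `K`-algebra isomorphism `K ⊗ A ≃ K ⊗ A'` descends to `A ≃ₐ[k] A'`. -/
theorem exists_algEquiv_of_equivariant (f : (K ⊗[k] A) ≃ₐ[K] (K ⊗[k] A'))
    (hfeq : ∀ (σ : K ≃ₐ[k] K) (y : K ⊗[k] A), f (σ • y) = σ • f y) :
    ∃ e : A ≃ₐ[k] A', ∀ w : A, f ((1 : K) ⊗ₜ[k] w) = (1 : K) ⊗ₜ[k] e w := by
  obtain ⟨e, he⟩ := exists_equiv_of_equivariant f.toLinearEquiv hfeq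
  have he' : ∀ w : A, f ((1 : K) ⊗ₜ[k] w) = (1 : K) ⊗ₜ[k] e w := he
  have hinj := one_tmul_injective (k := k) (K := K) (W := A')
  have hmul : ∀ x y : A, e (x * y) = e x * e y := by
    intro x y
    apply hinj
    show (1 : K) ⊗ₜ[k] e (x * y) = (1 : K) ⊗ₜ[k] (e x * e y)
    rw [← he']
    have : (1 : K) ⊗ₜ[k] (x * y) = ((1 : K) ⊗ₜ[k] x) * ((1 : K) ⊗ₜ[k] y) := by
      rw [Algebra.TensorProduct.tmul_mul_tmul, mul_one]
    rw [this, map_mul, he', he', Algebra.TensorProduct.tmul_mul_tmul, mul_one]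
  have hone : e 1 = 1 := by
    apply hinj
    show (1 : K) ⊗ₜ[k] e (1 : A) = (1 : K) ⊗ₜ[k] (1 : A')
    rw [← he']
    exact map_one f
  exact ⟨AlgEquiv.ofLinearEquiv e hone hmul, he'⟩

end Equivariant

section CentralSimple

variable [FiniteDimensional k K] [IsGalois k K]
variable (k K) (B : Type w) [Ring B] [Algebra k B]

theorem isCentral_of_baseChange [Algebra.IsCentral K (K ⊗[k] B)] : Algebra.IsCentral k B := by
  obtain ⟨l, hl⟩ := exists_retraction k K
  refine ⟨fun z hz => ?_⟩
  have h1 : (1 : K) ⊗ₜ[k] z ∈ Subalgebra.center K (K ⊗[k] B) := by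
    rw [Subalgebra.mem_center_iff]
    intro t
    induction t using TensorProduct.induction_on with
    | zero => simp
    | tmul c b =>
      rw [Algebra.TensorProduct.tmul_mul_tmul, Algebra.TensorProduct.tmul_mul_tmul, mul_one,
        one_mul, (Subalgebra.mem_center_iff.mp hz) b]
    | add x y hx hy => rw [add_mul, mul_add, hx, hy]
  obtain ⟨c, hc⟩ := (Algebra.IsCentral.mem_center_iff K).mp h1
  rw [Algebra.TensorProduct.algebraMap_apply] at hc
  have h2 := congrArg (retr l B) hc
  rw [retr_tmul, retr_tmul, hl, one_smul] at h2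
  rw [Algebra.mem_bot]
  exact ⟨l c, by rw [h2, Algebra.algebraMap_eq_smul_one]; rfl⟩

theorem isSimpleRing_of_baseChange [IsSimpleRing (K ⊗[k] B)] : IsSimpleRing B := by
  rw [isSimpleRing_iff_isTwoSided_imp]
  constructor
  · by_contra h
    rw [not_nontrivial_iff_subsingleton] at h
    have : Subsingleton (K ⊗[k] B) := inferInstance
    exact not_subsingleton (K ⊗[k] B) this
  · intro I hI
    by_cases htop : I = ⊤
    · exact Or.inr htop
    · left
      have hnt : Nontrivial (B ⧸ I) := Ideal.Quotient.nontrivial_iff.mpr htop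
      let π : B →ₐ[k] (B ⧸ I) := Ideal.Quotient.mkₐ k I
      let F : (K ⊗[k] B) →ₐ[K] (K ⊗[k] (B ⧸ I)) := Algebra.TensorProduct.map (AlgHom.id K K) π
      have hnt' : Nontrivial (K ⊗[k] (B ⧸ I)) := by
        refine ⟨⟨(1 : K) ⊗ₜ[k] (1 : B ⧸ I), (1 : K) ⊗ₜ[k] (0 : B ⧸ I), fun h => ?_⟩⟩
        exact one_ne_zero (one_tmul_injective (k := k) (K := K) (W := B ⧸ I) h)
      have hFinj : Function.Injective F := RingHom.injective (F : (K ⊗[k] B) →+* (K ⊗[k] (B ⧸ I)))
      rw [eq_bot_iff]
      intro i hi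
      have h1 : F ((1 : K) ⊗ₜ[k] i) = 0 := by
        show Algebra.TensorProduct.map (AlgHom.id K K) π ((1 : K) ⊗ₜ[k] i) = 0
        rw [Algebra.TensorProduct.map_tmul]
        have : π i = 0 := Ideal.Quotient.eq_zero_iff_mem.mpr hi
        rw [this, tmul_zero]
      have h2 : (1 : K) ⊗ₜ[k] i = (1 : K) ⊗ₜ[k] (0 : B) := by
        rw [tmul_zero]
        exact hFinj (h1.trans (map_zero F).symm)
      exact one_tmul_injective (k := k) (K := K) (W := B) h2

end CentralSimple

section MatrixBaseChange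

variable (k K) (n : Type w) [Fintype n] [DecidableEq n]

/-- `K ⊗[k] M_n(k) ≃ₐ[K] M_n(K)`. -/
noncomputable def matrixBaseChange : (K ⊗[k] Matrix n n k) ≃ₐ[K] Matrix n n K :=
  AlgEquiv.ofRingEquiv (f := (matrixEquivTensor n k K).symm.toRingEquiv) (by
    intro c
    rw [Algebra.TensorProduct.algebraMap_apply]
    show (matrixEquivTensor n k K).symm ((algebraMap K K c) ⊗ₜ[k] (1 : Matrix n n k)) = _
    rw [matrixEquivTensor_apply_symm, Matrix.map_one _ (map_zero _) (map_one _),
      Algebra.algebraMap_eq_smul_one, Algebra.algebraMap_eq_smul_one, smul_assoc, one_smul])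

theorem matrixBaseChange_tmul (a : K) (M : Matrix n n k) :
    matrixBaseChange k K n (a ⊗ₜ[k] M) = a • M.map (algebraMap k K) := rfl

attribute [local instance] CSAGal.matrixAction

theorem matrixBaseChange_smul (σ : K ≃ₐ[k] K) (t : K ⊗[k] Matrix n n k) :
    matrixBaseChange k K n (σ • t) = σ • matrixBaseChange k K n t := by
  induction t using TensorProduct.induction_on with
  | zero => simp
  | tmul a M =>
    rw [TensorProduct.smul_tmul', matrixBaseChange_tmul, matrixBaseChange_tmul]
    ext i j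
    rw [Matrix.smul_apply, Matrix.smul_apply, Matrix.smul_apply, Matrix.map_apply, smul_eq_mul,
      smul_eq_mul, smul_mul', AlgEquiv.smul_def, AlgEquiv.smul_def, AlgEquiv.commutes]
  | add x y hx hy => rw [smul_add, map_add, hx, hy, map_add, smul_add]

theorem matrixBaseChange_symm_smul (σ : K ≃ₐ[k] K) (M : Matrix n n K) :
    (matrixBaseChange k K n).symm (σ • M) = σ • (matrixBaseChange k K n).symm M := by
  apply (matrixBaseChange k K n).injective
  rw [matrixBaseChange_smul, AlgEquiv.apply_symm_apply, AlgEquiv.apply_symm_apply]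

end MatrixBaseChange

section Twisted

variable {A : Type w} [Ring A] [Algebra k A]

/-- The `k`-subalgebra of `K ⊗ A` of elements fixed by the action twisted by a cocycle. -/
def fixedSubalgebra (a : GpH1.OneCocycle (K ≃ₐ[k] K) ((K ⊗[k] A) ≃ₐ[K] (K ⊗[k] A))) :
    Subalgebra k (K ⊗[k] A) where
  carrier := {x | ∀ σ : K ≃ₐ[k] K, a σ (σ • x) = x}
  mul_mem' := by
    intro x y hx hy σ
    rw [smul_mul', map_mul, hx σ, hy σ]
  add_mem' := by
    intro x y hx hy σ
    rw [smul_add, map_add, hx σ, hy σ]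
  algebraMap_mem' := by
    intro r σ
    have h1 : algebraMap k (K ⊗[k] A) r = algebraMap K (K ⊗[k] A) (algebraMap k K r) := by
      rw [Algebra.TensorProduct.algebraMap_apply, Algebra.TensorProduct.algebraMap_apply]
      rfl
    have h2 : σ • algebraMap K (K ⊗[k] A) (algebraMap k K r) =
        algebraMap K (K ⊗[k] A) (algebraMap k K r) := by
      rw [Algebra.TensorProduct.algebraMap_apply, TensorProduct.smul_tmul']
      congr 1
      exact σ.commutes r
    rw [h1, h2, AlgEquiv.commutes]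

theorem mem_fixedSubalgebra (a : GpH1.OneCocycle (K ≃ₐ[k] K) ((K ⊗[k] A) ≃ₐ[K] (K ⊗[k] A)))
    (x : K ⊗[k] A) : x ∈ fixedSubalgebra a ↔ ∀ σ : K ≃ₐ[k] K, a σ (σ • x) = x := Iff.rfl

end Twisted

section PGLCocycle

variable (n : Type w) [Fintype n] [DecidableEq n]

attribute [local instance] CSAGal.matrixAction GpH1.unitsAction CSAGal.pglAction

/-- The cocycle in `Aut_K(K ⊗ M_n(k))` attached to a `PGL_n(K)`-valued cocycle. -/
noncomputable def twistedCocycle (c : GpH1.OneCocycle (K ≃ₐ[k] K) (Matrix.ProjGenLinGroup n K)) :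
    GpH1.OneCocycle (K ≃ₐ[k] K)
      ((K ⊗[k] Matrix n n k) ≃ₐ[K] (K ⊗[k] Matrix n n k)) :=
  ⟨fun σ => (matrixBaseChange k K n).trans ((pglAut (c σ)).trans (matrixBaseChange k K n).symm), by
    intro σ τ
    apply AlgEquiv.ext
    intro x
    show (matrixBaseChange k K n).symm (pglAut (c (σ * τ)) (matrixBaseChange k K n x)) =
      (matrixBaseChange k K n).symm (pglAut (c σ) (matrixBaseChange k K n
        ((σ • ((matrixBaseChange k K n).trans
          ((pglAut (c τ)).trans (matrixBaseChange k K n).symm))) x)))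
    rw [GalDesc.conjAlg_smul_apply]
    show _ = (matrixBaseChange k K n).symm (pglAut (c σ) (matrixBaseChange k K n
        (σ • (matrixBaseChange k K n).symm (pglAut (c τ) (matrixBaseChange k K n (σ⁻¹ • x))))))
    rw [matrixBaseChange_smul, AlgEquiv.apply_symm_apply, matrixBaseChange_smul, c.2 σ τ, map_mul,
      pglAut_smul_eq]
    rfl⟩

theorem twistedCocycle_apply (c : GpH1.OneCocycle (K ≃ₐ[k] K) (Matrix.ProjGenLinGroup n K))
    (σ : K ≃ₐ[k] K) (x : K ⊗[k] Matrix n n k) :
    twistedCocycle n c σ x =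
      (matrixBaseChange k K n).symm (pglAut (c σ) (matrixBaseChange k K n x)) := rfl

end PGLCocycle

end Groth.Agent.Lib.Helper86.CSADescent
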