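import Mathlib

/-!
# Irreducibility of base changes of modules over algebras along field extensions
-/

set_option autoImplicit false
set_option linter.unusedSectionVars false
set_option linter.style.haveILetI false

namespace Groth.Agent.Lib.Helper86.AbsIrred

open scoped TensorProduct

universe u v w x y

variable (K : Type u) [Field K] (D : Type v) [Ring D] [Algebra K D]
  (E : Type w) [AddCommGroup E] [Module K E] [Module D E] [IsScalarTower K D E]

/-- `N` is stable under the base-changed action of `D`. -/
def Stable (L : Type x) [Field L] [Algebra K L] (N : Submodule L (L ⊗[K] E)) : Prop :=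
  ∀ (d : D) (z : L ⊗[K] E), z ∈ N → (DistribSMul.toLinearMap K E d).baseChange L z ∈ N

/-- `L ⊗ E` is irreducible as an `L`-space with `D`-action. -/
def Irr (L : Type x) [Field L] [Algebra K L] : Prop :=
  Nontrivial (L ⊗[K] E) ∧ ∀ N : Submodule L (L ⊗[K] E), Stable K D E L N → N = ⊥ ∨ N = ⊤

theorem nontrivial_of_tensor (L : Type x) [Field L] [Algebra K L] (h : Nontrivial (L ⊗[K] E)) :
    Nontrivial E := by
  by_contra hE
  rw [not_nontrivial_iff_subsingleton] at hE
  have hz : ∀ a : L ⊗[K] E, a = 0 := by
    intro a
    induction a using TensorProduct.induction_on with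
    | zero => rfl
    | tmul c x => rw [Subsingleton.elim x 0, TensorProduct.tmul_zero]
    | add x y hx hy => rw [hx, hy, add_zero]
  have : Subsingleton (L ⊗[K] E) := ⟨fun a b => by rw [hz a, hz b]⟩
  exact not_subsingleton _ this

theorem nontrivial_tensor (L : Type x) [Field L] [Algebra K L] [Nontrivial E] :
    Nontrivial (L ⊗[K] E) := by
  obtain ⟨e, he⟩ := exists_ne (0 : E)
  refine ⟨⟨(1 : L) ⊗ₜ[K] e, 0, fun h => he ?_⟩⟩
  apply Module.FaithfullyFlat.tensorProduct_mk_injective (A := K) (B := L) E
  show (1 : L) ⊗ₜ[K] e = (1 : L) ⊗ₜ[K] (0 : E)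
  rw [h, TensorProduct.tmul_zero]

section Tower

variable (L : Type x) (M : Type y) [Field L] [Field M] [Algebra K L] [Algebra K M] [Algebra L M]
  [IsScalarTower K L M]

/-- The natural `L`-linear map `L ⊗ E → M ⊗ E`. -/
noncomputable def jmap : L ⊗[K] E →ₗ[L] M ⊗[K] E :=
  TensorProduct.AlgebraTensorModule.map (Algebra.linearMap L M) (LinearMap.id : E →ₗ[K] E)

@[simp] theorem jmap_tmul (l : L) (e : E) :
    jmap K E L M (l ⊗ₜ[K] e) = (algebraMap L M l) ⊗ₜ[K] e := rfl

theorem jmap_injective : Function.Injective (jmap K E L M) := by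
  have h1 : Function.Injective (LinearMap.rTensor E ((Algebra.linearMap L M).restrictScalars K)) :=
    Module.Flat.rTensor_preserves_injective_linearMap _ (algebraMap L M).injective
  have h2 : ∀ z, jmap K E L M z =
      LinearMap.rTensor E ((Algebra.linearMap L M).restrictScalars K) z := by
    intro z
    induction z using TensorProduct.induction_on with
    | zero => simp
    | tmul l e => rfl
    | add a b ha hb => rw [map_add, map_add, ha, hb]
  intro a b hab
  apply h1
  rw [← h2, ← h2, hab]

theorem jmap_baseChange (d : D) (z : L ⊗[K] E) :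
    jmap K E L M ((DistribSMul.toLinearMap K E d).baseChange L z) =
      (DistribSMul.toLinearMap K E d).baseChange M (jmap K E L M z) := by
  induction z using TensorProduct.induction_on with
  | zero => simp
  | tmul l e => rfl
  | add a b ha hb => rw [map_add, map_add, ha, hb, map_add, map_add]

/-- Irreducibility descends along a field extension. -/
theorem irr_of_irr (h : Irr K D E M) : Irr K D E L := by
  classical
  obtain ⟨hnt, hirr⟩ := h
  haveI : Nontrivial E := nontrivial_of_tensor K E M hnt
  refine ⟨nontrivial_tensor K E L, fun N hN => ?_⟩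
  obtain ⟨N', hN'⟩ : ∃ N' : Submodule M (M ⊗[K] E),
      N' = Submodule.span M ((jmap K E L M) '' (N : Set (L ⊗[K] E))) := ⟨_, rfl⟩
  have hstab : Stable K D E M N' := by
    intro d z hz
    rw [hN'] at hz ⊢
    induction hz using Submodule.span_induction with
    | mem z hz =>
      obtain ⟨n, hn, rfl⟩ := hz
      rw [← jmap_baseChange]
      exact Submodule.subset_span ⟨_, hN d n hn, rfl⟩
    | zero => rw [map_zero]; exact Submodule.zero_mem _
    | add a b _ _ ha hb => rw [map_add]; exact Submodule.add_mem _ ha hb
    | smul c a _ ha => rw [map_smul]; exact Submodule.smul_mem _ _ ha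
  rcases hirr N' hstab with h0 | h1
  · left
    rw [Submodule.eq_bot_iff]
    intro n hn
    have : jmap K E L M n ∈ N' := by rw [hN']; exact Submodule.subset_span ⟨n, hn, rfl⟩
    rw [h0, Submodule.mem_bot] at this
    apply jmap_injective K E L M
    rw [this, map_zero]
  · right
    by_contra hne
    obtain ⟨θ, hθ0, hθ⟩ := Submodule.exists_le_ker_of_lt_top N (lt_top_iff_ne_top.mpr hne)
    let g : E →ₗ[K] M :=
      ((Algebra.linearMap L M).restrictScalars K) ∘ₗ (θ.restrictScalars K) ∘ₗ
        (TensorProduct.mk K L E 1)
    have hg : ∀ e, g e = algebraMap L M (θ ((1 : L) ⊗ₜ[K] e)) := fun e => rfl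
    have key : ∀ n : L ⊗[K] E, LinearMap.liftBaseChange M g (jmap K E L M n) =
        algebraMap L M (θ n) := by
      intro n
      induction n using TensorProduct.induction_on with
      | zero => simp
      | tmul l e =>
        rw [jmap_tmul, LinearMap.liftBaseChange_tmul, hg, smul_eq_mul, ← map_mul]
        congr 1
        have : l ⊗ₜ[K] e = l • ((1 : L) ⊗ₜ[K] e) := by
          rw [TensorProduct.smul_tmul', smul_eq_mul, mul_one]
        rw [this, map_smul, smul_eq_mul]
      | add a b ha hb => rw [map_add, map_add, ha, hb, map_add, map_add]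
    have hzero : ∀ z : M ⊗[K] E, LinearMap.liftBaseChange M g z = 0 := by
      intro z
      have hz : z ∈ N' := by rw [h1]; exact Submodule.mem_top
      rw [hN'] at hz
      induction hz using Submodule.span_induction with
      | mem z hz =>
        obtain ⟨n, hn, rfl⟩ := hz
        rw [key, LinearMap.mem_ker.mp (hθ hn), map_zero]
      | zero => rw [map_zero]
      | add a b _ _ ha hb => rw [map_add, ha, hb, add_zero]
      | smul c a _ ha => rw [map_smul, ha, smul_zero]
    apply hθ0
    refine LinearMap.ext (fun n => ?_)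
    have h2 := key n
    rw [hzero, eq_comm, map_eq_zero_iff _ (algebraMap L M).injective] at h2
    rw [h2, LinearMap.zero_apply]

end Tower

section Algebraic

variable (M : Type x) [Field M] [Algebra K M] [Algebra.IsAlgebraic K M]

theorem exists_finite_sub (v : M ⊗[K] E) :
    ∃ (L : IntermediateField K M), FiniteDimensional K L ∧ ∃ vL : L ⊗[K] E, jmap K E L M vL = v := by
  classical
  obtain ⟨S, hS⟩ := TensorProduct.exists_finset v
  obtain ⟨L, hL⟩ : ∃ L : IntermediateField K M,
      L = IntermediateField.adjoin K ((S.image Prod.fst : Finset M) : Set M) := ⟨_, rfl⟩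
  have hmem : ∀ i ∈ S, i.1 ∈ L := by
    intro i hi
    rw [hL]
    apply IntermediateField.subset_adjoin
    exact Finset.mem_coe.mpr (Finset.mem_image_of_mem _ hi)
  have hfin : FiniteDimensional K L := by
    rw [hL]
    exact IntermediateField.finiteDimensional_adjoin
      (fun x _ => (Algebra.IsAlgebraic.isAlgebraic x).isIntegral)
  refine ⟨L, hfin, ∑ i ∈ S.attach, (⟨i.1.1, hmem i.1 i.2⟩ : L) ⊗ₜ[K] i.1.2, ?_⟩
  rw [map_sum, hS, ← Finset.sum_attach S]
  refine Finset.sum_congr rfl (fun i _ => ?_)
  rw [jmap_tmul]
  rfl

/-- If all finite subextensions give irreducible base changes, so does an algebraic extension. -/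
theorem irr_of_forall_finite
    (h : ∀ L : IntermediateField K M, FiniteDimensional K L → Irr K D E L) : Irr K D E M := by
  classical
  haveI hEnt : Nontrivial E :=
    nontrivial_of_tensor K E (⊥ : IntermediateField K M) (h ⊥ inferInstance).1
  refine ⟨nontrivial_tensor K E M, fun N hN => ?_⟩
  by_cases hbot : N = ⊥
  · exact Or.inl hbot
  right
  obtain ⟨v, hvN, hv0⟩ := (Submodule.ne_bot_iff N).mp hbot
  obtain ⟨L, hfin, vL, hvL⟩ := exists_finite_sub K E M v
  have hj : ∀ (c : L) (a : L ⊗[K] E),
      jmap K E L M (c • a) = (algebraMap L M c) • jmap K E L M a := by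
    intro c a
    induction a using TensorProduct.induction_on with
    | zero => rw [smul_zero, map_zero, smul_zero]
    | tmul l e =>
      rw [TensorProduct.smul_tmul', jmap_tmul, jmap_tmul, TensorProduct.smul_tmul', smul_eq_mul,
        smul_eq_mul, map_mul]
    | add a b ha hb => rw [smul_add, map_add, ha, hb, map_add, smul_add]
  obtain ⟨NL, hmemNL⟩ : ∃ NL : Submodule L (L ⊗[K] E), ∀ n, n ∈ NL ↔ jmap K E L M n ∈ N :=
    ⟨{ carrier := {n | jmap K E L M n ∈ N}
       add_mem' := fun {a b} ha hb => by
         show jmap K E L M (a + b) ∈ N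
         rw [map_add]
         exact Submodule.add_mem _ ha hb
       zero_mem' := by
         show jmap K E L M 0 ∈ N
         rw [map_zero]
         exact Submodule.zero_mem _
       smul_mem' := fun c a ha => by
         show jmap K E L M (c • a) ∈ N
         rw [hj]
         exact Submodule.smul_mem _ _ ha }, fun n => Iff.rfl⟩
  have hstab : Stable K D E L NL := by
    intro d z hz
    rw [hmemNL] at hz ⊢
    rw [jmap_baseChange]
    exact hN d _ hz
  have hNLbot : NL ≠ ⊥ := by
    intro h0
    have : vL ∈ NL := by rw [hmemNL, hvL]; exact hvN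
    rw [h0, Submodule.mem_bot] at this
    apply hv0
    rw [← hvL, this, map_zero]
  have hNLtop : NL = ⊤ := ((h L hfin).2 NL hstab).resolve_left hNLbot
  have h1 : ∀ e : E, (1 : M) ⊗ₜ[K] e ∈ N := by
    intro e
    have : (1 : L) ⊗ₜ[K] e ∈ NL := by rw [hNLtop]; exact Submodule.mem_top
    rw [hmemNL, jmap_tmul, map_one] at this
    exact this
  rw [eq_top_iff]
  intro z _
  have hall : ∀ z : M ⊗[K] E, z ∈ N := by
    intro z
    induction z using TensorProduct.induction_on with
    | zero => exact Submodule.zero_mem _
    | tmul c e =>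
      have : c ⊗ₜ[K] e = c • ((1 : M) ⊗ₜ[K] e) := by
        rw [TensorProduct.smul_tmul', smul_eq_mul, mul_one]
      rw [this]
      exact Submodule.smul_mem _ _ (h1 e)
    | add a b ha hb => exact Submodule.add_mem _ ha hb
  exact hall z

end Algebraic

end Groth.Agent.Lib.Helper86.AbsIrred
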