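import Mathlib
import Groth.Agent.Lib.Helper54.SerreLA
import Groth.Agent.Lib.Helper54.SerreCore

set_option autoImplicit false
set_option linter.style.haveILetI false

/-!
# Basic elements over the prime spectrum: the rank function
-/

universe u v

namespace Groth.Agent.Lib.Helper86.BasicEl

open Module Groth.Agent.Lib.Helper54.Serre

section LA

variable {K : Type u} [Field K] {W : Type v} [AddCommGroup W] [Module K W]

/-- A flexible choice of coefficients: starting from any `c`, moving by `s • δ` with `δ` zero or a
coordinate vector achieves the rank. -/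
theorem exists_coeff_frank' {n : ℕ} (v : Fin (n + 1) → W) (c : Fin n → K) (s : K) (hs : s ≠ 0) :
    ∃ δ : Fin n → K, (δ = 0 ∨ ∃ i₀, δ = Pi.single i₀ 1) ∧
      min n (frank (K := K) v) ≤
        frank (K := K) (fun i => v i.castSucc + (c i + s * δ i) • v (Fin.last n)) := by
  classical
  by_cases hli : LinearIndependent K (fun i : Fin n => v i.castSucc + c i • v (Fin.last n))
  · refine ⟨0, Or.inl rfl, ?_⟩
    have : (fun i : Fin n => v i.castSucc + (c i + s * (0 : Fin n → K) i) • v (Fin.last n)) =
        fun i : Fin n => v i.castSucc + c i • v (Fin.last n) := by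
      funext i; simp
    rw [this]
    unfold frank
    rw [finrank_span_eq_card hli, Fintype.card_fin]
    exact min_le_left _ _
  · rw [Fintype.not_linearIndependent_iff] at hli
    obtain ⟨b, hb, i₀, hi₀⟩ := hli
    refine ⟨Pi.single i₀ 1, Or.inr ⟨i₀, rfl⟩, (min_le_right _ _).trans ?_⟩
    unfold frank
    apply Submodule.finrank_mono
    set B := Submodule.span K (Set.range
      (fun i => v i.castSucc + (c i + s * (Pi.single i₀ (1 : K) : Fin n → K) i) • v (Fin.last n)))
      with hB
    have hmem : ∀ i, v i.castSucc + (c i + s * (Pi.single i₀ (1 : K) : Fin n → K) i) •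
        v (Fin.last n) ∈ B := fun i => Submodule.subset_span ⟨i, rfl⟩
    have hsum : ∑ i, b i • (v i.castSucc + (c i + s * (Pi.single i₀ (1 : K) : Fin n → K) i) •
        v (Fin.last n)) = (b i₀ * s) • v (Fin.last n) := by
      have h1 : ∀ i, b i • (v i.castSucc + (c i + s * (Pi.single i₀ (1 : K) : Fin n → K) i) •
          v (Fin.last n)) = b i • (v i.castSucc + c i • v (Fin.last n)) +
            (b i * s * (Pi.single i₀ (1 : K) : Fin n → K) i) • v (Fin.last n) := by
        intro i
        rw [add_smul, smul_add, smul_add, smul_add, smul_smul, smul_smul, mul_assoc, add_assoc]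
      simp only [h1, Finset.sum_add_distrib, hb, zero_add]
      rw [Finset.sum_eq_single i₀]
      · simp
      · intro j _ hj
        simp [Pi.single_eq_of_ne hj]
      · intro h; exact (h (Finset.mem_univ _)).elim
    have hL : v (Fin.last n) ∈ B := by
      have h1 : (b i₀ * s) • v (Fin.last n) ∈ B := by
        rw [← hsum]
        exact Submodule.sum_mem _ (fun i _ => Submodule.smul_mem _ _ (hmem i))
      have := Submodule.smul_mem B (b i₀ * s)⁻¹ h1
      rwa [smul_smul, inv_mul_cancel₀ (mul_ne_zero hi₀ hs), one_smul] at this
    rw [Submodule.span_le]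
    rintro _ ⟨i, rfl⟩
    induction i using Fin.lastCases with
    | last => exact hL
    | cast i =>
      have : v i.castSucc = (v i.castSucc + (c i + s * (Pi.single i₀ (1 : K) : Fin n → K) i) •
          v (Fin.last n)) - (c i + s * (Pi.single i₀ (1 : K) : Fin n → K) i) • v (Fin.last n) := by
        abel
      rw [SetLike.mem_coe, this]
      exact Submodule.sub_mem _ (hmem i) (Submodule.smul_mem _ _ hL)

end LA

variable {R : Type u} [CommRing R] {M : Type u} [AddCommGroup M] [Module R M]

/-- Evaluation of all linear forms at an element, in the residue field of a prime. -/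
noncomputable def ev (x : PrimeSpectrum R) (m : M) : (M →ₗ[R] R) → x.asIdeal.ResidueField :=
  fun φ => algebraMap R x.asIdeal.ResidueField (φ m)

theorem ev_add (x : PrimeSpectrum R) (m m' : M) : ev x (m + m') = ev x m + ev x m' := by
  funext φ; simp [ev]

theorem ev_smul (x : PrimeSpectrum R) (r : R) (m : M) :
    ev x (r • m) = algebraMap R x.asIdeal.ResidueField r • ev x m := by
  funext φ; simp [ev]

/-- The rank at `x` of a tuple of elements. -/
noncomputable def rk (x : PrimeSpectrum R) (k : ℕ) (t : Fin k → M) : ℕ :=
  frank (K := x.asIdeal.ResidueField) (fun i => ev x (t i))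

theorem rk_drop (x : PrimeSpectrum R) (n : ℕ) (t : Fin (n + 1) → M) (a : Fin n → R) :
    rk x (n + 1) t ≤ rk x n (fun i => t i.castSucc + a i • t (Fin.last n)) + 1 := by
  unfold rk
  have := frank_le_add_one (K := x.asIdeal.ResidueField) (fun i => ev x (t i))
    (fun i => algebraMap R x.asIdeal.ResidueField (a i))
  simp only [ev_add, ev_smul]
  exact this

theorem rk_congr (x : PrimeSpectrum R) (n : ℕ) (t : Fin (n + 1) → M) (a a' : Fin n → R)
    (h : ∀ i, a i - a' i ∈ x.asIdeal) :
    rk x n (fun i => t i.castSucc + a i • t (Fin.last n)) =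
      rk x n (fun i => t i.castSucc + a' i • t (Fin.last n)) := by
  unfold rk
  congr 1
  funext i
  rw [ev_add, ev_add, ev_smul, ev_smul]
  congr 2
  have := (Ideal.algebraMap_residueField_eq_zero (I := x.asIdeal)).2 (h i)
  rw [map_sub, sub_eq_zero] at this
  exact this

theorem rk_choice (P : Finset (PrimeSpectrum R)) (n : ℕ) (t : Fin (n + 1) → M) :
    ∃ a : Fin n → R, ∀ x ∈ P,
      min n (rk x (n + 1) t) ≤ rk x n (fun i => t i.castSucc + a i • t (Fin.last n)) := by
  classical
  induction hc : P.card using Nat.strong_induction_on generalizing P with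
  | _ N ih =>
    rcases P.eq_empty_or_nonempty with rfl | hne
    · exact ⟨0, fun x hx => absurd hx (Finset.notMem_empty x)⟩
    · -- a minimal element
      obtain ⟨p, hpP, hpmin⟩ := P.exists_minimal hne
      obtain ⟨a', ha'⟩ := ih (P.erase p).card (by rw [← hc]; exact Finset.card_erase_lt_of_mem hpP)
        (P.erase p) rfl
      -- an element of all the other primes, not in p
      have hs : ∃ s : R, s ∉ p.asIdeal ∧ ∀ q ∈ P.erase p, s ∈ q.asIdeal := by
        by_contra hcon
        push Not at hcon
        have hle : ∏ q ∈ P.erase p, q.asIdeal ≤ p.asIdeal := by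
          intro s hs
          by_contra hsp
          obtain ⟨q, hq, hsq⟩ := hcon s hsp
          exact hsq (Ideal.prod_le_inf hs |> fun h => (Finset.inf_le hq : _ ≤ q.asIdeal) h)
        obtain ⟨q, hq, hqp⟩ := (Ideal.IsPrime.prod_le p.isPrime).1 hle
        have hq' := Finset.mem_erase.1 hq
        have : q ≤ p := (PrimeSpectrum.asIdeal_le_asIdeal q p).1 hqp
        have hpq : p ≤ q := hpmin hq'.2 this
        exact hq'.1 (le_antisymm this hpq)
      obtain ⟨s, hsp, hsq⟩ := hs
      have hs0 : algebraMap R p.asIdeal.ResidueField s ≠ 0 := by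
        rw [Ne, Ideal.algebraMap_residueField_eq_zero]
        exact hsp
      obtain ⟨δ, hδ, hrank⟩ := exists_coeff_frank' (K := p.asIdeal.ResidueField)
        (fun i => ev p (t i)) (fun i => algebraMap R p.asIdeal.ResidueField (a' i))
        (algebraMap R p.asIdeal.ResidueField s) hs0
      -- lift δ
      obtain ⟨d, hd⟩ : ∃ d : Fin n → R, ∀ i, algebraMap R p.asIdeal.ResidueField (d i) = δ i := by
        rcases hδ with rfl | ⟨i₀, rfl⟩
        · exact ⟨0, fun i => by simp⟩
        · refine ⟨Pi.single i₀ 1, fun i => ?_⟩
          by_cases hi : i = i₀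
          · subst hi; simp
          · simp [Pi.single_eq_of_ne hi]
      refine ⟨fun i => a' i + s * d i, fun x hx => ?_⟩
      by_cases hxp : x = p
      · subst hxp
        unfold rk
        have key : (fun i => ev x ((fun i => t i.castSucc + (a' i + s * d i) • t (Fin.last n)) i)) =
            fun i => ev x (t i.castSucc) + (algebraMap R x.asIdeal.ResidueField (a' i) +
              algebraMap R x.asIdeal.ResidueField s * δ i) • ev x (t (Fin.last n)) := by
          funext i
          show ev x (t i.castSucc + (a' i + s * d i) • t (Fin.last n)) = _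
          rw [ev_add, ev_smul, map_add, map_mul, hd i]
        rw [key]
        exact hrank
      · have hxmem : x ∈ P.erase p := Finset.mem_erase.2 ⟨hxp, hx⟩
        rw [rk_congr x n t (fun i => a' i + s * d i) a'
          (fun i => by
            show a' i + s * d i - a' i ∈ x.asIdeal
            rw [add_sub_cancel_left]
            exact Ideal.mul_mem_right _ _ (hsq x hxmem))]
        exact ha' x hxmem

end Groth.Agent.Lib.Helper86.BasicEl
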