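import Mathlib
import Groth.Agent.Lib.Helper86.BasicEl1

set_option autoImplicit false
set_option linter.style.haveILetI false

/-!
# Basic elements over the prime spectrum: closedness and existence
-/

universe u

namespace Groth.Agent.Lib.Helper86.BasicEl

open Module Groth.Agent.Lib.Helper54.Serre

variable {R : Type u} [CommRing R] {M : Type u} [AddCommGroup M] [Module R M]

/-- Determinantal criterion for independence of evaluations. -/
theorem linearIndependent_ev_iff (x : PrimeSpectrum R) {w : ℕ} (m : Fin w → M) :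
    LinearIndependent x.asIdeal.ResidueField (fun j => ev x (m j)) ↔
      ∃ φ : Fin w → (M →ₗ[R] R), (Matrix.of fun j k => φ k (m j)).det ∉ x.asIdeal := by
  have hdet : ∀ φ : Fin w → (M →ₗ[R] R),
      LinearIndependent x.asIdeal.ResidueField (fun j => fun k => ev x (m j) (φ k)) ↔
        (Matrix.of fun j k => φ k (m j)).det ∉ x.asIdeal := by
    intro φ
    set A₀ : Matrix (Fin w) (Fin w) R := Matrix.of fun j k => φ k (m j) with hA₀
    set A : Matrix (Fin w) (Fin w) x.asIdeal.ResidueField :=
      (algebraMap R x.asIdeal.ResidueField).mapMatrix A₀ with hA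
    have h1 : (fun j => fun k => ev x (m j) (φ k)) = A.row := by
      funext j k
      simp [hA, hA₀, ev, Matrix.row]
    rw [h1, Matrix.linearIndependent_rows_iff_isUnit, Matrix.isUnit_iff_isUnit_det, hA,
      ← RingHom.map_det, isUnit_iff_ne_zero, Ne, Ideal.algebraMap_residueField_eq_zero]
  constructor
  · intro h
    obtain ⟨ι, hι⟩ := exists_coords (K := x.asIdeal.ResidueField) (fun j => ev x (m j)) h
    exact ⟨ι, (hdet ι).1 hι⟩
  · rintro ⟨φ, hφ⟩
    have := (hdet φ).2 hφ
    exact LinearIndependent.of_comp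
      (LinearMap.funLeft x.asIdeal.ResidueField x.asIdeal.ResidueField φ) this

theorem rk_lt_iff (x : PrimeSpectrum R) (k : ℕ) (t : Fin k → M) (w : ℕ) :
    rk x k t < w ↔ ∀ σ : Fin w → Fin k,
      ¬ LinearIndependent x.asIdeal.ResidueField (fun j => ev x (t (σ j))) := by
  classical
  constructor
  · intro h σ hli
    have h1 : finrank x.asIdeal.ResidueField
        (Submodule.span x.asIdeal.ResidueField (Set.range (fun j => ev x (t (σ j))))) = w := by
      rw [finrank_span_eq_card hli, Fintype.card_fin]
    have h2 : Submodule.span x.asIdeal.ResidueField (Set.range (fun j => ev x (t (σ j)))) ≤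
        Submodule.span x.asIdeal.ResidueField (Set.range (fun i => ev x (t i))) := by
      apply Submodule.span_mono
      rintro _ ⟨j, rfl⟩
      exact ⟨σ j, rfl⟩
    have h3 := Submodule.finrank_mono h2
    rw [h1] at h3
    unfold rk frank at h
    omega
  · intro h
    by_contra hge
    rw [not_lt] at hge
    obtain ⟨κ', a, ha, hspan, hli⟩ :=
      exists_linearIndependent' x.asIdeal.ResidueField (fun i => ev x (t i))
    haveI : Finite κ' := Finite.of_injective a ha
    haveI : Fintype κ' := Fintype.ofFinite κ'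
    have hcard : w ≤ Fintype.card κ' := by
      rw [← finrank_span_eq_card hli, hspan]
      exact hge
    let e := Fintype.equivFin κ'
    let g : Fin w → κ' := fun j => e.symm (Fin.castLE hcard j)
    have hg : Function.Injective g := by
      intro i j hij
      exact Fin.castLE_injective hcard (e.symm.injective hij)
    exact h (fun j => a (g j)) (hli.comp g hg)

theorem isClosed_mem (r : R) : IsClosed {x : PrimeSpectrum R | r ∈ x.asIdeal} := by
  have : {x : PrimeSpectrum R | r ∈ x.asIdeal} = PrimeSpectrum.zeroLocus {r} := by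
    ext x
    simp [PrimeSpectrum.mem_zeroLocus]
  rw [this]
  exact PrimeSpectrum.isClosed_zeroLocus _

theorem isClosed_rk_lt (k : ℕ) (t : Fin k → M) (w : ℕ) :
    IsClosed {x : PrimeSpectrum R | rk x k t < w} := by
  have : {x : PrimeSpectrum R | rk x k t < w} =
      ⋂ (σ : Fin w → Fin k), ⋂ (φ : Fin w → (M →ₗ[R] R)),
        {x : PrimeSpectrum R | (Matrix.of fun j k => φ k (t (σ j))).det ∈ x.asIdeal} := by
    ext x
    simp only [Set.mem_ofPred_eq, Set.mem_iInter]
    rw [rk_lt_iff]
    constructor
    · intro h σ φ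
      by_contra hdet
      exact h σ ((linearIndependent_ev_iff x (fun j => t (σ j))).2 ⟨φ, hdet⟩)
    · intro h σ hli
      obtain ⟨φ, hφ⟩ := (linearIndependent_ev_iff x (fun j => t (σ j))).1 hli
      exact hφ (h σ φ)
  rw [this]
  exact isClosed_iInter fun σ => isClosed_iInter fun φ => isClosed_mem _

/-- One element has positive rank iff some linear form does not vanish on it modulo the prime. -/
theorem one_le_rk_iff (x : PrimeSpectrum R) (m : M) :
    1 ≤ rk x 1 (fun _ => m) ↔ ∃ φ : M →ₗ[R] R, φ m ∉ x.asIdeal := by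
  rw [← not_lt, rk_lt_iff]
  constructor
  · intro h
    push Not at h
    obtain ⟨σ, hσ⟩ := h
    obtain ⟨φ, hφ⟩ := (linearIndependent_ev_iff x (fun _ : Fin 1 => m)).1 hσ
    refine ⟨φ 0, ?_⟩
    have : (Matrix.of fun (_ : Fin 1) k => φ k m).det = φ 0 m := by
      simp [Matrix.det_fin_one]
    rwa [this] at hφ
  · rintro ⟨φ, hφ⟩ h
    apply h (fun _ => 0)
    apply (linearIndependent_ev_iff x (fun _ : Fin 1 => m)).2
    refine ⟨fun _ => φ, ?_⟩
    have : (Matrix.of fun (_ : Fin 1) (_ : Fin 1) => φ m).det = φ m := by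
      simp [Matrix.det_fin_one]
    rwa [this]

/-- Irreducible closed subsets of the prime spectrum. -/
theorem exists_generic (C : TopologicalSpace.IrreducibleCloseds (PrimeSpectrum R)) :
    ∃ p : PrimeSpectrum R, (C : Set (PrimeSpectrum R)) = closure {p} ∧
      Order.coheight C = p.asIdeal.height := by
  let e := PrimeSpectrum.pointsEquivIrreducibleCloseds R
  refine ⟨e.symm (OrderDual.toDual C), ?_, ?_⟩
  · have h1 : e (e.symm (OrderDual.toDual C)) = OrderDual.toDual C := e.apply_symm_apply _
    have h2 : ∀ q : PrimeSpectrum R,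
        ((OrderDual.ofDual (e q) : TopologicalSpace.IrreducibleCloseds (PrimeSpectrum R)) :
          Set (PrimeSpectrum R)) = closure {q} := fun q => rfl
    have h3 := h2 (e.symm (OrderDual.toDual C))
    rw [h1] at h3
    exact h3
  · have h1 : Order.height (e (e.symm (OrderDual.toDual C))) =
        Order.height (e.symm (OrderDual.toDual C)) := Order.height_orderIso e _
    rw [e.apply_symm_apply, Order.height_toDual] at h1
    rw [h1, PrimeSpectrum.height_eq_orderHeight]

/-- Existence of a basic element at all primes of height at most `k`. -/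
theorem exists_basic [IsNoetherianRing R] [Module.Finite R M] (k r : ℕ) (hkr : k < r)
    (hrk : ∀ (n : ℕ) (t : Fin (n + 1) → M), Submodule.span R (Set.range t) = ⊤ →
      ∀ p : PrimeSpectrum R, p.asIdeal.height ≤ k → r ≤ rk p (n + 1) t) :
    ∃ m : M, ∀ p : PrimeSpectrum R, p.asIdeal.height ≤ k → 1 ≤ rk p 1 (fun _ => m) := by
  obtain ⟨n, s, hs⟩ := Module.Finite.exists_fin (R := R) (M := M)
  let t : Fin (n + 1) → M := Fin.cons 0 s
  have ht : Submodule.span R (Set.range t) = ⊤ := by
    rw [eq_top_iff, ← hs]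
    apply Submodule.span_mono
    rintro _ ⟨i, rfl⟩
    exact ⟨i.succ, by simp [t]⟩
  have H : ∀ w ≤ n + 1, ∀ C : TopologicalSpace.IrreducibleCloseds (PrimeSpectrum R),
      ¬ (C : Set (PrimeSpectrum R)) ⊆ ∅ →
      (C : Set (PrimeSpectrum R)) ⊆ ∅ ∪ {x | rk x (n + 1) t < w} →
      ((k + 1 + 1 : ℕ) : ℕ∞) ≤ Order.coheight C + w := by
    intro w _ C _ hC
    obtain ⟨p, hCp, hht⟩ := exists_generic C
    have hpC : p ∈ (C : Set (PrimeSpectrum R)) := by
      rw [hCp]; exact subset_closure rfl
    have hp : rk p (n + 1) t < w := by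
      rcases hC hpC with h | h
      · exact absurd h (Set.notMem_empty _)
      · exact h
    rw [hht]
    by_cases hle : p.asIdeal.height ≤ k
    · have := hrk n t ht p hle
      have hw : k + 1 + 1 ≤ w := by omega
      calc ((k + 1 + 1 : ℕ) : ℕ∞) ≤ (w : ℕ∞) := by exact_mod_cast hw
        _ ≤ _ := le_add_self
    · rw [not_le] at hle
      have h1 : ((k + 1 : ℕ) : ℕ∞) ≤ p.asIdeal.height := by
        have := Order.add_one_le_of_lt hle
        exact_mod_cast this
      have hw : 1 ≤ w := by omega
      calc ((k + 1 + 1 : ℕ) : ℕ∞) = ((k + 1 : ℕ) : ℕ∞) + 1 := by push_cast; ring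
        _ ≤ p.asIdeal.height + w := add_le_add h1 (by exact_mod_cast hw)
  obtain ⟨y, -, hy⟩ := exists_reduction (Ω := PrimeSpectrum R) (R := R) (M := M) rk
    isClosed_rk_lt rk_drop rk_choice ∅ isClosed_empty (k + 1) n t H
  refine ⟨t 0 + y, fun p hp => ?_⟩
  by_contra hlt
  rw [not_le] at hlt
  let C : TopologicalSpace.IrreducibleCloseds (PrimeSpectrum R) :=
    ⟨closure {p}, isIrreducible_singleton.closure, isClosed_closure⟩
  have hCne : ¬ (C : Set (PrimeSpectrum R)) ⊆ ∅ := by
    intro h
    exact Set.notMem_empty p (h (subset_closure rfl))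
  have hCsub : (C : Set (PrimeSpectrum R)) ⊆ ∅ ∪ {x | rk x 1 (fun _ => t 0 + y) < 1} := by
    rw [Set.empty_union]
    apply (isClosed_rk_lt 1 (fun _ => t 0 + y) 1).closure_subset_iff.2
    rw [Set.singleton_subset_iff]
    exact hlt
  have h1 := hy C hCne hCsub
  obtain ⟨p', hCp', hht⟩ := exists_generic C
  have hpp' : p' = p := by
    have h2 : closure {p'} = closure {p} := hCp'.symm
    have hs1 : p' ⤳ p := by
      rw [specializes_iff_mem_closure, h2]
      exact subset_closure rfl
    have hs2 : p ⤳ p' := by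
      rw [specializes_iff_mem_closure, ← h2]
      exact subset_closure rfl
    exact (hs1.antisymm hs2).eq
  rw [hht, hpp'] at h1
  have h3 : ((k + 1 : ℕ) : ℕ∞) ≤ (k : ℕ∞) := h1.trans hp
  have : k + 1 ≤ k := by exact_mod_cast h3
  omega

end Groth.Agent.Lib.Helper86.BasicEl
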