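import Mathlib
import Groth.Agent.Lib.Helper86.BasicEl2

set_option autoImplicit false
set_option linter.style.haveILetI false

/-!
# Basic elements: local algebra
-/

universe u

namespace Groth.Agent.Lib.Helper86.BasicEl

open Module Groth.Agent.Lib.Helper54.Serre

/-- Quotient of a free module over a local ring by a unimodular element. -/
theorem quotient_free_of_unimodular {S₀ : Type*} [CommRing S₀] [IsLocalRing S₀] {L : Type*}
    [AddCommGroup L] [Module S₀ L] (r : ℕ) (e : L ≃ₗ[S₀] (Fin r → S₀)) (μ : L)
    (ψ : L →ₗ[S₀] S₀) (hψ : IsUnit (ψ μ)) :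
    Nonempty ((L ⧸ Submodule.span S₀ {μ}) ≃ₗ[S₀] (Fin (r - 1) → S₀)) := by
  obtain ⟨c, hc⟩ := hψ.exists_left_inv
  haveI : Module.Free S₀ L := Module.Free.of_equiv e.symm
  haveI : Module.Finite S₀ L := Module.Finite.equiv e.symm
  let π : L →ₗ[S₀] L := LinearMap.id - (c • ψ).smulRight μ
  have hπ : ∀ x, π x = x - (c * ψ x) • μ := fun x => by
    simp [π, LinearMap.smulRight_apply]
  have hπker : ∀ x, π x ∈ LinearMap.ker ψ := by
    intro x
    rw [LinearMap.mem_ker, hπ, map_sub, map_smul, smul_eq_mul]
    have : c * ψ x * ψ μ = ψ x * (c * ψ μ) := by ring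
    rw [this, hc, mul_one, sub_self]
  let π' : L →ₗ[S₀] LinearMap.ker ψ := π.codRestrict (LinearMap.ker ψ) hπker
  have hπ'id : ∀ y : LinearMap.ker ψ, π' y = y := by
    intro y
    apply Subtype.ext
    show π y = y
    rw [hπ, (LinearMap.mem_ker).1 y.2, mul_zero, zero_smul, sub_zero]
  have hπ'surj : Function.Surjective π' := fun y => ⟨y, hπ'id y⟩
  have hπμ : π μ = 0 := by
    rw [hπ, hc, one_smul, sub_self]
  have hker : LinearMap.ker π' = Submodule.span S₀ {μ} := by
    apply le_antisymm
    · intro x hx
      have h1 : π x = 0 := congr_arg Subtype.val (LinearMap.mem_ker.1 hx)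
      rw [hπ, sub_eq_zero] at h1
      rw [h1]
      exact Submodule.smul_mem _ _ (Submodule.subset_span rfl)
    · rw [Submodule.span_le, Set.singleton_subset_iff]
      show π' μ = 0
      apply Subtype.ext
      exact hπμ
  haveI : Module.Finite S₀ (LinearMap.ker ψ) := Module.Finite.of_surjective π' hπ'surj
  haveI : Module.Projective S₀ (LinearMap.ker ψ) :=
    Module.Projective.of_split (LinearMap.ker ψ).subtype π' (by
      ext y
      exact congr_arg Subtype.val (hπ'id y))
  haveI : Module.Free S₀ (LinearMap.ker ψ) := Module.free_of_flat_of_isLocalRing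
  -- L ≃ ker ψ × S₀
  let F : L →ₗ[S₀] (LinearMap.ker ψ × S₀) := π'.prod ψ
  let G : (LinearMap.ker ψ × S₀) →ₗ[S₀] L :=
    (LinearMap.ker ψ).subtype.coprod ((LinearMap.id : S₀ →ₗ[S₀] S₀).smulRight (c • μ))
  have hG : ∀ y a, G (y, a) = (y : L) + a • (c • μ) := fun y a => by
    simp [G, LinearMap.coprod_apply, LinearMap.smulRight_apply]
  let E : L ≃ₗ[S₀] (LinearMap.ker ψ × S₀) := LinearEquiv.ofLinearMap F G (by
      apply LinearMap.ext
      rintro ⟨y, a⟩
      apply Prod.ext
      · apply Subtype.ext
        show π (G (y, a)) = y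
        rw [hG, map_add, map_smul, map_smul, hπμ, smul_zero, smul_zero, add_zero]
        exact congr_arg Subtype.val (hπ'id y)
      · show ψ (G (y, a)) = a
        rw [hG, map_add, map_smul, map_smul, (LinearMap.mem_ker).1 y.2, zero_add, smul_eq_mul,
          smul_eq_mul, hc, mul_one]) (by
      apply LinearMap.ext
      intro x
      show G (π' x, ψ x) = x
      rw [hG]
      show π x + ψ x • (c • μ) = x
      rw [hπ, smul_smul, mul_comm (ψ x) c, sub_add_cancel])
  have hrank : Module.finrank S₀ (LinearMap.ker ψ) = r - 1 := by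
    have h1 : Module.finrank S₀ L = r := by
      rw [LinearEquiv.finrank_eq e, Module.finrank_fin_fun]
    have h2 : Module.finrank S₀ L = Module.finrank S₀ (LinearMap.ker ψ) + 1 := by
      rw [LinearEquiv.finrank_eq E, Module.finrank_prod, Module.finrank_self]
    omega
  have E2 : (L ⧸ Submodule.span S₀ {μ}) ≃ₗ[S₀] LinearMap.ker ψ :=
    (Submodule.quotEquivOfEq _ _ hker.symm).trans (π'.quotKerEquivOfSurjective hπ'surj)
  have E3 : LinearMap.ker ψ ≃ₗ[S₀] (Fin (r - 1) → S₀) :=
    LinearEquiv.ofFinrankEq _ _ (by rw [hrank, Module.finrank_fin_fun])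
  exact ⟨E2.trans E3⟩

variable {R : Type u} [CommRing R] {M : Type u} [AddCommGroup M] [Module R M]

theorem ev_mem_span (p : PrimeSpectrum R) {n : ℕ} (t : Fin n → M) (m : M)
    (hm : m ∈ Submodule.span R (Set.range t)) :
    ev p m ∈ Submodule.span p.asIdeal.ResidueField (Set.range fun i => ev p (t i)) := by
  induction hm using Submodule.span_induction with
  | mem x hx =>
    obtain ⟨i, rfl⟩ := hx
    exact Submodule.subset_span ⟨i, rfl⟩
  | zero =>
    have : ev p (0 : M) = 0 := by funext φ; simp [ev]
    rw [this]; exact Submodule.zero_mem _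
  | add x y _ _ hx hy => rw [ev_add]; exact Submodule.add_mem _ hx hy
  | smul a x _ hx => rw [ev_smul]; exact Submodule.smul_mem _ _ hx

/-- At a prime where the module is free of rank `r`, generators have rank at least `r`. -/
theorem le_rk_of_free [IsNoetherianRing R] [Module.Finite R M] (p : PrimeSpectrum R) (r : ℕ)
    (e : LocalizedModule p.asIdeal.primeCompl M ≃ₗ[Localization.AtPrime p.asIdeal]
      (Fin r → Localization.AtPrime p.asIdeal))
    (n : ℕ) (t : Fin n → M) (ht : Submodule.span R (Set.range t) = ⊤) : r ≤ rk p n t := by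
  classical
  haveI : Module.FinitePresentation R M := Module.finitePresentation_of_finite R M
  let S := p.asIdeal.primeCompl
  let f := LocalizedModule.mkLinearMap S M
  have h1 : ∀ j : Fin r, ∃ (m : M) (s : S), s • e.symm (Pi.single j 1) = f m := by
    intro j
    obtain ⟨⟨m, s⟩, h⟩ := IsLocalizedModule.surj S f (e.symm (Pi.single j 1))
    exact ⟨m, s, h⟩
  choose m s hms using h1
  let g : Fin r → (M →ₗ[R] Localization.AtPrime p.asIdeal) := fun k =>
    ((LinearMap.proj k ∘ₗ e.toLinearMap).restrictScalars R) ∘ₗ f
  have h2 : ∀ k : Fin r, ∃ (φ : M →ₗ[R] R) (u : S),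
      (Algebra.linearMap R (Localization.AtPrime p.asIdeal)) ∘ₗ φ = u • g k := fun k =>
    Module.FinitePresentation.exists_lift_of_isLocalizedModule S
      (Algebra.linearMap R (Localization.AtPrime p.asIdeal)) (g k)
  choose φ u hφ using h2
  have hentry : ∀ j k : Fin r, algebraMap R (Localization.AtPrime p.asIdeal) (φ k (m j)) =
      if k = j then algebraMap R (Localization.AtPrime p.asIdeal) ((u k : R) * (s j : R)) else 0 := by
    intro j k
    have h3 := LinearMap.congr_fun (hφ k) (m j)
    have h4 : (g k) (m j) = (e (f (m j))) k := rfl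
    have h5 : e (f (m j)) = (s j : R) • (Pi.single j 1 : Fin r → Localization.AtPrime p.asIdeal) := by
      rw [← hms j]
      have : ((s j : S) • e.symm (Pi.single j 1) : LocalizedModule S M) =
          ((s j : R) • e.symm (Pi.single j 1) : LocalizedModule S M) := rfl
      rw [this, ← algebraMap_smul (Localization.AtPrime p.asIdeal) (s j : R), map_smul,
        LinearEquiv.apply_symm_apply, algebraMap_smul]
    have h6 : (Algebra.linearMap R (Localization.AtPrime p.asIdeal) ∘ₗ φ k) (m j) =
        algebraMap R (Localization.AtPrime p.asIdeal) (φ k (m j)) := rfl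
    rw [← h6, h3]
    show (u k : R) • (g k) (m j) = _
    rw [h4, h5]
    by_cases hkj : k = j
    · subst hkj
      rw [if_pos rfl, Pi.smul_apply, Pi.single_eq_same, map_mul, Algebra.smul_def,
        Algebra.smul_def, mul_one]
    · rw [if_neg hkj, Pi.smul_apply, Pi.single_eq_of_ne hkj, smul_zero, smul_zero]
  have hdet : (Matrix.of fun j k => φ k (m j)).det ∉ p.asIdeal := by
    intro hmem
    have h7 : algebraMap R (Localization.AtPrime p.asIdeal) (Matrix.of fun j k => φ k (m j)).det =
        ∏ j : Fin r, algebraMap R (Localization.AtPrime p.asIdeal) ((u j : R) * (s j : R)) := by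
      rw [RingHom.map_det]
      have : (algebraMap R (Localization.AtPrime p.asIdeal)).mapMatrix
          (Matrix.of fun j k => φ k (m j)) =
          Matrix.diagonal fun j => algebraMap R (Localization.AtPrime p.asIdeal)
            ((u j : R) * (s j : R)) := by
        ext j k
        simp only [RingHom.mapMatrix_apply, Matrix.map_apply, Matrix.of_apply]
        rw [hentry j k, Matrix.diagonal_apply]
        by_cases hkj : k = j
        · subst hkj; simp
        · rw [if_neg hkj, if_neg (fun h => hkj h.symm)]
      rw [this, Matrix.det_diagonal]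
    have h8 : IsUnit (algebraMap R (Localization.AtPrime p.asIdeal)
        (Matrix.of fun j k => φ k (m j)).det) := by
      rw [h7]
      rw [← map_prod]
      apply IsLocalization.map_units (Localization.AtPrime p.asIdeal)
        (⟨∏ j : Fin r, (u j : R) * (s j : R), ?_⟩ : S)
      apply Submonoid.prod_mem
      intro j _
      exact S.mul_mem (u j).2 (s j).2
    exact ((IsLocalization.AtPrime.isUnit_to_map_iff (Localization.AtPrime p.asIdeal)
      p.asIdeal _).1 h8) hmem
  have hli : LinearIndependent p.asIdeal.ResidueField (fun j => ev p (m j)) :=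
    (linearIndependent_ev_iff p m).2 ⟨φ, hdet⟩
  have hsub : Submodule.span p.asIdeal.ResidueField (Set.range fun j => ev p (m j)) ≤
      Submodule.span p.asIdeal.ResidueField (Set.range fun i => ev p (t i)) := by
    rw [Submodule.span_le]
    rintro _ ⟨j, rfl⟩
    exact ev_mem_span p t (m j) (by rw [ht]; trivial)
  have := Submodule.finrank_mono hsub
  rw [finrank_span_eq_card hli, Fintype.card_fin] at this
  exact this

/-- Quotient by a basic element is free of rank one less, locally. -/
theorem quotient_free_of_basic (p : PrimeSpectrum R) (r : ℕ)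
    (e : LocalizedModule p.asIdeal.primeCompl M ≃ₗ[Localization.AtPrime p.asIdeal]
      (Fin r → Localization.AtPrime p.asIdeal))
    (m : M) (φ : M →ₗ[R] R) (hφ : φ m ∉ p.asIdeal) :
    Nonempty (LocalizedModule p.asIdeal.primeCompl (M ⧸ Submodule.span R {m}) ≃ₗ[Localization.AtPrime p.asIdeal]
      (Fin (r - 1) → Localization.AtPrime p.asIdeal)) := by
  let S := p.asIdeal.primeCompl
  let f := LocalizedModule.mkLinearMap S M
  let ψ : LocalizedModule S M →ₗ[Localization.AtPrime p.asIdeal] Localization.AtPrime p.asIdeal :=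
    IsLocalizedModule.mapExtendScalars S f
      (Algebra.linearMap R (Localization.AtPrime p.asIdeal)) (Localization.AtPrime p.asIdeal) φ
  have hψ : ψ (f m) = algebraMap R (Localization.AtPrime p.asIdeal) (φ m) := by
    simp only [ψ, IsLocalizedModule.mapExtendScalars_apply_apply]
    rw [IsLocalizedModule.map_apply]
    rfl
  have hunit : IsUnit (ψ (f m)) := by
    rw [hψ]
    exact IsLocalization.map_units (Localization.AtPrime p.asIdeal) (⟨φ m, hφ⟩ : S)
  obtain ⟨E⟩ := quotient_free_of_unimodular r e (f m) ψ hunit
  have hspan : (Submodule.span R {m}).localized S =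
      Submodule.span (Localization.AtPrime p.asIdeal) {f m} := by
    show (Submodule.span R {m}).localized' (Localization S) S f = _
    rw [Submodule.localized'_span, Set.image_singleton]
  exact ⟨(localizedQuotientEquiv S (Submodule.span R {m})).symm.trans
    ((Submodule.quotEquivOfEq _ _ hspan).trans E)⟩

/-- An element vanishing in the localisation at every associated prime is zero. -/
theorem eq_zero_of_forall_associatedPrimes [IsNoetherianRing R] (a : R)
    (h : ∀ P ∈ associatedPrimes R R, ∃ s : R, s ∉ P ∧ s * a = 0) : a = 0 := by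
  by_contra ha
  obtain ⟨P, hP, hle⟩ := exists_le_isAssociatedPrime_of_isNoetherianRing R a ha
  obtain ⟨s, hsP, hsa⟩ := h P hP
  apply hsP
  apply hle
  rw [Submodule.mem_colon_singleton, smul_eq_mul, hsa]
  exact Submodule.zero_mem _

end Groth.Agent.Lib.Helper86.BasicEl
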