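import Mathlib
import Groth.Agent.Lib.Helper86.BasicEl3

set_option autoImplicit false
set_option linter.style.haveILetI false

/-!
# Free submodules with locally free quotient in low height
-/

universe u

namespace Groth.Agent.Lib.Helper86.BasicEl

open Module

/-- Extension of a free module by a cyclic module with trivial annihilator. -/
theorem free_of_extension {A : Type u} [CommRing A] {M : Type u} [AddCommGroup M] [Module A M]
    (m : M) (hann : ∀ a : A, a • m = 0 → a = 0) (j : ℕ)
    (N' : Submodule A (M ⧸ Submodule.span A {m})) (E' : N' ≃ₗ[A] (Fin j → A)) :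
    Nonempty ((N'.comap (Submodule.span A {m}).mkQ : Submodule A M) ≃ₗ[A] (Fin (j + 1) → A)) := by
  let S₁ := Submodule.span A {m}
  let N : Submodule A M := N'.comap S₁.mkQ
  have hmN : m ∈ N := by
    show S₁.mkQ m ∈ N'
    have : S₁.mkQ m = 0 := (Submodule.Quotient.mk_eq_zero _).2 (Submodule.subset_span rfl)
    rw [this]
    exact N'.zero_mem
  let g : N →ₗ[A] N' := S₁.mkQ.restrict (fun x hx => hx)
  have hg : Function.Surjective g := by
    rintro ⟨y, hy⟩
    obtain ⟨x, rfl⟩ := Submodule.mkQ_surjective S₁ y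
    exact ⟨⟨x, hy⟩, rfl⟩
  obtain ⟨h, hh⟩ := Module.projective_lifting_property g E'.symm.toLinearMap hg
  have hgh : ∀ c, g (h c) = E'.symm c := fun c => LinearMap.congr_fun hh c
  have hgm : g ⟨m, hmN⟩ = 0 := by
    apply Subtype.ext
    show S₁.mkQ m = 0
    exact (Submodule.Quotient.mk_eq_zero _).2 (Submodule.subset_span rfl)
  let Φ : (A × (Fin j → A)) →ₗ[A] N :=
    ((LinearMap.id : A →ₗ[A] A).smulRight (⟨m, hmN⟩ : N)).coprod h
  have hΦ : ∀ a c, Φ (a, c) = a • (⟨m, hmN⟩ : N) + h c := fun a c => by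
    simp [Φ, LinearMap.coprod_apply, LinearMap.smulRight_apply]
  have hinj : Function.Injective Φ := by
    rw [injective_iff_map_eq_zero]
    rintro ⟨a, c⟩ h0
    rw [hΦ] at h0
    have h1 := congr_arg g h0
    rw [map_add, map_smul, hgm, smul_zero, zero_add, hgh, map_zero] at h1
    have hc : c = 0 := by
      have := congr_arg E' h1
      rwa [LinearEquiv.apply_symm_apply, map_zero] at this
    rw [hc, map_zero, add_zero] at h0
    have h2 : a • m = 0 := congr_arg Subtype.val h0
    rw [hann a h2, hc]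
    rfl
  have hsurj : Function.Surjective Φ := by
    intro x
    have h1 : g (x - h (E' (g x))) = 0 := by
      rw [map_sub, hgh, LinearEquiv.symm_apply_apply, sub_self]
    have h2 : S₁.mkQ ((x - h (E' (g x)) : N) : M) = 0 := congr_arg Subtype.val h1
    have h3 : ((x - h (E' (g x)) : N) : M) ∈ S₁ := (Submodule.Quotient.mk_eq_zero _).1 h2
    obtain ⟨a, ha⟩ := Submodule.mem_span_singleton.1 h3
    refine ⟨(a, E' (g x)), ?_⟩
    rw [hΦ]
    apply Subtype.ext
    show a • m + ((h (E' (g x)) : N) : M) = x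
    rw [ha]
    show ((x : M) - (h (E' (g x)) : N)) + ((h (E' (g x)) : N) : M) = x
    rw [sub_add_cancel]
  let E1 : (A × (Fin j → A)) ≃ₗ[A] N := LinearEquiv.ofBijective Φ ⟨hinj, hsurj⟩
  exact ⟨E1.symm.trans (Fin.consLinearEquiv A (fun _ : Fin (j + 1) => A))⟩

theorem main (A : Type u) [CommRing A] [IsNoetherianRing A] :
    ∀ (j : ℕ) (M : Type u) [AddCommGroup M] [Module A M] [Module.Finite A M] (k : ℕ)
      (_ : ∀ p ∈ associatedPrimes A A, p.height ≤ k)
      (_ : ∀ p : PrimeSpectrum A, p.asIdeal.height ≤ k →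
        Nonempty (LocalizedModule p.asIdeal.primeCompl M ≃ₗ[Localization.AtPrime p.asIdeal]
          (Fin (k + j) → Localization.AtPrime p.asIdeal))),
      ∃ N : Submodule A M, Nonempty (N ≃ₗ[A] (Fin j → A)) ∧
        ∀ p : PrimeSpectrum A, p.asIdeal.height ≤ k →
          Nonempty (LocalizedModule p.asIdeal.primeCompl (M ⧸ N) ≃ₗ[Localization.AtPrime p.asIdeal]
            (Fin k → Localization.AtPrime p.asIdeal)) := by
  intro j
  induction j with
  | zero =>
    intro M _ _ _ k _ hM
    refine ⟨⊥, ⟨LinearEquiv.ofSubsingleton _ _⟩, fun p hp => ?_⟩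
    obtain ⟨e⟩ := hM p hp
    let e0 : (M ⧸ (⊥ : Submodule A M)) ≃ₗ[A] M := Submodule.quotEquivOfEqBot ⊥ rfl
    exact ⟨(IsLocalizedModule.mapEquiv p.asIdeal.primeCompl
      (LocalizedModule.mkLinearMap p.asIdeal.primeCompl (M ⧸ (⊥ : Submodule A M)))
      (LocalizedModule.mkLinearMap p.asIdeal.primeCompl M)
      (Localization.AtPrime p.asIdeal) e0).trans e⟩
  | succ j ih =>
    intro M _ _ _ k hAss hM
    have hrk : ∀ (n : ℕ) (t : Fin (n + 1) → M), Submodule.span A (Set.range t) = ⊤ →
        ∀ p : PrimeSpectrum A, p.asIdeal.height ≤ k → k + (j + 1) ≤ rk p (n + 1) t := by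
      intro n t ht p hp
      obtain ⟨e⟩ := hM p hp
      exact le_rk_of_free p _ e _ t ht
    obtain ⟨m, hm⟩ := exists_basic k (k + (j + 1)) (by omega) hrk
    have hφ : ∀ p : PrimeSpectrum A, p.asIdeal.height ≤ k → ∃ φ : M →ₗ[A] A, φ m ∉ p.asIdeal :=
      fun p hp => (one_le_rk_iff p m).1 (hm p hp)
    have hann : ∀ a : A, a • m = 0 → a = 0 := by
      intro a ha
      apply eq_zero_of_forall_associatedPrimes
      intro P hP
      have hPprime : P.IsPrime := IsAssociatedPrime.isPrime hP
      obtain ⟨φ, hφm⟩ := hφ ⟨P, hPprime⟩ (hAss P hP)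
      refine ⟨φ m, hφm, ?_⟩
      rw [mul_comm, ← smul_eq_mul, ← map_smul, ha, map_zero]
    have hM' : ∀ p : PrimeSpectrum A, p.asIdeal.height ≤ k →
        Nonempty (LocalizedModule p.asIdeal.primeCompl (M ⧸ Submodule.span A {m}) ≃ₗ[Localization.AtPrime p.asIdeal]
          (Fin (k + j) → Localization.AtPrime p.asIdeal)) := by
      intro p hp
      obtain ⟨e⟩ := hM p hp
      obtain ⟨φ, hφm⟩ := hφ p hp
      exact quotient_free_of_basic p (k + (j + 1)) e m φ hφm
    obtain ⟨N', ⟨E'⟩, hloc'⟩ := ih (M ⧸ Submodule.span A {m}) k hAss hM'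
    refine ⟨N'.comap (Submodule.span A {m}).mkQ, free_of_extension m hann j N' E', fun p hp => ?_⟩
    obtain ⟨e'⟩ := hloc' p hp
    have hS₁N : Submodule.span A {m} ≤ N'.comap (Submodule.span A {m}).mkQ := by
      rw [Submodule.span_le, Set.singleton_subset_iff]
      show (Submodule.span A {m}).mkQ m ∈ N'
      have : (Submodule.span A {m}).mkQ m = 0 :=
        (Submodule.Quotient.mk_eq_zero _).2 (Submodule.subset_span rfl)
      rw [this]
      exact N'.zero_mem
    have hmap : (N'.comap (Submodule.span A {m}).mkQ).map (Submodule.span A {m}).mkQ = N' :=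
      Submodule.map_comap_eq_of_surjective (Submodule.mkQ_surjective _) N'
    let e1 : (M ⧸ N'.comap (Submodule.span A {m}).mkQ) ≃ₗ[A]
        ((M ⧸ Submodule.span A {m}) ⧸ N') :=
      (Submodule.quotientQuotientEquivQuotient (Submodule.span A {m})
        (N'.comap (Submodule.span A {m}).mkQ) hS₁N).symm.trans (Submodule.quotEquivOfEq _ _ hmap)
    exact ⟨(IsLocalizedModule.mapEquiv p.asIdeal.primeCompl
      (LocalizedModule.mkLinearMap p.asIdeal.primeCompl (M ⧸ N'.comap (Submodule.span A {m}).mkQ))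
      (LocalizedModule.mkLinearMap p.asIdeal.primeCompl ((M ⧸ Submodule.span A {m}) ⧸ N'))
      (Localization.AtPrime p.asIdeal) e1).trans e'⟩

end Groth.Agent.Lib.Helper86.BasicEl
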