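import Mathlib

/-!
# Etale criterion via a basis of differentials (helper86)

If `C` is a smooth `k`-algebra, finitely presented, with an algebra structure over a polynomial
ring `P = k[X_1..X_n]` such that `d(X_i)` form a basis of `Ω[C/k]`, then `C` is étale over `P`.
-/

set_option autoImplicit false
set_option linter.style.haveILetI false

universe u

namespace Groth.Agent.Lib.Helper86.CharPEtale

open KaehlerDifferential TensorProduct

variable (k : Type u) [CommRing k] (n : ℕ) (C : Type u) [CommRing C] [Algebra k C]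
  [Algebra (MvPolynomial (Fin n) k) C] [IsScalarTower k (MvPolynomial (Fin n) k) C]

/-- the basis of `Ω[C/k]` induced by an étale structure map from the polynomial ring -/
noncomputable def basisOfEtale [Algebra.FormallyEtale (MvPolynomial (Fin n) k) C] :
    Module.Basis (Fin n) C Ω[C⁄k] :=
  ((mvPolynomialBasis k (Fin n)).baseChange C).map
    (tensorKaehlerEquivOfFormallyEtale k (MvPolynomial (Fin n) k) C)

theorem basisOfEtale_apply [Algebra.FormallyEtale (MvPolynomial (Fin n) k) C] (i : Fin n) :
    basisOfEtale k n C i = D k C (algebraMap (MvPolynomial (Fin n) k) C (MvPolynomial.X i)) := by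
  simp [basisOfEtale, mapBaseChange_tmul]

theorem mapBaseChange_bijective_of_basis (b : Module.Basis (Fin n) C Ω[C⁄k])
    (hb : ∀ i, b i = D k C (algebraMap (MvPolynomial (Fin n) k) C (MvPolynomial.X i))) :
    Function.Bijective (mapBaseChange k (MvPolynomial (Fin n) k) C) := by
  have h : mapBaseChange k (MvPolynomial (Fin n) k) C =
      (((mvPolynomialBasis k (Fin n)).baseChange C).equiv b (Equiv.refl _)).toLinearMap := by
    apply ((mvPolynomialBasis k (Fin n)).baseChange C).ext
    intro i
    rw [LinearEquiv.coe_coe, Module.Basis.equiv_apply, Equiv.refl_apply, hb]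
    simp [mapBaseChange_tmul]
  rw [h]
  exact LinearEquiv.bijective _

theorem etale_of_basis [Algebra.FormallySmooth k C] [Algebra.FinitePresentation k C]
    (b : Module.Basis (Fin n) C Ω[C⁄k])
    (hb : ∀ i, b i = D k C (algebraMap (MvPolynomial (Fin n) k) C (MvPolynomial.X i))) :
    Algebra.Etale (MvPolynomial (Fin n) k) C := by
  obtain ⟨hinj, hsurj⟩ := mapBaseChange_bijective_of_basis k n C b hb
  have hΩ : Subsingleton Ω[C⁄MvPolynomial (Fin n) k] := by
    refine ⟨fun a b => ?_⟩
    have h0 : ∀ ω : Ω[C⁄MvPolynomial (Fin n) k], ω = 0 := by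
      intro ω
      obtain ⟨η, rfl⟩ := KaehlerDifferential.map_surjective k (MvPolynomial (Fin n) k) C ω
      obtain ⟨ξ, rfl⟩ := hsurj η
      exact (KaehlerDifferential.exact_mapBaseChange_map k (MvPolynomial (Fin n) k) C _).2 ⟨ξ, rfl⟩
    rw [h0 a, h0 b]
  have hH1 : Subsingleton (Algebra.H1Cotangent (MvPolynomial (Fin n) k) C) := by
    refine ⟨fun a b => ?_⟩
    have h0 : ∀ h : Algebra.H1Cotangent (MvPolynomial (Fin n) k) C, h = 0 := by
      intro h
      have h1 : mapBaseChange k (MvPolynomial (Fin n) k) C
          (Algebra.H1Cotangent.δ k (MvPolynomial (Fin n) k) C h) = 0 :=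
        (Algebra.H1Cotangent.exact_δ_mapBaseChange k (MvPolynomial (Fin n) k) C _).2 ⟨h, rfl⟩
      have h2 : Algebra.H1Cotangent.δ k (MvPolynomial (Fin n) k) C h = 0 :=
        hinj (by rw [h1, map_zero])
      obtain ⟨g, rfl⟩ := (Algebra.H1Cotangent.exact_map_δ k (MvPolynomial (Fin n) k) C h).1 h2
      rw [Subsingleton.elim g 0, map_zero]
    rw [h0 a, h0 b]
  have hunr : Algebra.FormallyUnramified (MvPolynomial (Fin n) k) C := ⟨hΩ⟩
  have hsm : Algebra.FormallySmooth (MvPolynomial (Fin n) k) C :=
    ⟨Module.Projective.of_free, hH1⟩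
  have hfe : Algebra.FormallyEtale (MvPolynomial (Fin n) k) C :=
    Algebra.FormallyEtale.iff_formallyUnramified_and_formallySmooth.mpr ⟨hunr, hsm⟩
  have hfp : Algebra.FinitePresentation (MvPolynomial (Fin n) k) C :=
    Algebra.FinitePresentation.of_restrict_scalars_finitePresentation k _ _
  exact ⟨hfe, hfp⟩

end Groth.Agent.Lib.Helper86.CharPEtale
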