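import Groth.Agent.Lib.Helper86.CharPEtale2

/-!
# Making an algebra finite over a polynomial ring by `p`-th power modifications (helper86)
-/

set_option autoImplicit false
set_option linter.style.haveILetI false

universe u

namespace Groth.Agent.Lib.Helper86.CharPEtale

open MvPolynomial

section Trans

variable {k : Type*} [Field k] {n : ℕ} {C : Type*} [CommRing C] [Algebra k C]

/-- transitivity of integrality between two polynomial-ring structures -/
theorem isIntegralElem_trans (y y' : Fin n → C)
    (hy : ∀ i, (aeval (R := k) y').toRingHom.IsIntegralElem (y i)) (c : C)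
    (hc : (aeval (R := k) y).toRingHom.IsIntegralElem c) :
    (aeval (R := k) y').toRingHom.IsIntegralElem c := by
  letI : Algebra (MvPolynomial (Fin n) k) C := (aeval (R := k) y').toRingHom.toAlgebra
  haveI : IsScalarTower k (MvPolynomial (Fin n) k) C :=
    IsScalarTower.of_algebraMap_eq (fun a => ((aeval (R := k) y').commutes a).symm)
  have hrange : ∀ q, aeval (R := k) y q ∈ integralClosure (MvPolynomial (Fin n) k) C := by
    intro q
    induction q using MvPolynomial.induction_on with
    | C a =>
      rw [aeval_C, IsScalarTower.algebraMap_apply k (MvPolynomial (Fin n) k) C]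
      exact Subalgebra.algebraMap_mem _ _
    | add p q hp hq =>
      rw [map_add]
      exact Subalgebra.add_mem _ hp hq
    | mul_X p i hp =>
      rw [map_mul, aeval_X]
      exact Subalgebra.mul_mem _ hp (hy i)
  obtain ⟨q, hqm, hq0⟩ := hc
  let ψ : MvPolynomial (Fin n) k →+* integralClosure (MvPolynomial (Fin n) k) C :=
    (aeval (R := k) y).toRingHom.codRestrict
      (integralClosure (MvPolynomial (Fin n) k) C).toSubring hrange
  have hIC : IsIntegral (integralClosure (MvPolynomial (Fin n) k) C) c := by
    refine ⟨q.map ψ, hqm.map ψ, ?_⟩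
    rw [Polynomial.eval₂_map]
    exact hq0
  exact isIntegral_trans (R := MvPolynomial (Fin n) k) c hIC

end Trans

section Induction

variable {k : Type*} [Field k] (p : ℕ) [Fact p.Prime] {n : ℕ} {C : Type*} [CommRing C]
  [Algebra k C] [CharP C p]

theorem exists_pow_modification
    (dep : ∀ z : Fin (n + 1) → C, ∃ F : MvPolynomial (Fin (n + 1)) k, F ≠ 0 ∧ aeval z F = 0)
    (x : Fin n → C) (s : Finset C) :
    ∃ g : Fin n → C, ∀ c ∈ Algebra.adjoin k (Set.range x ∪ (s : Set C)),
      (aeval (R := k) (fun i => x i + g i ^ p)).toRingHom.IsIntegralElem c := by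
  classical
  induction s using Finset.induction_on with
  | empty =>
    refine ⟨fun _ => 0, fun c hc => ?_⟩
    have hp : (0 : C) ^ p = 0 := zero_pow (Fact.out : p.Prime).ne_zero
    simp only [hp, add_zero]
    rw [Finset.coe_empty, Set.union_empty, Algebra.adjoin_range_eq_range_aeval] at hc
    obtain ⟨q, rfl⟩ := hc
    exact RingHom.isIntegralElem_map _
  | insert w s hw ih =>
    obtain ⟨g, hg⟩ := ih
    obtain ⟨F, hF, hF0⟩ := dep (Fin.cons (w ^ p) (fun i => x i + g i ^ p))
    obtain ⟨r, hr⟩ := NN.exists_isIntegralElem F hF (w ^ p) (fun i => x i + g i ^ p) hF0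
    refine ⟨fun i => g i - w ^ r i, ?_⟩
    have hy' : (fun i => x i + (g i - w ^ r i) ^ p) =
        fun i => (x i + g i ^ p) - (w ^ p) ^ r i := by
      funext i
      rw [sub_pow_char]
      ring
    rw [hy']
    letI : Algebra (MvPolynomial (Fin n) k) C :=
      (aeval (R := k) (fun i => (x i + g i ^ p) - (w ^ p) ^ r i)).toRingHom.toAlgebra
    have hwp : IsIntegral (MvPolynomial (Fin n) k) (w ^ p) := hr
    have hw' : IsIntegral (MvPolynomial (Fin n) k) w :=
      IsIntegral.of_pow (Fact.out : p.Prime).pos hwp
    have hyi : ∀ i, IsIntegral (MvPolynomial (Fin n) k) (x i + g i ^ p) := by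
      intro i
      have h1 : x i + g i ^ p = ((x i + g i ^ p) - (w ^ p) ^ r i) + (w ^ p) ^ r i := by ring
      rw [h1]
      refine IsIntegral.add ?_ (hwp.pow _)
      have h2 : (x i + g i ^ p) - (w ^ p) ^ r i =
          algebraMap (MvPolynomial (Fin n) k) C (X i) := by
        show _ = aeval (R := k) (fun i => (x i + g i ^ p) - (w ^ p) ^ r i) (X i)
        rw [aeval_X]
      rw [h2]
      exact isIntegral_algebraMap
    haveI : IsScalarTower k (MvPolynomial (Fin n) k) C :=
      IsScalarTower.of_algebraMap_eq (fun a =>
        ((aeval (R := k) (fun i => (x i + g i ^ p) - (w ^ p) ^ r i)).commutes a).symm)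
    intro c hc
    change IsIntegral (MvPolynomial (Fin n) k) c
    induction hc using Algebra.adjoin_induction with
    | mem c hc =>
      rcases hc with hc | hc
      · exact isIntegralElem_trans _ _ hyi c (hg c (Algebra.subset_adjoin (Or.inl hc)))
      · rw [Finset.coe_insert] at hc
        rcases hc with rfl | hc
        · exact hw'
        · exact isIntegralElem_trans _ _ hyi c (hg c (Algebra.subset_adjoin (Or.inr hc)))
    | algebraMap a =>
      rw [IsScalarTower.algebraMap_apply k (MvPolynomial (Fin n) k) C]
      exact isIntegral_algebraMap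
    | add a b _ _ ha hb => exact IsIntegral.add ha hb
    | mul a b _ _ ha hb => exact IsIntegral.mul ha hb

end Induction

end Groth.Agent.Lib.Helper86.CharPEtale
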