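import Mathlib

/-!
# Algebraic dependence of `n + 1` elements in an étale algebra over `k[X_1..X_n]` (helper86)
-/

set_option autoImplicit false
set_option linter.style.haveILetI false

universe u

namespace Groth.Agent.Lib.Helper86.CharPEtale

open MvPolynomial TensorProduct Cardinal

theorem dep_field (k : Type u) [Field k] (n : ℕ) (E : Type u) [Field E] [Algebra k E]
    [Algebra (FractionRing (MvPolynomial (Fin n) k)) E]
    [IsScalarTower k (FractionRing (MvPolynomial (Fin n) k)) E]
    [Algebra.IsAlgebraic (FractionRing (MvPolynomial (Fin n) k)) E] (z : Fin (n + 1) → E) :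
    ∃ F : MvPolynomial (Fin (n + 1)) k, F ≠ 0 ∧ aeval z F = 0 := by
  by_contra hcon
  push Not at hcon
  have hind : AlgebraicIndependent k z := by
    rw [AlgebraicIndependent, injective_iff_map_eq_zero]
    intro F hF
    by_contra hne
    exact hcon F hne hF
  have h1 := hind.lift_cardinalMk_le_trdeg
  haveI : Algebra.IsAlgebraic (MvPolynomial (Fin n) k) (FractionRing (MvPolynomial (Fin n) k)) :=
    IsLocalization.isAlgebraic (FractionRing (MvPolynomial (Fin n) k))
      (nonZeroDivisors (MvPolynomial (Fin n) k))
  have hK : Algebra.trdeg k (FractionRing (MvPolynomial (Fin n) k)) = n := by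
    rw [← trdeg_add_eq k (MvPolynomial (Fin n) k) (A := FractionRing (MvPolynomial (Fin n) k)),
      trdeg_eq_zero (R := MvPolynomial (Fin n) k) (A := FractionRing (MvPolynomial (Fin n) k)),
      add_zero, MvPolynomial.trdeg_of_isDomain]
    simp
  have hE : Algebra.trdeg k E = n := by
    rw [← trdeg_add_eq k (FractionRing (MvPolynomial (Fin n) k)) (A := E), hK,
      trdeg_eq_zero (R := FractionRing (MvPolynomial (Fin n) k)) (A := E), add_zero]
  rw [hE] at h1
  simp at h1

theorem dep_of_etale (k : Type u) [Field k] (n : ℕ) (C : Type u) [CommRing C] [Algebra k C]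
    [Algebra (MvPolynomial (Fin n) k) C] [IsScalarTower k (MvPolynomial (Fin n) k) C]
    [Algebra.Etale (MvPolynomial (Fin n) k) C] (z : Fin (n + 1) → C) :
    ∃ F : MvPolynomial (Fin (n + 1)) k, F ≠ 0 ∧ aeval z F = 0 := by
  classical
  obtain ⟨I, hI, Ai, hfield, halg, e, hAi⟩ :=
    (Algebra.Etale.iff_exists_algEquiv_prod
      (K := FractionRing (MvPolynomial (Fin n) k))
      (A := FractionRing (MvPolynomial (Fin n) k) ⊗[MvPolynomial (Fin n) k] C)).mp inferInstance
  letI := Fintype.ofFinite I
  letI : ∀ i, Algebra k (Ai i) := fun i =>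
    Algebra.compHom (Ai i) (algebraMap k (FractionRing (MvPolynomial (Fin n) k)))
  haveI : ∀ i, IsScalarTower k (FractionRing (MvPolynomial (Fin n) k)) (Ai i) := fun i =>
    IsScalarTower.of_algebraMap_eq (fun _ => rfl)
  haveI : ∀ i, Module.Finite (FractionRing (MvPolynomial (Fin n) k)) (Ai i) := fun i => (hAi i).1
  have hj : Function.Injective (Algebra.TensorProduct.includeRight :
      C →ₐ[MvPolynomial (Fin n) k] FractionRing (MvPolynomial (Fin n) k) ⊗[MvPolynomial (Fin n) k] C) :=
    Algebra.TensorProduct.includeRight_injective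
      (IsFractionRing.injective (MvPolynomial (Fin n) k) (FractionRing (MvPolynomial (Fin n) k)))
  have hcomm : ∀ (i : I) (a : k), (e (Algebra.TensorProduct.includeRight
      (R := MvPolynomial (Fin n) k) (A := FractionRing (MvPolynomial (Fin n) k))
      (algebraMap k C a))) i = algebraMap k (Ai i) a := by
    intro i a
    rw [IsScalarTower.algebraMap_apply k (MvPolynomial (Fin n) k) C, AlgHom.commutes,
      IsScalarTower.algebraMap_apply (MvPolynomial (Fin n) k)
        (FractionRing (MvPolynomial (Fin n) k))
        (FractionRing (MvPolynomial (Fin n) k) ⊗[MvPolynomial (Fin n) k] C),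
      AlgEquiv.commutes, Pi.algebraMap_apply,
      ← IsScalarTower.algebraMap_apply k (MvPolynomial (Fin n) k)
        (FractionRing (MvPolynomial (Fin n) k))]
    rfl
  let g : ∀ i, C →ₐ[k] Ai i := fun i =>
    { toRingHom := (Pi.evalRingHom Ai i).comp (e.toAlgHom.toRingHom.comp
        (Algebra.TensorProduct.includeRight (R := MvPolynomial (Fin n) k)
          (A := FractionRing (MvPolynomial (Fin n) k)) (B := C)).toRingHom)
      commutes' := fun a => hcomm i a }
  have hg : ∀ i c, g i c = (e (Algebra.TensorProduct.includeRight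
      (R := MvPolynomial (Fin n) k) (A := FractionRing (MvPolynomial (Fin n) k)) c)) i :=
    fun i c => rfl
  choose F hF hF0 using fun i => dep_field k n (Ai i) (fun l => g i (z l))
  refine ⟨∏ i, F i, Finset.prod_ne_zero_iff.mpr (fun i _ => hF i), ?_⟩
  apply hj
  apply e.injective
  rw [map_zero, map_zero]
  funext i
  rw [← hg, Pi.zero_apply, MvPolynomial.comp_aeval_apply, map_prod]
  exact Finset.prod_eq_zero (Finset.mem_univ i) (hF0 i)

end Groth.Agent.Lib.Helper86.CharPEtale
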