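import Mathlib

set_option autoImplicit false
set_option linter.style.haveILetI false

/-!
# Common factor lemma, part 1: a homogeneous relation with a unit coefficient

For a one-dimensional Noetherian local ring `R`, a non-unit nonzerodivisor `a` and any `b`, there is
a degree `d` and coefficients `c₀, …, c_d`, one of which is a unit, with `∑ cᵢ aⁱ b^(d-i) = 0`.
-/

universe u

namespace Groth.Agent.Lib.Helper86.ComFac

open Ideal

variable {R : Type u} [CommRing R]

/-- A strict chain of ideals bounds lengths of quotients. -/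
theorem length_chain (L : ℕ → Ideal R) (n : ℕ) (h : ∀ j < n, L j < L (j + 1)) :
    Module.length R (R ⧸ L n) + n ≤ Module.length R (R ⧸ L 0) := by
  induction n with
  | zero => simp
  | succ n ih =>
    have h1 := ih (fun j hj => h j (Nat.lt_succ_of_lt hj))
    have h2 : Module.length R (R ⧸ L (n + 1)) + 1 ≤ Module.length R (R ⧸ L n) := by
      rw [Module.length_quotient, Module.length_quotient]
      exact Order.coheight_add_one_le (h n (Nat.lt_succ_self n))
    calc Module.length R (R ⧸ L (n + 1)) + ((n + 1 : ℕ) : ℕ∞)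
        = (Module.length R (R ⧸ L (n + 1)) + 1) + n := by push_cast; ring
      _ ≤ Module.length R (R ⧸ L n) + n := by gcongr
      _ ≤ _ := h1

theorem length_le_of_le {I J : Ideal R} (h : I ≤ J) :
    Module.length R (R ⧸ J) ≤ Module.length R (R ⧸ I) := by
  rw [Module.length_quotient, Module.length_quotient]
  exact Order.coheight_anti h

/-- `length (R/aJ) = length (R/J) + length (R/aR)` for a nonzerodivisor `a`. -/
theorem length_quot_mul (a : R) (ha : a ∈ nonZeroDivisors R) (J : Ideal R) :
    Module.length R (R ⧸ (Ideal.span {a} * J)) =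
      Module.length R (R ⧸ J) + Module.length R (R ⧸ Ideal.span {a}) := by
  have h1 : J ≤ Submodule.comap (LinearMap.mulLeft R a) (Ideal.span {a} * J) := by
    intro x hx
    exact Ideal.mul_mem_mul (Ideal.mem_span_singleton_self a) hx
  have h2 : Ideal.span {a} * J ≤ Submodule.comap (LinearMap.id : R →ₗ[R] R) (Ideal.span {a}) := by
    intro x hx
    exact Ideal.mul_le_left hx
  let f : (R ⧸ J) →ₗ[R] (R ⧸ (Ideal.span {a} * J)) :=
    Submodule.mapQ J (Ideal.span {a} * J) (LinearMap.mulLeft R a) h1
  let g : (R ⧸ (Ideal.span {a} * J)) →ₗ[R] (R ⧸ Ideal.span {a}) :=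
    Submodule.mapQ (Ideal.span {a} * J) (Ideal.span {a}) LinearMap.id h2
  have hf : Function.Injective f := by
    rw [injective_iff_map_eq_zero]
    intro x hx
    obtain ⟨x, rfl⟩ := Submodule.Quotient.mk_surjective _ x
    have : a * x ∈ Ideal.span {a} * J := by
      have := hx
      simp only [f, Submodule.mapQ_apply, LinearMap.mulLeft_apply] at this
      exact (Submodule.Quotient.mk_eq_zero _).1 this
    rw [Ideal.mem_span_singleton_mul] at this
    obtain ⟨z, hz, hz'⟩ := this
    have : x = z := by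
      have h3 : a * (x - z) = 0 := by rw [mul_sub, hz']; ring
      have := (mem_nonZeroDivisors_iff.1 ha).1 _ h3
      exact sub_eq_zero.1 this
    rw [this]
    exact (Submodule.Quotient.mk_eq_zero _).2 hz
  have hg : Function.Surjective g := by
    intro x
    obtain ⟨x, rfl⟩ := Submodule.Quotient.mk_surjective _ x
    exact ⟨Submodule.Quotient.mk x, by simp [g]⟩
  have hfg : Function.Exact f g := by
    intro y
    constructor
    · intro hy
      obtain ⟨y, rfl⟩ := Submodule.Quotient.mk_surjective _ y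
      have : y ∈ Ideal.span {a} := by
        simp only [g, Submodule.mapQ_apply, LinearMap.id_apply] at hy
        exact (Submodule.Quotient.mk_eq_zero _).1 hy
      obtain ⟨z, rfl⟩ := Ideal.mem_span_singleton'.1 this
      refine ⟨Submodule.Quotient.mk z, ?_⟩
      simp only [f, Submodule.mapQ_apply, LinearMap.mulLeft_apply]
      rw [mul_comm a z]
    · rintro ⟨x, rfl⟩
      obtain ⟨x, rfl⟩ := Submodule.Quotient.mk_surjective _ x
      simp only [f, g, Submodule.mapQ_apply, LinearMap.mulLeft_apply, LinearMap.id_apply]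
      exact (Submodule.Quotient.mk_eq_zero _).2 (Ideal.mem_span_singleton'.2 ⟨x, mul_comm _ _⟩)
  exact Module.length_eq_add_of_exact f g hf hg hfg

theorem length_quot_pow_ne_top [IsNoetherianRing R] [Ring.KrullDimLE 1 R] (a : R)
    (ha : a ∈ nonZeroDivisors R) (n : ℕ) :
    Module.length R (R ⧸ Ideal.span {a ^ n}) ≠ ⊤ := by
  have h1 : Module.length R (R ⧸ Ideal.span {a}) ≠ ⊤ :=
    Module.length_ne_top_iff.2 (isFiniteLength_quotient_span_singleton R ha)
  induction n with
  | zero =>
    have : Subsingleton (R ⧸ Ideal.span {a ^ 0}) := by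
      rw [pow_zero, Ideal.span_singleton_one]
      exact Ideal.Quotient.subsingleton_iff.2 rfl
    rw [Module.length_eq_zero]
    exact ENat.zero_ne_top
  | succ n ih =>
    have : Ideal.span {a ^ (n + 1)} = Ideal.span {a} * Ideal.span {a ^ n} := by
      rw [Ideal.span_singleton_mul_span_singleton, pow_succ']
    rw [this, length_quot_mul a ha]
    exact WithTop.add_ne_top.2 ⟨ih, h1⟩

/-- The relation with a unit coefficient. -/
theorem exists_relation [IsNoetherianRing R] [IsLocalRing R] [Ring.KrullDimLE 1 R] (a b : R)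
    (ha : a ∈ nonZeroDivisors R) (ham : a ∈ IsLocalRing.maximalIdeal R) :
    ∃ (d : ℕ) (c : Fin (d + 1) → R), (∃ i, IsUnit (c i)) ∧
      ∑ i, c i * (a ^ (i : ℕ) * b ^ (d - (i : ℕ))) = 0 := by
  classical
  have he : Module.length R (R ⧸ Ideal.span {a}) ≠ ⊤ :=
    Module.length_ne_top_iff.2 (isFiniteLength_quotient_span_singleton R ha)
  obtain ⟨d, hd⟩ := ENat.ne_top_iff_exists.1 he
  let x : Fin (d + 1) → R := fun i => a ^ (i : ℕ) * b ^ (d - (i : ℕ))
  let J : Ideal R := Ideal.span (Set.range x)
  let L : ℕ → Ideal R := fun j =>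
    Ideal.span {a} * J ⊔ Ideal.span (Set.range fun i : Fin (d + 1) => if (i : ℕ) < j then x i else 0)
  have hL0 : L 0 = Ideal.span {a} * J := by
    simp only [L, Nat.not_lt_zero, if_false]
    rw [sup_eq_left]
    apply Ideal.span_le.2
    rintro _ ⟨i, rfl⟩
    exact Submodule.zero_mem _
  have hLle : ∀ j, L j ≤ J := by
    intro j
    apply sup_le Ideal.mul_le_right
    apply Ideal.span_le.2
    rintro _ ⟨i, rfl⟩
    show (if (i : ℕ) < j then x i else 0) ∈ J
    split_ifs
    · exact Ideal.subset_span ⟨i, rfl⟩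
    · exact Submodule.zero_mem _
  have hLmono : ∀ j, L j ≤ L (j + 1) := by
    intro j
    apply sup_le le_sup_left
    apply Ideal.span_le.2
    rintro _ ⟨i, rfl⟩
    show (if (i : ℕ) < j then x i else 0) ∈ L (j + 1)
    split_ifs with h
    · apply Ideal.mem_sup_right
      apply Ideal.subset_span
      refine ⟨i, ?_⟩
      show (if (i : ℕ) < j + 1 then x i else 0) = x i
      rw [if_pos (Nat.lt_succ_of_lt h)]
    · exact Submodule.zero_mem _
  have hJa : Ideal.span {a ^ d} ≤ J := by
    rw [Ideal.span_singleton_le_iff_mem]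
    apply Ideal.subset_span
    refine ⟨Fin.last d, ?_⟩
    simp [x]
  have hJfin : Module.length R (R ⧸ J) ≠ ⊤ :=
    ne_top_of_le_ne_top (length_quot_pow_ne_top a ha d) (length_le_of_le hJa)
  -- some step of the chain is not strict
  have hns : ∃ j < d + 1, ¬ (L j < L (j + 1)) := by
    by_contra hcon
    push Not at hcon
    have h1 := length_chain L (d + 1) hcon
    rw [hL0, length_quot_mul a ha, ← hd] at h1
    have h2 : Module.length R (R ⧸ J) ≤ Module.length R (R ⧸ L (d + 1)) :=
      length_le_of_le (hLle _)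
    obtain ⟨l, hl⟩ := ENat.ne_top_iff_exists.1 hJfin
    have h3 : (l : ℕ∞) + ((d + 1 : ℕ) : ℕ∞) ≤ l + d := by
      rw [hl]
      exact (add_le_add_left h2 _).trans h1
    norm_cast at h3
    omega
  obtain ⟨j, hj, hjs⟩ := hns
  have hmem : x ⟨j, hj⟩ ∈ L j := by
    have : L (j + 1) ≤ L j := by
      by_contra hcon
      exact hjs (lt_of_le_not_ge (hLmono j) hcon)
    apply this
    apply Ideal.mem_sup_right
    apply Ideal.subset_span
    refine ⟨⟨j, hj⟩, ?_⟩
    show (if j < j + 1 then x ⟨j, hj⟩ else 0) = x ⟨j, hj⟩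
    rw [if_pos (Nat.lt_succ_self j)]
  obtain ⟨y, hy, z, hz, hyz⟩ := Submodule.mem_sup.1 hmem
  rw [Ideal.mem_span_singleton_mul] at hy
  obtain ⟨w, hw, rfl⟩ := hy
  obtain ⟨r, hr⟩ := (Ideal.mem_span_range_iff_exists_fun (R := R)).1 hw
  obtain ⟨s, hs⟩ := (Ideal.mem_span_range_iff_exists_fun (R := R)).1 hz
  refine ⟨d, fun i => (if i = ⟨j, hj⟩ then 1 else 0) - a * r i - (if (i : ℕ) < j then s i else 0),
    ⟨⟨j, hj⟩, ?_⟩, ?_⟩
  · simp only [if_true, lt_irrefl, if_false, sub_zero]
    have : a * r ⟨j, hj⟩ ∈ IsLocalRing.maximalIdeal R := Ideal.mul_mem_right _ _ ham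
    have h4 : ¬ IsUnit (a * r ⟨j, hj⟩) := (IsLocalRing.mem_maximalIdeal _).1 this
    have h5 : IsUnit ((1 - a * r ⟨j, hj⟩) + a * r ⟨j, hj⟩) := by
      rw [sub_add_cancel]; exact isUnit_one
    exact (IsLocalRing.isUnit_or_isUnit_of_isUnit_add h5).resolve_right h4
  · show ∑ i, _ * x i = 0
    simp only [sub_mul, Finset.sum_sub_distrib, ite_mul, one_mul, zero_mul, Finset.sum_ite_eq',
      Finset.mem_univ, if_true]
    have e1 : ∑ i, a * r i * x i = a * w := by
      rw [← hr, Finset.mul_sum]
      exact Finset.sum_congr rfl fun i _ => by ring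
    have e2 : ∑ i : Fin (d + 1), (if (i : ℕ) < j then s i * x i else 0) = z := by
      rw [← hs]
      exact Finset.sum_congr rfl fun i _ => by split_ifs <;> simp
    rw [e1, e2, ← hyz]
    ring

end Groth.Agent.Lib.Helper86.ComFac
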