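import Mathlib

set_option autoImplicit false
set_option linter.style.haveILetI false

/-!
# Common factor lemma, part 2: integrality of the partial sums, and a local-global lemma
-/

universe u

namespace Groth.Agent.Lib.Helper86.ComFac

open Ideal

/-- An element stabilising a finitely generated submodule containing `1` is integral. -/
theorem isIntegral_of_mul_mem {R T : Type*} [CommRing R] [CommRing T] [Algebra R T]
    (N : Submodule R T) (hN : N.FG) (h1 : (1 : T) ∈ N) (x : T) (hx : ∀ n ∈ N, x * n ∈ N) :
    IsIntegral R x := by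
  let A' : Subalgebra R T :=
    { carrier := { x | ∀ n ∈ N, x * n ∈ N }
      mul_mem' := fun {a b} ha hb n hn => by rw [mul_assoc]; exact ha _ (hb _ hn)
      one_mem' := fun n hn => by rwa [one_mul]
      add_mem' := fun {a b} ha hb n hn => by rw [add_mul]; exact N.add_mem (ha _ hn) (hb _ hn)
      zero_mem' := fun n _hn => by rw [zero_mul]; exact N.zero_mem
      algebraMap_mem' := fun r n hn => by rw [← Algebra.smul_def]; exact N.smul_mem r hn }
  let f : A' →ₐ[R] Module.End R N :=
    AlgHom.ofLinearMap
      { toFun := fun x => (LinearMap.mulLeft R (x : T)).restrict x.prop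
        map_add' := by
          intro x y; ext n
          show ((x : T) + y) * n = x * n + y * n
          exact add_mul _ _ _
        map_smul' := by
          intro r s; ext n
          show (r • (s : T)) * n = r • ((s : T) * n)
          exact smul_mul_assoc _ _ _ }
      (by ext n; show (1 : T) * n = n; exact one_mul _)
      (by intro x y; ext n; show ((x : T) * y) * n = x * (y * n); exact mul_assoc _ _ _)
  have hinj : Function.Injective f := by
    rw [injective_iff_map_eq_zero]
    intro s hs
    have : (s : T) * 1 = 0 := congr_arg Subtype.val (LinearMap.congr_fun hs ⟨1, h1⟩)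
    exact Subtype.ext (by simpa using this)
  have : Module.Finite R N := by rwa [Module.Finite.iff_fg]
  have h2 : IsIntegral R (f ⟨x, hx⟩) := Algebra.IsIntegral.isIntegral _
  have h3 : IsIntegral R (⟨x, hx⟩ : A') :=
    (isIntegral_algHom_iff (R := R) (A := A') (B := Module.End R N) f hinj).1 h2
  exact h3.map A'.val

section

variable {R T : Type*} [CommRing R] [CommRing T] [Algebra R T]

/-- The span of the powers `s^i`, `i ≤ q`. -/
def Sp (R : Type*) {T : Type*} [CommRing R] [CommRing T] [Algebra R T] (s : T) (q : ℕ) :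
    Submodule R T :=
  Submodule.span R {x | ∃ i ≤ q, x = s ^ i}

theorem Sp_fg (s : T) (q : ℕ) : (Sp R s q).FG := by
  apply Submodule.fg_span
  apply ((Set.finite_Iic q).image (fun i => s ^ i)).subset
  rintro _ ⟨i, hi, rfl⟩
  exact ⟨i, hi, rfl⟩

theorem pow_mem_Sp (s : T) {i q : ℕ} (h : i ≤ q) : s ^ i ∈ Sp R s q :=
  Submodule.subset_span ⟨i, h, rfl⟩

theorem Sp_mono (s : T) {q q' : ℕ} (h : q ≤ q') : Sp R s q ≤ Sp R s q' := by
  apply Submodule.span_mono
  rintro _ ⟨i, hi, rfl⟩
  exact ⟨i, hi.trans h, rfl⟩

theorem mul_mem_Sp_succ (s : T) {q : ℕ} {x : T} (hx : x ∈ Sp R s q) : s * x ∈ Sp R s (q + 1) := by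
  induction hx using Submodule.span_induction with
  | mem x hx =>
    obtain ⟨i, hi, rfl⟩ := hx
    rw [← pow_succ']
    exact pow_mem_Sp s (Nat.succ_le_succ hi)
  | zero => rw [mul_zero]; exact Submodule.zero_mem _
  | add x y _ _ hx hy => rw [mul_add]; exact Submodule.add_mem _ hx hy
  | smul r x _ hx => rw [mul_smul_comm]; exact Submodule.smul_mem _ r hx

theorem Sp_mul_Sp_le (s w : T) (hsw : s * w = 1) (p q : ℕ) :
    Sp R s q * Sp R w p ≤ Sp R w p ⊔ Sp R s q := by
  unfold Sp
  rw [Submodule.span_mul_span]
  apply Submodule.span_le.2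
  rintro _ ⟨_, ⟨i, hi, rfl⟩, _, ⟨j, hj, rfl⟩, rfl⟩
  show s ^ i * w ^ j ∈ _
  rcases le_total i j with h | h
  · obtain ⟨k, rfl⟩ := Nat.exists_eq_add_of_le h
    rw [pow_add, ← mul_assoc, ← mul_pow, hsw, one_pow, one_mul]
    exact Submodule.mem_sup_left (Submodule.subset_span ⟨k, by omega, rfl⟩)
  · obtain ⟨k, rfl⟩ := Nat.exists_eq_add_of_le h
    rw [pow_add, mul_comm (s ^ j), mul_assoc, ← mul_pow, hsw, one_pow, mul_one]
    exact Submodule.mem_sup_right (Submodule.subset_span ⟨k, by omega, rfl⟩)

/-- Elements of `R[s] ∩ R[s⁻¹]` (with bounded degrees) are integral. -/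
theorem isIntegral_of_mem_Sp (s w : T) (hsw : s * w = 1) (p q : ℕ) (z : T)
    (hz1 : z ∈ Sp R w p) (hz2 : z ∈ Sp R s q) : IsIntegral R z := by
  refine isIntegral_of_mul_mem (Sp R w p ⊔ Sp R s q) ((Sp_fg w p).sup (Sp_fg s q))
    (Submodule.mem_sup_left ?_) z ?_
  · have := pow_mem_Sp (R := R) w (Nat.zero_le p)
    rwa [pow_zero] at this
  · intro m hm
    obtain ⟨m1, hm1, m2, hm2, rfl⟩ := Submodule.mem_sup.1 hm
    rw [mul_add]
    apply Submodule.add_mem
    · exact Sp_mul_Sp_le s w hsw p q (Submodule.mul_mem_mul hz2 hm1)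
    · rw [mul_comm]
      exact Sp_mul_Sp_le s w hsw p q (Submodule.mul_mem_mul hm2 hz1)

/-- The partial sums `y_k = ∑_{i ≥ k} c_i w^(i-k)`. -/
noncomputable def yk (c : ℕ → R) (w : T) (d k : ℕ) : T :=
  ∑ i ∈ Finset.range (d + 1 - k), algebraMap R T (c (k + i)) * w ^ i

theorem yk_last (c : ℕ → R) (w : T) (d : ℕ) : yk c w d (d + 1) = 0 := by
  simp [yk]

theorem yk_succ (c : ℕ → R) (w : T) (d k : ℕ) (hk : k ≤ d) :
    yk c w d k = algebraMap R T (c k) + w * yk c w d (k + 1) := by
  unfold yk
  have : d + 1 - k = (d + 1 - (k + 1)) + 1 := by omega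
  rw [this, Finset.sum_range_succ', Finset.mul_sum, pow_zero, mul_one, add_zero, add_comm]
  congr 1
  apply Finset.sum_congr rfl
  intro i _
  rw [pow_succ, show k + (i + 1) = k + 1 + i by ring]
  ring

theorem yk_mem_Sp_w (c : ℕ → R) (w : T) (d k : ℕ) : yk c w d k ∈ Sp R w d := by
  unfold yk
  apply Submodule.sum_mem
  intro i hi
  rw [← Algebra.smul_def]
  apply Submodule.smul_mem
  apply pow_mem_Sp
  have := Finset.mem_range.1 hi
  omega

theorem yk_mem_Sp_s (c : ℕ → R) (s w : T) (hsw : s * w = 1) (d : ℕ) (h0 : yk c w d 0 = 0)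
    (k : ℕ) (hk : k ≤ d + 1) : yk c w d k ∈ Sp R s k := by
  induction k with
  | zero => rw [h0]; exact Submodule.zero_mem _
  | succ k ih =>
    have hk' : k ≤ d := by omega
    have h1 := yk_succ c w d k hk'
    have h2 : yk c w d (k + 1) = s * (yk c w d k - algebraMap R T (c k)) := by
      rw [h1, add_sub_cancel_left, ← mul_assoc, hsw, one_mul]
    rw [h2]
    apply mul_mem_Sp_succ
    apply Submodule.sub_mem _ (ih (by omega))
    rw [Algebra.algebraMap_eq_smul_one]
    apply Submodule.smul_mem
    have := pow_mem_Sp (R := R) s (Nat.zero_le k)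
    rwa [pow_zero] at this

theorem yk_isIntegral (c : ℕ → R) (s w : T) (hsw : s * w = 1) (d : ℕ) (h0 : yk c w d 0 = 0)
    (k : ℕ) (hk : k ≤ d + 1) : IsIntegral R (yk c w d k) :=
  isIntegral_of_mem_Sp s w hsw d k _ (yk_mem_Sp_w c w d k) (yk_mem_Sp_s c s w hsw d h0 k hk)

end

/-- Local-global: if at every maximal ideal one of `a`, `b` divides the other (up to an element
outside the maximal ideal), then the ideal `(a, b)` is principal, in a semilocal ring. -/
theorem exists_common_generator {A : Type*} [CommRing A]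
    (hfin : {n : Ideal A | n.IsMaximal}.Finite) (a b : A)
    (h : ∀ n : Ideal A, n.IsMaximal →
      (∃ v, v ∉ n ∧ ∃ z, v * b = a * z) ∨ (∃ v, v ∉ n ∧ ∃ z, v * a = b * z)) :
    ∃ t x y : A, t = x * a + y * b ∧ a ∈ Ideal.span {t} ∧ b ∈ Ideal.span {t} := by
  classical
  haveI : Finite {n : Ideal A // n.IsMaximal} := hfin.to_subtype
  let I : {n : Ideal A // n.IsMaximal} → Ideal A := Subtype.val
  have hI : Pairwise (Function.onFun IsCoprime I) := by
    intro n n' hne
    show IsCoprime n.1 n'.1
    rw [Ideal.isCoprime_iff_sup_eq]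
    exact Ideal.IsMaximal.coprime_of_ne n.2 n'.2 (fun h => hne (Subtype.ext h))
  let ty : {n : Ideal A // n.IsMaximal} → Prop := fun n => ∃ v, v ∉ n.1 ∧ ∃ z, v * b = a * z
  obtain ⟨x, hx⟩ := Ideal.exists_forall_sub_mem_ideal hI (fun n => if ty n then (1 : A) else 0)
  obtain ⟨y, hy⟩ := Ideal.exists_forall_sub_mem_ideal hI (fun n => if ty n then (0 : A) else 1)
  refine ⟨x * a + y * b, x, y, rfl, ?_, ?_⟩
  · -- a ∈ (t)
    let K : Ideal A := Submodule.comap (LinearMap.mulRight A a) (Ideal.span {x * a + y * b})
    have hK : ∀ r, r ∈ K ↔ r * a ∈ Ideal.span {x * a + y * b} := fun r => Iff.rfl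
    suffices hKt : K = ⊤ by
      have : (1 : A) ∈ K := by rw [hKt]; trivial
      rw [hK, one_mul] at this
      exact this
    by_contra hne
    obtain ⟨n, hn, hKn⟩ := Ideal.exists_le_maximal K hne
    have hxn := hx ⟨n, hn⟩
    have hyn := hy ⟨n, hn⟩
    by_cases hty : ty ⟨n, hn⟩
    · simp only [I, if_pos hty] at hxn hyn
      obtain ⟨v, hv, z, hz⟩ := hty
      have hg : x * v + y * z ∉ n := by
        intro hmem
        apply hv
        have : v = (x * v + y * z) - ((x - 1) * v + (y - 0) * z) := by ring
        rw [this]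
        exact n.sub_mem hmem (n.add_mem (n.mul_mem_right _ hxn) (n.mul_mem_right _ hyn))
      apply hg
      apply hKn
      rw [hK]
      have : (x * v + y * z) * a = v * (x * a + y * b) := by
        have : y * z * a = y * (v * b) := by rw [hz]; ring
        rw [add_mul, this]; ring
      rw [this]
      exact Ideal.mul_mem_left _ _ (Ideal.mem_span_singleton_self _)
    · simp only [I, if_neg hty] at hxn hyn
      obtain ⟨v, hv, z, hz⟩ := (h n hn).resolve_left hty
      have hh : x * z + y * v ∉ n := by
        intro hmem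
        apply hv
        have : v = (x * z + y * v) - ((x - 0) * z + (y - 1) * v) := by ring
        rw [this]
        exact n.sub_mem hmem (n.add_mem (n.mul_mem_right _ hxn) (n.mul_mem_right _ hyn))
      have hhv : (x * z + y * v) * v ∉ n := by
        intro hmem
        rcases hn.isPrime.mem_or_mem hmem with h' | h'
        · exact hh h'
        · exact hv h'
      apply hhv
      apply hKn
      rw [hK]
      have : (x * z + y * v) * v * a = v * z * (x * a + y * b) := by
        have : (x * z + y * v) * v * a = (x * z + y * v) * (v * a) := by ring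
        rw [this, hz]
        have h2 : x * z * b = x * (v * a) := by rw [hz]; ring
        have : (x * z + y * v) * (b * z) = (x * z * b + y * v * b) * z := by ring
        rw [this, h2]; ring
      rw [this]
      exact Ideal.mul_mem_left _ _ (Ideal.mem_span_singleton_self _)
  · -- b ∈ (t)
    let K : Ideal A := Submodule.comap (LinearMap.mulRight A b) (Ideal.span {x * a + y * b})
    have hK : ∀ r, r ∈ K ↔ r * b ∈ Ideal.span {x * a + y * b} := fun r => Iff.rfl
    suffices hKt : K = ⊤ by
      have : (1 : A) ∈ K := by rw [hKt]; trivial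
      rw [hK, one_mul] at this
      exact this
    by_contra hne
    obtain ⟨n, hn, hKn⟩ := Ideal.exists_le_maximal K hne
    have hxn := hx ⟨n, hn⟩
    have hyn := hy ⟨n, hn⟩
    by_cases hty : ty ⟨n, hn⟩
    · simp only [I, if_pos hty] at hxn hyn
      obtain ⟨v, hv, z, hz⟩ := hty
      have hg : x * v + y * z ∉ n := by
        intro hmem
        apply hv
        have : v = (x * v + y * z) - ((x - 1) * v + (y - 0) * z) := by ring
        rw [this]
        exact n.sub_mem hmem (n.add_mem (n.mul_mem_right _ hxn) (n.mul_mem_right _ hyn))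
      have hgv : (x * v + y * z) * v ∉ n := by
        intro hmem
        rcases hn.isPrime.mem_or_mem hmem with h' | h'
        · exact hg h'
        · exact hv h'
      apply hgv
      apply hKn
      rw [hK]
      have : (x * v + y * z) * v * b = v * z * (x * a + y * b) := by
        have : (x * v + y * z) * v * b = (x * v + y * z) * (v * b) := by ring
        rw [this, hz]
        have h2 : y * z * a = y * (v * b) := by rw [hz]; ring
        have : (x * v + y * z) * (a * z) = (x * v * a + y * z * a) * z := by ring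
        rw [this, h2]; ring
      rw [this]
      exact Ideal.mul_mem_left _ _ (Ideal.mem_span_singleton_self _)
    · simp only [I, if_neg hty] at hxn hyn
      obtain ⟨v, hv, z, hz⟩ := (h n hn).resolve_left hty
      have hh : x * z + y * v ∉ n := by
        intro hmem
        apply hv
        have : v = (x * z + y * v) - ((x - 0) * z + (y - 1) * v) := by ring
        rw [this]
        exact n.sub_mem hmem (n.add_mem (n.mul_mem_right _ hxn) (n.mul_mem_right _ hyn))
      apply hh
      apply hKn
      rw [hK]
      have : (x * z + y * v) * b = v * (x * a + y * b) := by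
        have : x * z * b = x * (v * a) := by rw [hz]; ring
        rw [add_mul, this]; ring
      rw [this]
      exact Ideal.mul_mem_left _ _ (Ideal.mem_span_singleton_self _)

end Groth.Agent.Lib.Helper86.ComFac
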