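import Mathlib
import Groth.Agent.Lib.Helper86.ComFac1
import Groth.Agent.Lib.Helper86.ComFac2

set_option autoImplicit false
set_option linter.style.haveILetI false

/-!
# Common factor lemma, part 3: assembly
-/

universe u

namespace Groth.Agent.Lib.Helper86.ComFac

open Ideal

variable {R : Type u} [CommRing R]

theorem exists_pow_le_span [IsNoetherianRing R] [IsLocalRing R] [Ring.KrullDimLE 1 R] {σ : R}
    (hσ : σ ∈ nonZeroDivisors R) :
    ∃ n : ℕ, IsLocalRing.maximalIdeal R ^ n ≤ Ideal.span {σ} := by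
  by_cases hu : IsUnit σ
  · exact ⟨0, by rw [Ideal.span_singleton_eq_top.2 hu]; exact le_top⟩
  have hne : Ideal.span {σ} ≠ ⊤ := by rwa [Ne, Ideal.span_singleton_eq_top]
  haveI : Nontrivial (R ⧸ Ideal.span {σ}) := Ideal.Quotient.nontrivial_iff.2 hne
  haveI : IsLocalRing (R ⧸ Ideal.span {σ}) :=
    IsLocalRing.of_surjective' (Ideal.Quotient.mk _) Ideal.Quotient.mk_surjective
  have hart : IsArtinianRing (R ⧸ Ideal.span {σ}) := by
    rw [isArtinianRing_iff_krullDimLE_zero, Ring.KrullDimLE, Order.krullDimLE_iff,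
      ← ENat.WithBot.add_le_add_one_right_iff, Nat.cast_zero, zero_add]
    exact (ringKrullDim_quotient_succ_le_of_nonZeroDivisor hσ).trans Order.KrullDimLE.krullDim_le
  obtain ⟨n, hn⟩ := (isArtinianRing_iff_isNilpotent_maximalIdeal _).1 hart
  refine ⟨n, ?_⟩
  intro x hx
  have h1 : Ideal.Quotient.mk (Ideal.span {σ}) x ∈
      (IsLocalRing.maximalIdeal (R ⧸ Ideal.span {σ})) ^ n := by
    have h2 := Ideal.mem_map_of_mem (Ideal.Quotient.mk (Ideal.span {σ})) hx
    rw [Ideal.map_pow] at h2
    refine Ideal.pow_right_mono ?_ n h2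
    apply Ideal.map_le_iff_le_comap.2
    intro y hy
    rw [Ideal.mem_comap, IsLocalRing.mem_maximalIdeal]
    intro hunit
    rw [IsLocalRing.mem_maximalIdeal] at hy
    apply hy
    -- unit mod σ with σ ∈ m implies unit
    obtain ⟨z, hz⟩ := isUnit_iff_exists_inv.1 hunit
    obtain ⟨z, rfl⟩ := Ideal.Quotient.mk_surjective z
    rw [← map_mul, ← map_one (Ideal.Quotient.mk (Ideal.span {σ})), Ideal.Quotient.eq] at hz
    have h3 : y * z - 1 ∈ IsLocalRing.maximalIdeal R := by
      have : Ideal.span {σ} ≤ IsLocalRing.maximalIdeal R := by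
        rw [Ideal.span_singleton_le_iff_mem]
        exact hu
      exact this hz
    have h4 : IsUnit (y * z) := by
      by_contra h5
      have : y * z ∈ IsLocalRing.maximalIdeal R := h5
      have h6 := (IsLocalRing.maximalIdeal R).sub_mem this h3
      rw [sub_sub_cancel] at h6
      exact (IsLocalRing.maximalIdeal.isMaximal R).ne_top ((Ideal.eq_top_iff_one _).2 h6)
    exact isUnit_of_mul_isUnit_left h4
  rw [hn] at h1
  exact Ideal.Quotient.eq_zero_iff_mem.1 h1

theorem finite_maximal_of_finite {A : Type*} [IsLocalRing R] [CommRing A] [Algebra R A]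
    [Module.Finite R A] : {n : Ideal A | n.IsMaximal}.Finite := by
  apply (Algebra.QuasiFinite.finite_primesOver (S := A) (IsLocalRing.maximalIdeal R)).subset
  intro n hn
  have hn' : n.IsMaximal := hn
  refine ⟨hn'.isPrime, ⟨?_⟩⟩
  have := Ideal.isMaximal_comap_of_isIntegral_of_isMaximal (R := R) n
  exact (IsLocalRing.eq_maximalIdeal this).symm

theorem exists_pow_smul_mem_range [IsNoetherianRing R] [IsLocalRing R] [Ring.KrullDimLE 1 R]
    (A : Subalgebra R (FractionRing R)) (hA : Module.Finite R A) :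
    ∃ n : ℕ, ∀ r ∈ IsLocalRing.maximalIdeal R ^ n, ∀ x : A,
      r • x ∈ (algebraMap R A).range := by
  classical
  obtain ⟨s, hs⟩ := hA.fg_top
  obtain ⟨σ, hσ⟩ := IsLocalization.exist_integer_multiples_of_finset (nonZeroDivisors R)
    (s.image (Subtype.val : A → FractionRing R))
  have hall : ∀ x : A, ∃ ρ : R, algebraMap R (FractionRing R) ρ = (σ : R) • (x : FractionRing R) := by
    intro x
    have hx : x ∈ Submodule.span R (s : Set A) := by rw [hs]; trivial
    induction hx using Submodule.span_induction with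
    | mem x hx =>
      obtain ⟨ρ, hρ⟩ := hσ x (Finset.mem_image_of_mem _ hx)
      exact ⟨ρ, hρ⟩
    | zero => exact ⟨0, by simp⟩
    | add x y _ _ hx hy =>
      obtain ⟨ρ, hρ⟩ := hx
      obtain ⟨ρ', hρ'⟩ := hy
      exact ⟨ρ + ρ', by rw [map_add, hρ, hρ']; simp [smul_add]⟩
    | smul r x _ hx =>
      obtain ⟨ρ, hρ⟩ := hx
      refine ⟨r * ρ, ?_⟩
      rw [map_mul, hρ]
      simp only [Subalgebra.coe_smul]
      rw [← Algebra.smul_def, smul_comm]
  obtain ⟨n, hn⟩ := exists_pow_le_span σ.2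
  refine ⟨n, fun r hr x => ?_⟩
  obtain ⟨r', hr'⟩ := Ideal.mem_span_singleton'.1 (hn hr)
  obtain ⟨ρ, hρ⟩ := hall x
  refine ⟨r' * ρ, ?_⟩
  apply Subtype.ext
  show algebraMap R (FractionRing R) (r' * ρ) = r • (x : FractionRing R)
  rw [map_mul, hρ, ← hr', ← Algebra.smul_def, mul_smul]

/-- The main construction. -/
theorem main [IsNoetherianRing R] [IsLocalRing R] [Ring.KrullDimLE 1 R] (a b : R)
    (ha : a ∈ nonZeroDivisors R) (hb : b ∈ nonZeroDivisors R)
    (ham : a ∈ IsLocalRing.maximalIdeal R) :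
    ∃ A : Subalgebra R (FractionRing R), Module.Finite R A ∧
      ∃ t a' b' x y : A, algebraMap R A a = t * a' ∧ algebraMap R A b = t * b' ∧
        x * a' + y * b' = 1 ∧ algebraMap R A a ∈ nonZeroDivisors A ∧
        algebraMap R A b ∈ nonZeroDivisors A := by
  classical
  obtain ⟨d, c, ⟨i0, hi0⟩, hrel⟩ := exists_relation a b ha ham
  let Q := FractionRing R
  have hua : IsUnit (algebraMap R Q a) := IsLocalization.map_units Q (⟨a, ha⟩ : nonZeroDivisors R)
  have hub : IsUnit (algebraMap R Q b) := IsLocalization.map_units Q (⟨b, hb⟩ : nonZeroDivisors R)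
  obtain ⟨ainv, hainv⟩ := isUnit_iff_exists_inv.1 hua
  obtain ⟨binv, hbinv⟩ := isUnit_iff_exists_inv.1 hub
  obtain ⟨w, hw⟩ : ∃ w : Q, w = algebraMap R Q a * binv := ⟨_, rfl⟩
  obtain ⟨s, hs⟩ : ∃ s : Q, s = algebraMap R Q b * ainv := ⟨_, rfl⟩
  have hsw : s * w = 1 := by
    rw [hs, hw]
    calc algebraMap R Q b * ainv * (algebraMap R Q a * binv)
        = (algebraMap R Q a * ainv) * (algebraMap R Q b * binv) := by ring
      _ = 1 := by rw [hainv, hbinv, one_mul]
  have hwb : w * algebraMap R Q b = algebraMap R Q a := by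
    rw [hw, mul_assoc, mul_comm binv, hbinv, mul_one]
  let c' : ℕ → R := fun i => if h : i < d + 1 then c ⟨i, h⟩ else 0
  have h0 : yk c' w d 0 = 0 := by
    unfold yk
    rw [Nat.sub_zero, Finset.sum_range]
    have hterm : ∀ i : Fin (d + 1), algebraMap R Q (c' (0 + (i : ℕ))) * w ^ (i : ℕ) =
        algebraMap R Q (c i * (a ^ (i : ℕ) * b ^ (d - (i : ℕ)))) * binv ^ d := by
      intro i
      have hc : c' (0 + (i : ℕ)) = c i := by
        simp only [c', zero_add]
        rw [dif_pos i.2]
      have hbd : binv ^ d = binv ^ (i : ℕ) * binv ^ (d - (i : ℕ)) := by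
        rw [← pow_add]
        congr 1
        have := i.2
        omega
      rw [hc, map_mul, map_mul, map_pow, map_pow, hbd, hw, mul_pow]
      have : algebraMap R Q b ^ (d - (i : ℕ)) * binv ^ (d - (i : ℕ)) = 1 := by
        rw [← mul_pow, hbinv, one_pow]
      calc algebraMap R Q (c i) * (algebraMap R Q a ^ (i : ℕ) * binv ^ (i : ℕ))
          = algebraMap R Q (c i) * (algebraMap R Q a ^ (i : ℕ) * binv ^ (i : ℕ)) *
            (algebraMap R Q b ^ (d - (i : ℕ)) * binv ^ (d - (i : ℕ))) := by rw [this, mul_one]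
        _ = _ := by ring
    rw [Finset.sum_congr rfl (fun i _ => hterm i), ← Finset.sum_mul, ← map_sum, hrel, map_zero,
      zero_mul]
  have hint : ∀ k ≤ d + 1, IsIntegral R (yk c' w d k) := fun k hk =>
    yk_isIntegral c' s w hsw d h0 k hk
  let A : Subalgebra R Q := Algebra.adjoin R (Set.range fun k : Fin (d + 2) => yk c' w d k)
  have hfinA : Module.Finite R A := by
    apply Algebra.finite_adjoin_of_finite_of_isIntegral (Set.finite_range _)
    rintro _ ⟨k, rfl⟩
    exact hint k (by have := k.2; omega)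
  have hmem : ∀ k ≤ d + 1, yk c' w d k ∈ A := fun k hk =>
    Algebra.subset_adjoin ⟨⟨k, by omega⟩, rfl⟩
  refine ⟨A, hfinA, ?_⟩
  let Y : ℕ → A := fun k => if hk : k ≤ d + 1 then ⟨yk c' w d k, hmem k hk⟩ else 0
  have hY : ∀ k ≤ d + 1, ((Y k : A) : Q) = yk c' w d k := by
    intro k hk
    simp only [Y]
    rw [dif_pos hk]
  have hY0 : Y 0 = 0 := by
    apply Subtype.ext
    rw [hY 0 (Nat.zero_le _), h0]
    rfl
  let U : ℕ → A := fun k => algebraMap R A (c' k) - Y k
  have hrelU : ∀ k ≤ d, U k * algebraMap R A b = algebraMap R A a * (-Y (k + 1)) := by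
    intro k hk
    apply Subtype.ext
    show (algebraMap R Q (c' k) - (Y k : Q)) * algebraMap R Q b =
      algebraMap R Q a * (-(Y (k + 1) : Q))
    rw [hY k (by omega), hY (k + 1) (by omega), yk_succ c' w d k hk, ← hwb]
    ring
  -- nonzerodivisors
  have hnzd : ∀ r : R, r ∈ nonZeroDivisors R → algebraMap R A r ∈ nonZeroDivisors A := by
    intro r hr
    have hur : IsUnit (algebraMap R Q r) := IsLocalization.map_units Q (⟨r, hr⟩ : nonZeroDivisors R)
    rw [mem_nonZeroDivisors_iff_right]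
    intro z hz
    apply Subtype.ext
    have : (z : Q) * algebraMap R Q r = 0 := congr_arg Subtype.val hz
    exact (hur.mul_left_eq_zero).1 this
  haveI := hfinA
  have hloc : ∀ n : Ideal A, n.IsMaximal →
      (∃ v, v ∉ n ∧ ∃ z, v * algebraMap R A b = algebraMap R A a * z) ∨
      (∃ v, v ∉ n ∧ ∃ z, v * algebraMap R A a = algebraMap R A b * z) := by
    intro n hn
    by_cases hcase : ∃ k ≤ d, U k ∉ n
    · obtain ⟨k, hk, hUk⟩ := hcase
      exact Or.inl ⟨U k, hUk, -Y (k + 1), hrelU k hk⟩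
    · push Not at hcase
      right
      have hi0d : (i0 : ℕ) ≤ d := by have := i0.2; omega
      have hci0 : c' (i0 : ℕ) = c i0 := by
        simp only [c']
        rw [dif_pos i0.2]
      have hYi0 : Y (i0 : ℕ) ∉ n := by
        intro hmem'
        have h1 : algebraMap R A (c' (i0 : ℕ)) ∈ n := by
          have : algebraMap R A (c' (i0 : ℕ)) = U (i0 : ℕ) + Y (i0 : ℕ) := by
            simp only [U]; ring
          rw [this]
          exact n.add_mem (hcase _ hi0d) hmem'
        rw [hci0] at h1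
        exact hn.ne_top (Ideal.eq_top_of_isUnit_mem _ h1 (hi0.map _))
      have hne0 : (i0 : ℕ) ≠ 0 := by
        intro h
        rw [h, hY0] at hYi0
        exact hYi0 n.zero_mem
      obtain ⟨k, hk⟩ := Nat.exists_eq_succ_of_ne_zero hne0
      refine ⟨Y (i0 : ℕ), hYi0, -U k, ?_⟩
      have := hrelU k (by omega)
      rw [hk]
      calc Y (k + 1) * algebraMap R A a = -(algebraMap R A a * (-Y (k + 1))) := by ring
        _ = -(U k * algebraMap R A b) := by rw [this]
        _ = _ := by ring
  obtain ⟨t, x, y, ht, hat, hbt⟩ :=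
    exists_common_generator (finite_maximal_of_finite (R := R)) _ _ hloc
  obtain ⟨a', ha'⟩ := Ideal.mem_span_singleton'.1 hat
  obtain ⟨b', hb'⟩ := Ideal.mem_span_singleton'.1 hbt
  have hta : algebraMap R A a = t * a' := by rw [← ha', mul_comm]
  have htb : algebraMap R A b = t * b' := by rw [← hb', mul_comm]
  refine ⟨t, a', b', x, y, hta, htb, ?_, hnzd a ha, hnzd b hb⟩
  have htn : t ∈ nonZeroDivisors A := by
    have := hnzd a ha
    rw [hta] at this
    exact (mul_mem_nonZeroDivisors.1 this).1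
  have h1 : t * (x * a' + y * b') = t * 1 := by
    rw [mul_one]
    conv_rhs => rw [ht, hta, htb]
    ring
  have h2 : t * ((x * a' + y * b') - 1) = 0 := by rw [mul_sub, h1, sub_self]
  exact sub_eq_zero.1 ((mem_nonZeroDivisors_iff.1 htn).1 _ h2)

end Groth.Agent.Lib.Helper86.ComFac
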