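import Mathlib

set_option autoImplicit false
set_option linter.style.haveILetI false

/-!
# Relative lengths of submodules
-/

universe u v

namespace Groth.Agent.Lib.Helper86.ComFac

variable {A : Type u} [CommRing A] {Q : Type v} [AddCommGroup Q] [Module A Q]

/-- The length of `M / (N ∩ M)`. -/
noncomputable def relLen (N M : Submodule A Q) : ℕ∞ :=
  Module.length A (M ⧸ N.submoduleOf M)

theorem relLen_self (M : Submodule A Q) : relLen M M = 0 := by
  unfold relLen
  rw [Submodule.submoduleOf_self, Module.length_eq_zero_iff]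
  exact Submodule.Quotient.subsingleton_iff.2 rfl

theorem relLen_add {N M P : Submodule A Q} (h1 : N ≤ M) (h2 : M ≤ P) :
    relLen N P = relLen N M + relLen M P := by
  unfold relLen
  have hf0 : N.submoduleOf M ≤ Submodule.comap (Submodule.inclusion h2) (N.submoduleOf P) := by
    intro x hx
    exact hx
  have hg0 : N.submoduleOf P ≤ Submodule.comap (LinearMap.id : P →ₗ[A] P) (M.submoduleOf P) := by
    intro x hx
    exact h1 hx
  let f : (M ⧸ N.submoduleOf M) →ₗ[A] (P ⧸ N.submoduleOf P) :=
    Submodule.mapQ (N.submoduleOf M) (N.submoduleOf P) (Submodule.inclusion h2) hf0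
  let g : (P ⧸ N.submoduleOf P) →ₗ[A] (P ⧸ M.submoduleOf P) :=
    Submodule.mapQ (N.submoduleOf P) (M.submoduleOf P) LinearMap.id hg0
  have hf : Function.Injective f := by
    rw [injective_iff_map_eq_zero]
    intro x hx
    obtain ⟨x, rfl⟩ := Submodule.Quotient.mk_surjective _ x
    simp only [f, Submodule.mapQ_apply] at hx
    have h3 : Submodule.inclusion h2 x ∈ N.submoduleOf P := (Submodule.Quotient.mk_eq_zero _).1 hx
    exact (Submodule.Quotient.mk_eq_zero _).2 (show (x : Q) ∈ N from h3)
  have hg : Function.Surjective g := by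
    intro x
    obtain ⟨x, rfl⟩ := Submodule.Quotient.mk_surjective _ x
    exact ⟨Submodule.Quotient.mk x, by simp [g]⟩
  have hfg : Function.Exact f g := by
    intro y
    constructor
    · intro hy
      obtain ⟨y, rfl⟩ := Submodule.Quotient.mk_surjective _ y
      simp only [g, Submodule.mapQ_apply, LinearMap.id_apply] at hy
      have h3' : y ∈ M.submoduleOf P := (Submodule.Quotient.mk_eq_zero _).1 hy
      have h3 : (y : Q) ∈ M := h3'
      refine ⟨Submodule.Quotient.mk ⟨(y : Q), h3⟩, ?_⟩
      simp only [f, Submodule.mapQ_apply]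
      rfl
    · rintro ⟨x, rfl⟩
      obtain ⟨x, rfl⟩ := Submodule.Quotient.mk_surjective _ x
      simp only [f, g, Submodule.mapQ_apply, LinearMap.id_apply]
      exact (Submodule.Quotient.mk_eq_zero _).2 (show ((Submodule.inclusion h2 x : P) : Q) ∈ M from x.2)
  exact Module.length_eq_add_of_exact f g hf hg hfg

theorem relLen_map (e : Q ≃ₗ[A] Q) (N M : Submodule A Q) :
    relLen (N.map (e : Q →ₗ[A] Q)) (M.map (e : Q →ₗ[A] Q)) = relLen N M := by
  unfold relLen
  symm
  apply LinearEquiv.length_eq
  refine Submodule.Quotient.equiv _ _ (e.submoduleMap M) ?_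
  ext ⟨y, hy⟩
  constructor
  · rintro ⟨x, hx, hxy⟩
    have h1 : (x : Q) ∈ N := hx
    have h2 : e (x : Q) = y := congr_arg Subtype.val hxy
    show y ∈ N.map (e : Q →ₗ[A] Q)
    exact ⟨x, h1, h2⟩
  · intro h
    have h1 : y ∈ N.map (e : Q →ₗ[A] Q) := h
    obtain ⟨x, hx, rfl⟩ := h1
    have hxM : x ∈ M := by
      obtain ⟨x', hx', hxx'⟩ := hy
      have := e.injective hxx'
      rwa [← this]
    exact ⟨⟨x, hxM⟩, hx, Subtype.ext rfl⟩

theorem relLen_pos {N M : Submodule A Q} (h : ¬ M ≤ N) : 0 < relLen N M := by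
  unfold relLen
  rw [Module.length_pos_iff]
  apply Submodule.Quotient.nontrivial_iff.2
  intro htop
  apply h
  intro x hx
  have : (⟨x, hx⟩ : M) ∈ N.submoduleOf M := by rw [htop]; trivial
  exact this

theorem relLen_le_of_le {N N' M : Submodule A Q} (h1 : N ≤ N') (h2 : N' ≤ M) :
    relLen N' M ≤ relLen N M := by
  rw [relLen_add h1 h2]
  exact le_add_self

/-- A finitely generated module killed by a nonzerodivisor, over a Noetherian ring of dimension
at most one, has finite length. -/
theorem isFiniteLength_of_smul_eq_zero [IsNoetherianRing A] [Ring.KrullDimLE 1 A]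
    (P : Type*) [AddCommGroup P] [Module A P] [Module.Finite A P] (σ : A)
    (hσ : σ ∈ nonZeroDivisors A) (h : ∀ p : P, σ • p = 0) : IsFiniteLength A P := by
  classical
  obtain ⟨S, hS⟩ := Module.Finite.fg_top (R := A) (M := P)
  have h1 := isFiniteLength_quotient_span_singleton A hσ
  rw [isFiniteLength_iff_isNoetherian_isArtinian] at h1 ⊢
  obtain ⟨hN, hAr⟩ := h1
  have hg0 : ∀ p : P, Ideal.span {σ} ≤ LinearMap.ker (LinearMap.toSpanSingleton A P p) := by
    intro p
    rw [Ideal.span_le]
    intro x hx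
    rw [Set.mem_singleton_iff] at hx
    rw [hx]
    show LinearMap.toSpanSingleton A P p σ = 0
    rw [LinearMap.toSpanSingleton_apply]
    exact h p
  let g : {p : P // p ∈ S} → ((A ⧸ Ideal.span {σ}) →ₗ[A] P) := fun p =>
    Submodule.liftQ (Ideal.span {σ}) (LinearMap.toSpanSingleton A P p.1) (hg0 p.1)
  let F : ({p : P // p ∈ S} → A ⧸ Ideal.span {σ}) →ₗ[A] P :=
    LinearMap.lsum A (fun _ : {p : P // p ∈ S} => A ⧸ Ideal.span {σ}) A g
  have hF : Function.Surjective F := by
    rw [← LinearMap.range_eq_top, eq_top_iff, ← hS, Submodule.span_le]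
    intro p hp
    refine ⟨Pi.single ⟨p, hp⟩ 1, ?_⟩
    simp only [F, LinearMap.lsum_apply, LinearMap.coe_sum, Finset.sum_apply, LinearMap.coe_comp,
      Function.comp_apply, LinearMap.proj_apply]
    rw [Finset.sum_eq_single ⟨p, hp⟩]
    · rw [Pi.single_eq_same]
      show Submodule.liftQ (Ideal.span {σ}) (LinearMap.toSpanSingleton A P p) _
        (Submodule.Quotient.mk 1) = p
      rw [Submodule.liftQ_apply, LinearMap.toSpanSingleton_apply, one_smul]
    · intro b _ hb
      rw [Pi.single_eq_of_ne hb, map_zero]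
    · intro h'
      exact absurd (Finset.mem_univ _) h'
  exact ⟨isNoetherian_of_surjective F (LinearMap.range_eq_top.2 hF),
    isArtinian_of_surjective _ F hF⟩

/-- Finiteness of relative lengths. -/
theorem relLen_ne_top [IsNoetherianRing A] [Ring.KrullDimLE 1 A] {N M : Submodule A Q}
    (hM : M.FG) (σ : A) (hσ : σ ∈ nonZeroDivisors A) (h : ∀ x ∈ M, σ • x ∈ N) :
    relLen N M ≠ ⊤ := by
  unfold relLen
  rw [Module.length_ne_top_iff]
  haveI : Module.Finite A M := Module.Finite.iff_fg.2 hM
  apply isFiniteLength_of_smul_eq_zero _ σ hσ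
  intro p
  obtain ⟨p, rfl⟩ := Submodule.Quotient.mk_surjective _ p
  rw [← Submodule.Quotient.mk_smul, Submodule.Quotient.mk_eq_zero]
  exact h p.1 p.2

end Groth.Agent.Lib.Helper86.ComFac
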