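import Mathlib
import Groth.Agent.Lib.Helper86.ComFac4

set_option autoImplicit false
set_option linter.style.haveILetI false

/-!
# Lengths `ℓ_B(u) = length_A (B / uB)` for finite birational extensions
-/

universe u

namespace Groth.Agent.Lib.Helper86.ComFac

variable {A : Type u} [CommRing A] {T : Type u} [CommRing T] [Algebra A T]

/-- Multiplication by a unit as a linear equivalence. -/
noncomputable def mulE (A : Type u) [CommRing A] {T : Type u} [CommRing T] [Algebra A T]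
    (u : Tˣ) : T ≃ₗ[A] T :=
  LinearEquiv.ofLinearMap (LinearMap.mulLeft A (u : T)) (LinearMap.mulLeft A ((u⁻¹ : Tˣ) : T))
    (by ext x; simp) (by ext x; simp)

@[simp] theorem mulE_apply (u : Tˣ) (x : T) : mulE A u x = u * x := rfl

/-- The submodule `uB`. -/
noncomputable def sB (u : Tˣ) (B : Subalgebra A T) : Submodule A T :=
  (Subalgebra.toSubmodule B).map (mulE A u : T →ₗ[A] T)

theorem mem_sB {u : Tˣ} {B : Subalgebra A T} {x : T} : x ∈ sB u B ↔ ∃ b ∈ B, (u : T) * b = x := by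
  unfold sB
  rw [Submodule.mem_map]
  rfl

theorem sB_le {u : Tˣ} {B : Subalgebra A T} (hu : (u : T) ∈ B) :
    sB u B ≤ Subalgebra.toSubmodule B := by
  intro x hx
  obtain ⟨b, hb, rfl⟩ := mem_sB.1 hx
  exact B.mul_mem hu hb

theorem sB_mono (u : Tˣ) {B B₁ : Subalgebra A T} (h : B ≤ B₁) : sB u B ≤ sB u B₁ := by
  intro x hx
  obtain ⟨b, hb, rfl⟩ := mem_sB.1 hx
  exact mem_sB.2 ⟨b, h hb, rfl⟩

theorem sB_mul (u u' : Tˣ) (B : Subalgebra A T) :
    sB (u * u') B = (sB u' B).map (mulE A u : T →ₗ[A] T) := by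
  ext x
  constructor
  · intro hx
    obtain ⟨b, hb, rfl⟩ := mem_sB.1 hx
    exact ⟨(u' : T) * b, mem_sB.2 ⟨b, hb, rfl⟩, by simp [mul_assoc]⟩
  · rintro ⟨y, hy, rfl⟩
    obtain ⟨b, hb, rfl⟩ := mem_sB.1 hy
    exact mem_sB.2 ⟨b, hb, by simp [mul_assoc]⟩

/-- `ℓ_B(u)`. -/
noncomputable def ell (B : Subalgebra A T) (u : Tˣ) : ℕ :=
  (relLen (sB u B) (Subalgebra.toSubmodule B)).toNat

section loc

variable [IsLocalization (nonZeroDivisors A) T]

theorem exists_nzd_smul_mem (M : Submodule A T) (hM : M.FG) :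
    ∃ σ ∈ nonZeroDivisors A, ∀ x ∈ M, ∃ ρ : A, algebraMap A T ρ = σ • x := by
  classical
  obtain ⟨s, hs⟩ := hM
  obtain ⟨σ, hσ⟩ := IsLocalization.exist_integer_multiples_of_finset (nonZeroDivisors A) s
  refine ⟨σ, σ.2, fun x hx => ?_⟩
  rw [← hs] at hx
  induction hx using Submodule.span_induction with
  | mem x hx =>
    obtain ⟨ρ, hρ⟩ := hσ x hx
    exact ⟨ρ, hρ⟩
  | zero => exact ⟨0, by simp⟩
  | add x y _ _ hx hy =>
    obtain ⟨ρ, hρ⟩ := hx
    obtain ⟨ρ', hρ'⟩ := hy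
    exact ⟨ρ + ρ', by rw [map_add, hρ, hρ', smul_add]⟩
  | smul r x _ hx =>
    obtain ⟨ρ, hρ⟩ := hx
    refine ⟨r * ρ, ?_⟩
    rw [map_mul, hρ, ← Algebra.smul_def, smul_comm]

variable [IsNoetherianRing A] [Ring.KrullDimLE 1 A]

theorem relLen_sB_ne_top (B : Subalgebra A T) (hB : Module.Finite A B) (u : Tˣ) :
    relLen (sB u B) (Subalgebra.toSubmodule B) ≠ ⊤ := by
  have hfg : (Subalgebra.toSubmodule B).FG := Module.Finite.iff_fg.1 hB
  obtain ⟨σ, hσ⟩ := IsLocalization.exists_integer_multiple (nonZeroDivisors A)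
    (((u⁻¹ : Tˣ) : T))
  obtain ⟨α, hα⟩ := hσ
  apply relLen_ne_top hfg σ σ.2
  intro x hx
  rw [mem_sB]
  refine ⟨algebraMap A T α * x, B.mul_mem (B.algebraMap_mem α) hx, ?_⟩
  rw [hα, Algebra.smul_def, Algebra.smul_def]
  calc (u : T) * (algebraMap A T σ * ((u⁻¹ : Tˣ) : T) * x)
      = ((u : T) * ((u⁻¹ : Tˣ) : T)) * (algebraMap A T σ * x) := by ring
    _ = algebraMap A T σ * x := by rw [Units.mul_inv, one_mul]

theorem relLen_ne_top_of_le {B B₁ : Subalgebra A T} (hB₁ : Module.Finite A B₁) :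
    relLen (Subalgebra.toSubmodule B) (Subalgebra.toSubmodule B₁) ≠ ⊤ := by
  have hfg : (Subalgebra.toSubmodule B₁).FG := Module.Finite.iff_fg.1 hB₁
  obtain ⟨σ, hσ, h⟩ := exists_nzd_smul_mem _ hfg
  apply relLen_ne_top hfg σ hσ
  intro x hx
  obtain ⟨ρ, hρ⟩ := h x hx
  rw [← hρ]
  exact B.algebraMap_mem ρ

theorem ell_mul (B : Subalgebra A T) (hB : Module.Finite A B) (u u' : Tˣ) (hu : (u : T) ∈ B)
    (hu' : (u' : T) ∈ B) : ell B (u * u') = ell B u + ell B u' := by
  unfold ell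
  have h1 : sB (u * u') B ≤ sB u B := by
    rw [sB_mul]
    exact Submodule.map_mono (sB_le hu')
  rw [relLen_add h1 (sB_le hu)]
  have h2 : relLen (sB (u * u') B) (sB u B) = relLen (sB u' B) (Subalgebra.toSubmodule B) := by
    rw [sB_mul]
    exact relLen_map (mulE A u) _ _
  rw [h2, ENat.toNat_add (relLen_sB_ne_top B hB u') (relLen_sB_ne_top B hB u), add_comm]

theorem ell_eq_of_le {B B₁ : Subalgebra A T} (hle : B ≤ B₁) (hB : Module.Finite A B)
    (hB₁ : Module.Finite A B₁) (u : Tˣ) (hu : (u : T) ∈ B) : ell B₁ u = ell B u := by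
  unfold ell
  have hle' : Subalgebra.toSubmodule B ≤ Subalgebra.toSubmodule B₁ := hle
  have e1 := relLen_add (sB_le hu) hle'
  have e2 := relLen_add (sB_mono u hle) (sB_le (hle hu))
  have e3 : relLen (sB u B) (sB u B₁) =
      relLen (Subalgebra.toSubmodule B) (Subalgebra.toSubmodule B₁) :=
    relLen_map (mulE A u) _ _
  rw [e3] at e2
  have f1 := relLen_sB_ne_top B hB u
  have f2 := relLen_sB_ne_top B₁ hB₁ u
  have f3 := relLen_ne_top_of_le (B := B) hB₁
  obtain ⟨k1, hk1⟩ := ENat.ne_top_iff_exists.1 f1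
  obtain ⟨k2, hk2⟩ := ENat.ne_top_iff_exists.1 f2
  obtain ⟨k3, hk3⟩ := ENat.ne_top_iff_exists.1 f3
  rw [← hk1, ← hk3] at e1
  rw [← hk2, ← hk3, e1] at e2
  rw [← hk1, ← hk2]
  norm_cast at e2
  simp only [ENat.toNat_natCast]
  omega

theorem one_le_ell (B : Subalgebra A T) (hB : Module.Finite A B) (u : Tˣ)
    (hnu : ((u⁻¹ : Tˣ) : T) ∉ B) : 1 ≤ ell B u := by
  unfold ell
  have hpos : 0 < relLen (sB u B) (Subalgebra.toSubmodule B) := by
    apply relLen_pos
    intro hle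
    have h1 : (1 : T) ∈ sB u B := hle B.one_mem
    obtain ⟨b, hb, hub⟩ := mem_sB.1 h1
    apply hnu
    have : b = ((u⁻¹ : Tˣ) : T) := by
      rw [← one_mul b, ← Units.inv_mul u, mul_assoc, hub, mul_one]
    rwa [← this]
  obtain ⟨k, hk⟩ := ENat.ne_top_iff_exists.1 (relLen_sB_ne_top B hB u)
  rw [← hk] at hpos ⊢
  simp only [ENat.toNat_natCast]
  exact_mod_cast hpos

end loc

/-- Two finite subalgebras are contained in a finite subalgebra. -/
theorem exists_finite_sup (B C : Subalgebra A T) (hB : Module.Finite A B)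
    (hC : Module.Finite A C) :
    ∃ D : Subalgebra A T, B ≤ D ∧ C ≤ D ∧ Module.Finite A D := by
  refine ⟨B ⊔ C, le_sup_left, le_sup_right, ?_⟩
  have hBfg : B.FG := Subalgebra.fg_of_fg_toSubmodule (Module.Finite.iff_fg.1 hB)
  have hCfg : C.FG := Subalgebra.fg_of_fg_toSubmodule (Module.Finite.iff_fg.1 hC)
  have hfg : (B ⊔ C).FG := hBfg.sup hCfg
  haveI : Algebra.FiniteType A ↥(B ⊔ C) := (Subalgebra.fg_iff_finiteType _).1 hfg
  have hint : B ⊔ C ≤ integralClosure A T := by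
    apply sup_le
    · intro x hx
      exact IsIntegral.of_mem_of_fg B (Module.Finite.iff_fg.1 hB) x hx
    · intro x hx
      exact IsIntegral.of_mem_of_fg C (Module.Finite.iff_fg.1 hC) x hx
  haveI : Algebra.IsIntegral A ↥(B ⊔ C) := by
    constructor
    intro x
    have := hint x.2
    exact (isIntegral_algHom_iff (B ⊔ C).val Subtype.val_injective).1 this
  exact Algebra.IsIntegral.finite

/-- Comaximality descends along integral injective extensions. -/
theorem comaximal_descent {R S : Type*} [CommRing R] [CommRing S] [Algebra R S]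
    [Algebra.IsIntegral R S] (hinj : Function.Injective (algebraMap R S)) (x y : R)
    (h : ∃ p q : S, p * algebraMap R S x + q * algebraMap R S y = 1) :
    ∃ p q : R, p * x + q * y = 1 := by
  by_contra hcon
  have hne : Ideal.span {x, y} ≠ (⊤ : Ideal R) := by
    intro htop
    apply hcon
    have h1 : (1 : R) ∈ Ideal.span {x, y} := by rw [htop]; trivial
    obtain ⟨p, q, hpq⟩ := Ideal.mem_span_pair.1 h1
    exact ⟨p, q, hpq⟩
  obtain ⟨P, hP, hle⟩ := Ideal.exists_le_maximal _ hne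
  have hker : RingHom.ker (algebraMap R S) ≤ P := by
    rw [(RingHom.injective_iff_ker_eq_bot _).1 hinj]
    exact bot_le
  obtain ⟨Q', hQ', hQP⟩ := Ideal.exists_ideal_over_maximal_of_isIntegral (S := S) P hker
  obtain ⟨p, q, hpq⟩ := h
  have hx : algebraMap R S x ∈ Q' := by
    have : x ∈ Q'.comap (algebraMap R S) := by
      rw [hQP]; exact hle (Ideal.subset_span (by simp))
    exact this
  have hy : algebraMap R S y ∈ Q' := by
    have : y ∈ Q'.comap (algebraMap R S) := by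
      rw [hQP]; exact hle (Ideal.subset_span (by simp))
    exact this
  apply hQ'.ne_top
  rw [Ideal.eq_top_iff_one, ← hpq]
  exact Q'.add_mem (Q'.mul_mem_left _ hx) (Q'.mul_mem_left _ hy)

/-- Comaximality descends between finite subalgebras. -/
theorem comaximal_descent_subalgebra {B B₁ : Subalgebra A T} (hle : B ≤ B₁)
    (hB₁ : Module.Finite A B₁) (x y : T) (hx : x ∈ B) (hy : y ∈ B)
    (h : ∃ p ∈ B₁, ∃ q ∈ B₁, p * x + q * y = 1) :
    ∃ p ∈ B, ∃ q ∈ B, p * x + q * y = 1 := by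
  letI : Algebra B B₁ := (Subalgebra.inclusion hle).toRingHom.toAlgebra
  haveI : IsScalarTower A B B₁ := IsScalarTower.of_algebraMap_eq (fun a => rfl)
  haveI : Algebra.IsIntegral B B₁ := by
    constructor
    intro z
    have hz : IsIntegral A z := IsIntegral.of_finite A z
    exact hz.tower_top
  have hinj : Function.Injective (algebraMap B B₁) := Subalgebra.inclusion_injective hle
  obtain ⟨p, hp, q, hq, hpq⟩ := h
  obtain ⟨p', q', hpq'⟩ := comaximal_descent hinj (⟨x, hx⟩ : B) ⟨y, hy⟩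
    ⟨⟨p, hp⟩, ⟨q, hq⟩, Subtype.ext hpq⟩
  exact ⟨p', p'.2, q', q'.2, congr_arg Subtype.val hpq'⟩

end Groth.Agent.Lib.Helper86.ComFac
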