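import Mathlib
import Groth.Agent.Lib.Helper86.ComFac3
import Groth.Agent.Lib.Helper86.ComFac5

set_option autoImplicit false
set_option linter.style.haveILetI false

/-!
# Local factorisations: the global Euclidean algorithm
-/

universe u

namespace Groth.Agent.Lib.Helper86.ComFac

variable {A : Type u} [CommRing A]

theorem mem_nonZeroDivisors_of_isUnit_map (α : A)
    (h : IsUnit (algebraMap A (FractionRing A) α)) : α ∈ nonZeroDivisors A := by
  rw [mem_nonZeroDivisors_iff_right]
  intro z hz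
  have h1 : algebraMap A (FractionRing A) z * algebraMap A (FractionRing A) α = 0 := by
    rw [← map_mul, hz, map_zero]
  have h2 := (h.mul_left_eq_zero).1 h1
  exact IsLocalization.injective (FractionRing A) (le_refl (nonZeroDivisors A))
    (by rw [h2, map_zero])

theorem sum_union_le' {α : Type*} [DecidableEq α] (f : α → ℕ) (X Y : Finset α) :
    ∑ v ∈ X ∪ Y, f v ≤ ∑ v ∈ X, f v + ∑ v ∈ Y, f v := by
  have := Finset.sum_union_inter (s₁ := X) (s₂ := Y) (f := f)
  omega

section

variable [IsNoetherianRing A] [IsLocalRing A] [Ring.KrullDimLE 1 A]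

/-- The step: make `(u, u')` principal in a bigger finite extension. -/
theorem step (a₀ : A) (ha₀ : a₀ ∈ nonZeroDivisors A) (ha₀m : a₀ ∈ IsLocalRing.maximalIdeal A)
    (B : Subalgebra A (FractionRing A)) (hB : Module.Finite A B) (u u' : (FractionRing A)ˣ)
    (hu : (u : FractionRing A) ∈ B) (hu' : (u' : FractionRing A) ∈ B) :
    ∃ B₁ : Subalgebra A (FractionRing A), B ≤ B₁ ∧ Module.Finite A B₁ ∧
      ∃ t x' y' : (FractionRing A)ˣ, (t : FractionRing A) ∈ B₁ ∧ (x' : FractionRing A) ∈ B₁ ∧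
        (y' : FractionRing A) ∈ B₁ ∧ u = t * x' ∧ u' = t * y' ∧
        ∃ p ∈ B₁, ∃ q ∈ B₁, p * (x' : FractionRing A) + q * (y' : FractionRing A) = 1 := by
  obtain ⟨σ₁, α₁, hα₁⟩ := IsLocalization.exists_integer_multiple (nonZeroDivisors A)
    (u : FractionRing A)
  obtain ⟨σ₂, β₂, hβ₂⟩ := IsLocalization.exists_integer_multiple (nonZeroDivisors A)
    (u' : FractionRing A)
  obtain ⟨σ, hσdef⟩ : ∃ σ : A, σ = σ₁ * σ₂ * a₀ := ⟨_, rfl⟩
  have hσ : σ ∈ nonZeroDivisors A := by
    rw [hσdef]
    exact mul_mem (mul_mem σ₁.2 σ₂.2) ha₀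
  obtain ⟨α, hαdef⟩ : ∃ α : A, α = σ₂ * a₀ * α₁ := ⟨_, rfl⟩
  obtain ⟨β, hβdef⟩ : ∃ β : A, β = σ₁ * a₀ * β₂ := ⟨_, rfl⟩
  have hσu : IsUnit (algebraMap A (FractionRing A) σ) :=
    IsLocalization.map_units (FractionRing A) (⟨σ, hσ⟩ : nonZeroDivisors A)
  have hα : algebraMap A (FractionRing A) α = algebraMap A (FractionRing A) σ * u := by
    rw [hαdef, hσdef, map_mul, hα₁, Algebra.smul_def, map_mul, map_mul, map_mul]
    ring
  have hβ : algebraMap A (FractionRing A) β = algebraMap A (FractionRing A) σ * u' := by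
    rw [hβdef, hσdef, map_mul, hβ₂, Algebra.smul_def, map_mul, map_mul, map_mul]
    ring
  have hαn : α ∈ nonZeroDivisors A := by
    apply mem_nonZeroDivisors_of_isUnit_map
    rw [hα]
    exact hσu.mul u.isUnit
  have hβn : β ∈ nonZeroDivisors A := by
    apply mem_nonZeroDivisors_of_isUnit_map
    rw [hβ]
    exact hσu.mul u'.isUnit
  have hαm : α ∈ IsLocalRing.maximalIdeal A := by
    rw [hαdef]
    exact Ideal.mul_mem_right _ _ (Ideal.mul_mem_left _ _ ha₀m)
  obtain ⟨A₁, hfin, t, a', b', x, y, hta, htb, hxy, -, -⟩ := main α β hαn hβn hαm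
  obtain ⟨B₁, hBB₁, hA₁B₁, hB₁fin⟩ := exists_finite_sup B A₁ hB hfin
  have hta' : algebraMap A (FractionRing A) α = (t : FractionRing A) * a' :=
    congr_arg Subtype.val hta
  have htb' : algebraMap A (FractionRing A) β = (t : FractionRing A) * b' :=
    congr_arg Subtype.val htb
  have hxy' : (x : FractionRing A) * a' + (y : FractionRing A) * b' = 1 :=
    congr_arg Subtype.val hxy
  obtain ⟨t', ht'def⟩ : ∃ t' : FractionRing A, t' = (x : FractionRing A) * u + y * u' := ⟨_, rfl⟩
  have hσt' : algebraMap A (FractionRing A) σ * t' = t := by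
    calc algebraMap A (FractionRing A) σ * t'
        = (x : FractionRing A) * (algebraMap A (FractionRing A) σ * u) +
          y * (algebraMap A (FractionRing A) σ * u') := by rw [ht'def]; ring
      _ = (x : FractionRing A) * ((t : FractionRing A) * a') + y * ((t : FractionRing A) * b') := by
          rw [← hα, ← hβ, hta', htb']
      _ = (t : FractionRing A) * ((x : FractionRing A) * a' + (y : FractionRing A) * b') := by ring
      _ = t := by rw [hxy', mul_one]
  have hu1 : (u : FractionRing A) = t' * a' := by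
    have h1 : algebraMap A (FractionRing A) σ * u = algebraMap A (FractionRing A) σ * (t' * a') := by
      rw [← hα, hta', ← hσt', mul_assoc]
    exact hσu.mul_left_cancel h1
  have hu2 : (u' : FractionRing A) = t' * b' := by
    have h1 : algebraMap A (FractionRing A) σ * u' =
        algebraMap A (FractionRing A) σ * (t' * b') := by
      rw [← hβ, htb', ← hσt', mul_assoc]
    exact hσu.mul_left_cancel h1
  have hut' : IsUnit t' := by
    have : IsUnit (t' * (a' : FractionRing A)) := by rw [← hu1]; exact u.isUnit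
    exact isUnit_of_mul_isUnit_left this
  have hua' : IsUnit (a' : FractionRing A) := by
    have : IsUnit (t' * (a' : FractionRing A)) := by rw [← hu1]; exact u.isUnit
    exact isUnit_of_mul_isUnit_right this
  have hub' : IsUnit (b' : FractionRing A) := by
    have : IsUnit (t' * (b' : FractionRing A)) := by rw [← hu2]; exact u'.isUnit
    exact isUnit_of_mul_isUnit_right this
  have ht'mem : t' ∈ B₁ := by
    rw [ht'def]
    exact B₁.add_mem (B₁.mul_mem (hA₁B₁ x.2) (hBB₁ hu)) (B₁.mul_mem (hA₁B₁ y.2) (hBB₁ hu'))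
  refine ⟨B₁, hBB₁, hB₁fin, hut'.unit, hua'.unit, hub'.unit, ?_, ?_, ?_, ?_, ?_,
    x, hA₁B₁ x.2, y, hA₁B₁ y.2, ?_⟩
  · rw [IsUnit.unit_spec]; exact ht'mem
  · rw [IsUnit.unit_spec]; exact hA₁B₁ a'.2
  · rw [IsUnit.unit_spec]; exact hA₁B₁ b'.2
  · apply Units.ext
    rw [Units.val_mul, IsUnit.unit_spec, IsUnit.unit_spec]
    exact hu1
  · apply Units.ext
    rw [Units.val_mul, IsUnit.unit_spec, IsUnit.unit_spec]
    exact hu2
  · rw [IsUnit.unit_spec, IsUnit.unit_spec]
    exact hxy'

/-- The global Euclidean algorithm. -/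
theorem euclid (a₀ : A) (ha₀ : a₀ ∈ nonZeroDivisors A)
    (ha₀m : a₀ ∈ IsLocalRing.maximalIdeal A) :
    ∀ (n : ℕ) (B : Subalgebra A (FractionRing A)) (_ : Module.Finite A B)
      (S : Finset (FractionRing A)ˣ) (_ : ∀ u ∈ S, (u : FractionRing A) ∈ B),
      ∑ u ∈ S, ell B u = n →
      ∃ B' : Subalgebra A (FractionRing A), B ≤ B' ∧ Module.Finite A B' ∧
        ∃ S' : Finset (FractionRing A)ˣ, (∀ u ∈ S', (u : FractionRing A) ∈ B') ∧
          (∀ u ∈ S, u ∈ Submonoid.closure (S' : Set (FractionRing A)ˣ)) ∧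
          ∀ u ∈ S', ∀ u' ∈ S', u ≠ u' →
            ∃ p ∈ B', ∃ q ∈ B', p * (u : FractionRing A) + q * (u' : FractionRing A) = 1 := by
  classical
  intro n
  induction n using Nat.strong_induction_on with
  | _ n ih =>
    intro B hB S hS hsum
    by_cases hco : ∀ u ∈ S, ∀ u' ∈ S, u ≠ u' →
        ∃ p ∈ B, ∃ q ∈ B, p * (u : FractionRing A) + q * (u' : FractionRing A) = 1
    · exact ⟨B, le_rfl, hB, S, hS, fun u hu => Submonoid.subset_closure hu, hco⟩
    · push Not at hco
      obtain ⟨u, hu, u', hu', hne, hnc⟩ := hco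
      obtain ⟨B₁, hBB₁, hB₁, t, x', y', ht, hx', hy', hutx, huty, p, hp, q, hq, hpq⟩ :=
        step a₀ ha₀ ha₀m B hB u u' (hS u hu) (hS u' hu')
      -- t is not a unit of B₁
      have htinv : ((t⁻¹ : (FractionRing A)ˣ) : FractionRing A) ∉ B₁ := by
        intro hinv
        obtain ⟨p', hp', q', hq', hpq'⟩ := comaximal_descent_subalgebra hBB₁ hB₁
          (u : FractionRing A) (u' : FractionRing A) (hS u hu) (hS u' hu')
          ⟨p * ((t⁻¹ : (FractionRing A)ˣ) : FractionRing A), B₁.mul_mem hp hinv,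
            q * ((t⁻¹ : (FractionRing A)ˣ) : FractionRing A), B₁.mul_mem hq hinv, by
              rw [hutx, huty, Units.val_mul, Units.val_mul]
              calc p * ((t⁻¹ : (FractionRing A)ˣ) : FractionRing A) * ((t : FractionRing A) * x') +
                  q * ((t⁻¹ : (FractionRing A)ˣ) : FractionRing A) * ((t : FractionRing A) * y')
                  = (((t⁻¹ : (FractionRing A)ˣ) : FractionRing A) * t) *
                    (p * (x' : FractionRing A) + q * y') := by ring
                _ = 1 := by rw [Units.inv_mul, one_mul, hpq]⟩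
        exact hnc p' hp' q' hq' hpq'
      have hpos := one_le_ell B₁ hB₁ t htinv
      let S₀ := (S.erase u).erase u'
      let S₁ := S₀ ∪ (({t} : Finset (FractionRing A)ˣ) ∪ ({x'} ∪ {y'}))
      have hS₀S : ∀ v ∈ S₀, v ∈ S := fun v hv =>
        Finset.mem_of_mem_erase (Finset.mem_of_mem_erase hv)
      have hS₁ : ∀ v ∈ S₁, (v : FractionRing A) ∈ B₁ := by
        intro v hv
        simp only [S₁, Finset.mem_union, Finset.mem_singleton] at hv
        rcases hv with hv | rfl | rfl | rfl
        · exact hBB₁ (hS v (hS₀S v hv))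
        · exact ht
        · exact hx'
        · exact hy'
      have hb1 : ∑ v ∈ S₁, ell B₁ v ≤
          ∑ v ∈ S₀, ell B₁ v + (ell B₁ t + (ell B₁ x' + ell B₁ y')) := by
        refine (sum_union_le' _ _ _).trans (Nat.add_le_add_left ?_ _)
        refine (sum_union_le' _ _ _).trans ?_
        rw [Finset.sum_singleton]
        refine Nat.add_le_add_left ?_ _
        refine (sum_union_le' _ _ _).trans ?_
        rw [Finset.sum_singleton, Finset.sum_singleton]
      have hb2 : ∑ v ∈ S₀, ell B₁ v = ∑ v ∈ S₀, ell B v :=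
        Finset.sum_congr rfl fun v hv => ell_eq_of_le hBB₁ hB hB₁ v (hS v (hS₀S v hv))
      have hu'mem : u' ∈ S.erase u := Finset.mem_erase.2 ⟨fun h => hne h.symm, hu'⟩
      have hb3 : ∑ v ∈ S, ell B v = ell B u + (ell B u' + ∑ v ∈ S₀, ell B v) := by
        rw [← Finset.add_sum_erase S _ hu, ← Finset.add_sum_erase (S.erase u) _ hu'mem]
      have hb4 : ell B u = ell B₁ t + ell B₁ x' := by
        rw [← ell_eq_of_le hBB₁ hB hB₁ u (hS u hu), hutx, ell_mul B₁ hB₁ t x' ht hx']
      have hb5 : ell B u' = ell B₁ t + ell B₁ y' := by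
        rw [← ell_eq_of_le hBB₁ hB hB₁ u' (hS u' hu'), huty, ell_mul B₁ hB₁ t y' ht hy']
      have hlt : ∑ v ∈ S₁, ell B₁ v < n := by omega
      obtain ⟨B', hB₁B', hB', S', hS', hcl, hco'⟩ := ih _ hlt B₁ hB₁ S₁ hS₁ rfl
      refine ⟨B', hBB₁.trans hB₁B', hB', S', hS', ?_, hco'⟩
      intro v hv
      have ht_cl : t ∈ Submonoid.closure (S' : Set (FractionRing A)ˣ) :=
        hcl t (by simp [S₁])
      have hx_cl : x' ∈ Submonoid.closure (S' : Set (FractionRing A)ˣ) :=
        hcl x' (by simp [S₁])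
      have hy_cl : y' ∈ Submonoid.closure (S' : Set (FractionRing A)ˣ) :=
        hcl y' (by simp [S₁])
      by_cases hvu : v = u
      · rw [hvu, hutx]; exact mul_mem ht_cl hx_cl
      by_cases hvu' : v = u'
      · rw [hvu', huty]; exact mul_mem ht_cl hy_cl
      · apply hcl
        simp only [S₁, S₀, Finset.mem_union, Finset.mem_erase]
        exact Or.inl ⟨hvu', hvu, hv⟩

end

/-- The local statement from pairwise comaximal monomial generators. -/
theorem local_factor (B' : Subalgebra A (FractionRing A)) (S' : Finset (FractionRing A)ˣ)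
    (hS' : ∀ u ∈ S', (u : FractionRing A) ∈ B')
    (hco : ∀ u ∈ S', ∀ u' ∈ S', u ≠ u' →
      ∃ p ∈ B', ∃ q ∈ B', p * (u : FractionRing A) + q * (u' : FractionRing A) = 1)
    (q : Ideal B') [q.IsPrime] :
    ∃ π : Localization.AtPrime q, π ∈ nonZeroDivisors (Localization.AtPrime q) ∧
      ∀ z : (FractionRing A)ˣ, z ∈ Submonoid.closure (S' : Set (FractionRing A)ˣ) →
        ∃ hz : (z : FractionRing A) ∈ B', ∃ (v : (Localization.AtPrime q)ˣ) (e : ℕ),
          algebraMap B' (Localization.AtPrime q) ⟨z, hz⟩ = (v : Localization.AtPrime q) * π ^ e := by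
  classical
  have hind : ∀ (π : Localization.AtPrime q),
      (∀ z ∈ S', ∃ hz : (z : FractionRing A) ∈ B', ∃ (v : (Localization.AtPrime q)ˣ) (e : ℕ),
        algebraMap B' (Localization.AtPrime q) ⟨z, hz⟩ = (v : Localization.AtPrime q) * π ^ e) →
      ∀ z : (FractionRing A)ˣ, z ∈ Submonoid.closure (S' : Set (FractionRing A)ˣ) →
        ∃ hz : (z : FractionRing A) ∈ B', ∃ (v : (Localization.AtPrime q)ˣ) (e : ℕ),
          algebraMap B' (Localization.AtPrime q) ⟨z, hz⟩ = (v : Localization.AtPrime q) * π ^ e := by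
    intro π hgen z hz
    induction hz using Submonoid.closure_induction with
    | mem z hz => exact hgen z hz
    | one =>
      refine ⟨B'.one_mem, 1, 0, ?_⟩
      have h1 : (⟨((1 : (FractionRing A)ˣ) : FractionRing A), B'.one_mem⟩ : B') = 1 := rfl
      rw [h1, map_one, pow_zero, mul_one]
      rfl
    | mul z z' _ _ hz hz' =>
      obtain ⟨h1, v, e, he⟩ := hz
      obtain ⟨h1', v', e', he'⟩ := hz'
      refine ⟨by rw [Units.val_mul]; exact B'.mul_mem h1 h1', v * v', e + e', ?_⟩
      have : (⟨((z * z' : (FractionRing A)ˣ) : FractionRing A),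
          by rw [Units.val_mul]; exact B'.mul_mem h1 h1'⟩ : B') = ⟨z, h1⟩ * ⟨z', h1'⟩ :=
        Subtype.ext (Units.val_mul z z')
      rw [this, map_mul, he, he', Units.val_mul, pow_add]
      ring
  by_cases h : ∃ s₀ ∈ S', ∃ hs : (s₀ : FractionRing A) ∈ B', (⟨s₀, hs⟩ : B') ∈ q
  · obtain ⟨s₀, hs₀, hs, hsq⟩ := h
    refine ⟨algebraMap B' (Localization.AtPrime q) ⟨s₀, hs⟩, ?_, ?_⟩
    · apply IsLocalization.map_nonZeroDivisors_le q.primeCompl (Localization.AtPrime q)
      refine Submonoid.mem_map_of_mem _ ?_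
      rw [mem_nonZeroDivisors_iff_right]
      intro z hz
      apply Subtype.ext
      have h1 : (z : FractionRing A) * s₀ = 0 := congr_arg Subtype.val hz
      exact (s₀.isUnit.mul_left_eq_zero).1 h1
    · apply hind
      intro z hz
      refine ⟨hS' z hz, ?_⟩
      by_cases hzs : z = s₀
      · subst hzs
        exact ⟨1, 1, by rw [Units.val_one, one_mul, pow_one]⟩
      · obtain ⟨p, hp, r, hr, hpr⟩ := hco z hz s₀ hs₀ hzs
        have hnot : (⟨z, hS' z hz⟩ : B') ∉ q := by
          intro hmem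
          apply (inferInstance : q.IsPrime).ne_top
          rw [Ideal.eq_top_iff_one]
          have : (1 : B') = ⟨p, hp⟩ * ⟨z, hS' z hz⟩ + ⟨r, hr⟩ * ⟨s₀, hs⟩ := Subtype.ext hpr.symm
          rw [this]
          exact q.add_mem (q.mul_mem_left _ hmem) (q.mul_mem_left _ hsq)
        have hunit : IsUnit (algebraMap B' (Localization.AtPrime q) ⟨z, hS' z hz⟩) :=
          IsLocalization.map_units (Localization.AtPrime q)
            (⟨⟨z, hS' z hz⟩, hnot⟩ : q.primeCompl)
        exact ⟨hunit.unit, 0, by rw [pow_zero, mul_one, IsUnit.unit_spec]⟩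
  · push Not at h
    refine ⟨1, one_mem _, ?_⟩
    apply hind
    intro z hz
    refine ⟨hS' z hz, ?_⟩
    have hnot : (⟨z, hS' z hz⟩ : B') ∉ q := h z hz (hS' z hz)
    have hunit : IsUnit (algebraMap B' (Localization.AtPrime q) ⟨z, hS' z hz⟩) :=
      IsLocalization.map_units (Localization.AtPrime q)
        (⟨⟨z, hS' z hz⟩, hnot⟩ : q.primeCompl)
    exact ⟨hunit.unit, 0, by rw [pow_zero, mul_one, IsUnit.unit_spec]⟩

end Groth.Agent.Lib.Helper86.ComFac
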