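import Mathlib

/-!
# η-étale maps and differentials: module-theoretic lemmas (helper86)
-/

set_option autoImplicit false
set_option linter.style.haveILetI false

universe u

namespace Groth.Agent.Lib.Helper86.EtaEt

open MvPolynomial KaehlerDifferential
open scoped TensorProduct

section SpanD

variable {V : Type u} [CommRing V] {R : Type u} [CommRing R] [Algebra V R] {d : ℕ}

/-- `D` of a polynomial expression in `x` lies in the span of the `D x_i`. -/
theorem D_aeval_mem_span (x : Fin d → R) (q : MvPolynomial (Fin d) V) :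
    D V R (aeval x q) ∈ Submodule.span R (Set.range fun i => D V R (x i)) := by
  induction q using MvPolynomial.induction_on with
  | C a =>
    rw [aeval_C, Derivation.map_algebraMap]
    exact zero_mem _
  | add p q hp hq =>
    rw [map_add, map_add]
    exact add_mem hp hq
  | mul_X p i hp =>
    rw [map_mul, aeval_X, Derivation.leibniz]
    exact add_mem (Submodule.smul_mem _ _ (Submodule.subset_span ⟨i, rfl⟩))
      (Submodule.smul_mem _ _ hp)

variable [Algebra (MvPolynomial (Fin d) V) R] [IsScalarTower V (MvPolynomial (Fin d) V) R]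

theorem algebraMap_eq_aeval (x : Fin d → R)
    (hx : ∀ i, algebraMap (MvPolynomial (Fin d) V) R (X i) = x i) (q : MvPolynomial (Fin d) V) :
    algebraMap (MvPolynomial (Fin d) V) R q = aeval x q := by
  have : IsScalarTower.toAlgHom V (MvPolynomial (Fin d) V) R = aeval x := by
    apply MvPolynomial.algHom_ext
    intro i
    rw [aeval_X]
    exact hx i
  exact congrArg (fun f => f q) this

theorem range_mapBaseChange_le_span (x : Fin d → R)
    (hx : ∀ i, algebraMap (MvPolynomial (Fin d) V) R (X i) = x i) :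
    LinearMap.range (mapBaseChange V (MvPolynomial (Fin d) V) R) ≤
      Submodule.span R (Set.range fun i => D V R (x i)) := by
  rintro _ ⟨t, rfl⟩
  induction t using TensorProduct.induction_on with
  | zero => simp
  | tmul r ω =>
    rw [mapBaseChange_tmul]
    apply Submodule.smul_mem
    have hω : ω ∈ Submodule.span (MvPolynomial (Fin d) V)
        (Set.range (D V (MvPolynomial (Fin d) V))) := by
      rw [span_range_derivation]; trivial
    induction hω using Submodule.span_induction with
    | mem ω hω =>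
      obtain ⟨q, rfl⟩ := hω
      rw [map_D, algebraMap_eq_aeval x hx]
      exact D_aeval_mem_span x q
    | zero => simp
    | add a b _ _ ha hb =>
      rw [map_add]
      exact add_mem ha hb
    | smul a ω _ hω =>
      rw [map_smul]
      have := Submodule.smul_mem _ (algebraMap (MvPolynomial (Fin d) V) R a) hω
      rwa [algebraMap_smul] at this
  | add a b ha hb =>
    rw [map_add]
    exact add_mem ha hb

end SpanD

section Module

variable {R : Type*} [CommRing R] {M : Type*} [AddCommGroup M] [Module R M]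

theorem exists_of_mem_span_singleton_smul (r : R) (x : M)
    (hx : x ∈ Ideal.span {r} • (⊤ : Submodule R M)) : ∃ y : M, x = r • y := by
  refine Submodule.smul_induction_on hx ?_ ?_
  · intro r' hr' n _
    obtain ⟨c, rfl⟩ := Ideal.mem_span_singleton'.mp hr'
    exact ⟨c • n, by rw [smul_smul, mul_comm]⟩
  · rintro x y ⟨x', rfl⟩ ⟨y', rfl⟩
    exact ⟨x' + y', by rw [smul_add]⟩

theorem omega_condition_of_pow (D' : Submodule R M) (a π c P : R) (m : ℕ) (hcop : IsCoprime a π)
    (hp : P = π * c) (h : ∀ ω : M, (a * π) ^ m • ω ∈ D') :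
    Ideal.span {P ^ m} • (⊤ : Submodule R M) ≤ Ideal.span {π * P ^ m} • ⊤ ⊔ D' := by
  rw [Submodule.smul_le]
  intro r hr ω _
  obtain ⟨c', rfl⟩ := Ideal.mem_span_singleton'.mp hr
  obtain ⟨u, v, huv⟩ := (hcop.pow_left (m := m))
  have key : (c' * P ^ m) • ω =
      (π * P ^ m) • ((v * c') • ω) + (a * π) ^ m • ((u * c ^ m * c') • ω) := by
    rw [smul_smul, smul_smul, ← add_smul]
    congr 1
    have : c' * P ^ m = c' * P ^ m * (u * a ^ m + v * π) := by rw [huv, mul_one]
    rw [this, hp]
    ring
  rw [key]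
  exact Submodule.add_mem_sup
    (Submodule.smul_mem_smul (Ideal.mem_span_singleton_self _) Submodule.mem_top) (h _)

theorem exists_unit_mod_smul_mem (D : Submodule R M) [Module.Finite R M] (π P : R) (n : ℕ)
    (h : Ideal.span {P ^ n} • (⊤ : Submodule R M) ≤ Ideal.span {π * P ^ n} • ⊤ ⊔ D) :
    ∃ a₀ : R, a₀ - 1 ∈ Ideal.span {π} ∧ ∀ ω : M, (a₀ * P ^ n) • ω ∈ D := by
  set N : Submodule R (M ⧸ D) := (⊤ : Submodule R (M ⧸ D)).map (LinearMap.lsmul R (M ⧸ D) (P ^ n))
    with hN
  have hfg : N.FG := (Module.Finite.fg_top (R := R) (M := M ⧸ D)).map _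
  have hle : N ≤ Ideal.span {π} • N := by
    rintro _ ⟨q, -, rfl⟩
    obtain ⟨ω, rfl⟩ := Submodule.Quotient.mk_surjective D q
    have h1 : P ^ n • ω ∈ Ideal.span {π * P ^ n} • (⊤ : Submodule R M) ⊔ D :=
      h (Submodule.smul_mem_smul (Ideal.mem_span_singleton_self _) Submodule.mem_top)
    obtain ⟨t, ht, δ, hδ, htδ⟩ := Submodule.mem_sup.mp h1
    obtain ⟨ω', rfl⟩ := exists_of_mem_span_singleton_smul _ _ ht
    have h2 : (LinearMap.lsmul R (M ⧸ D) (P ^ n)) (Submodule.Quotient.mk ω) =
        π • ((LinearMap.lsmul R (M ⧸ D) (P ^ n)) (Submodule.Quotient.mk ω')) := by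
      simp only [LinearMap.lsmul_apply]
      rw [← Submodule.Quotient.mk_smul, ← htδ, Submodule.Quotient.mk_add,
        (Submodule.Quotient.mk_eq_zero D).mpr hδ, add_zero, ← Submodule.Quotient.mk_smul,
        ← Submodule.Quotient.mk_smul, smul_smul]
    rw [h2]
    exact Submodule.smul_mem_smul (Ideal.mem_span_singleton_self _)
      ⟨_, Submodule.mem_top, rfl⟩
  obtain ⟨r, hr, hr0⟩ :=
    Submodule.exists_sub_one_mem_and_smul_eq_zero_of_fg_of_le_smul _ N hfg hle
  refine ⟨r, hr, fun ω => ?_⟩
  have := hr0 ((LinearMap.lsmul R (M ⧸ D) (P ^ n)) (Submodule.Quotient.mk ω))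
    ⟨_, Submodule.mem_top, rfl⟩
  simp only [LinearMap.lsmul_apply] at this
  rw [← Submodule.Quotient.mk_smul, ← Submodule.Quotient.mk_smul, smul_smul,
    Submodule.Quotient.mk_eq_zero] at this
  exact this

end Module

section A1

variable {V : Type u} [CommRing V] {R : Type u} [CommRing R] [Algebra V R] {d : ℕ}

theorem exists_pow_smul_mem_span {T : Type u} [CommRing T] [Algebra R T] (s : R)
    [IsLocalization.Away s T] [Module.Finite R Ω[R⁄V]] (x : Fin d → R)
    (het : ((algebraMap R T).comp
      (aeval x : MvPolynomial (Fin d) V →ₐ[V] R).toRingHom).FormallyUnramified) :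
    ∃ m : ℕ, ∀ ω : Ω[R⁄V], s ^ m • ω ∈ Submodule.span R (Set.range fun i => D V R (x i)) := by
  classical
  letI algPR : Algebra (MvPolynomial (Fin d) V) R :=
    (aeval x : MvPolynomial (Fin d) V →ₐ[V] R).toRingHom.toAlgebra
  haveI : IsScalarTower V (MvPolynomial (Fin d) V) R :=
    IsScalarTower.of_algebraMap_eq (fun a =>
      ((aeval x : MvPolynomial (Fin d) V →ₐ[V] R).commutes a).symm)
  letI algPT : Algebra (MvPolynomial (Fin d) V) T :=
    ((algebraMap R T).comp (aeval x : MvPolynomial (Fin d) V →ₐ[V] R).toRingHom).toAlgebra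
  haveI : IsScalarTower (MvPolynomial (Fin d) V) R T := IsScalarTower.of_algebraMap_eq' rfl
  haveI : Algebra.FormallyUnramified (MvPolynomial (Fin d) V) T := het
  have hx : ∀ i, algebraMap (MvPolynomial (Fin d) V) R (X i) = x i := fun i => by
    show aeval x (X i) = x i
    rw [aeval_X]
  have key : ∀ ω : Ω[R⁄V], ∃ m : ℕ,
      s ^ m • ω ∈ Submodule.span R (Set.range fun i => D V R (x i)) := by
    intro ω
    have h0 : KaehlerDifferential.map (MvPolynomial (Fin d) V) (MvPolynomial (Fin d) V) R T
        (KaehlerDifferential.map V (MvPolynomial (Fin d) V) R R ω) =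
        KaehlerDifferential.map (MvPolynomial (Fin d) V) (MvPolynomial (Fin d) V) R T 0 :=
      Subsingleton.elim _ _
    obtain ⟨c, hc⟩ := IsLocalizedModule.exists_of_eq (S := Submonoid.powers s)
      (f := KaehlerDifferential.map (MvPolynomial (Fin d) V) (MvPolynomial (Fin d) V) R T) h0
    obtain ⟨c, m, rfl⟩ := c
    refine ⟨m, ?_⟩
    apply range_mapBaseChange_le_span x hx
    rw [range_mapBaseChange, LinearMap.mem_ker, map_smul]
    rw [smul_zero] at hc
    exact hc
  choose m hm using key
  obtain ⟨G, hG⟩ := Module.Finite.fg_top (R := R) (M := Ω[R⁄V])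
  refine ⟨G.sup m, fun ω => ?_⟩
  have hω : ω ∈ Submodule.span R (G : Set Ω[R⁄V]) := hG ▸ Submodule.mem_top
  induction hω using Submodule.span_induction with
  | mem g hg =>
    have hle : m g ≤ G.sup m := Finset.le_sup (f := m) hg
    have : s ^ G.sup m • g = s ^ (G.sup m - m g) • (s ^ m g • g) := by
      rw [smul_smul, ← pow_add, Nat.sub_add_cancel hle]
    rw [this]
    exact Submodule.smul_mem _ _ (hm g)
  | zero => rw [smul_zero]; exact zero_mem _
  | add a b _ _ ha hb => rw [smul_add]; exact add_mem ha hb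
  | smul a ω _ hω =>
    rw [smul_comm]
    exact Submodule.smul_mem _ _ hω

end A1

end Groth.Agent.Lib.Helper86.EtaEt
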