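import Mathlib

/-!
# Formally étale maps from polynomial rings via differentials (helper86)
-/

set_option autoImplicit false
set_option linter.style.haveILetI false

universe u

namespace Groth.Agent.Lib.Helper86.EtaEt

open MvPolynomial KaehlerDifferential
open scoped TensorProduct

section Core

variable {V : Type u} [CommRing V] {T : Type u} [CommRing T] [Algebra V T] {d : ℕ}

/-- If `V[X_1..X_d] → T` is formally étale then `T` is formally smooth over `V` and
`Ω[T/V]` has a basis of size `d`. -/
theorem smooth_basis_of_formallyEtale (x' : Fin d → T)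
    (h' : (aeval x' : MvPolynomial (Fin d) V →ₐ[V] T).toRingHom.FormallyEtale) :
    Algebra.FormallySmooth V T ∧ Nonempty (Module.Basis (Fin d) T Ω[T⁄V]) := by
  letI algP : Algebra (MvPolynomial (Fin d) V) T :=
    (aeval x' : MvPolynomial (Fin d) V →ₐ[V] T).toRingHom.toAlgebra
  haveI : IsScalarTower V (MvPolynomial (Fin d) V) T :=
    IsScalarTower.of_algebraMap_eq (fun a =>
      ((aeval x' : MvPolynomial (Fin d) V →ₐ[V] T).commutes a).symm)
  haveI : Algebra.FormallyEtale (MvPolynomial (Fin d) V) T := h'
  haveI : Algebra.FormallySmooth V T := Algebra.FormallySmooth.comp V (MvPolynomial (Fin d) V) T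
  exact ⟨inferInstance, ⟨((mvPolynomialBasis V (Fin d)).baseChange T).map
    (tensorKaehlerEquivOfFormallyEtale V (MvPolynomial (Fin d) V) T)⟩⟩

theorem formallyEtale_of_span (x : Fin d → T) [Algebra.FormallySmooth V T]
    (b : Module.Basis (Fin d) T Ω[T⁄V])
    (hspan : Submodule.span T (Set.range fun i => D V T (x i)) = ⊤) :
    (aeval x : MvPolynomial (Fin d) V →ₐ[V] T).toRingHom.FormallyEtale := by
  letI algP : Algebra (MvPolynomial (Fin d) V) T :=
    (aeval x : MvPolynomial (Fin d) V →ₐ[V] T).toRingHom.toAlgebra
  haveI : IsScalarTower V (MvPolynomial (Fin d) V) T :=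
    IsScalarTower.of_algebraMap_eq (fun a =>
      ((aeval x : MvPolynomial (Fin d) V →ₐ[V] T).commutes a).symm)
  show Algebra.FormallyEtale (MvPolynomial (Fin d) V) T
  have hmbc : ∀ i, mapBaseChange V (MvPolynomial (Fin d) V) T
      (((mvPolynomialBasis V (Fin d)).baseChange T) i) = D V T (x i) := by
    intro i
    rw [Module.Basis.baseChange_apply, mvPolynomialBasis_apply, mapBaseChange_tmul, one_smul,
      map_D]
    congr 1
    exact aeval_X x i
  have hsurj : Function.Surjective (mapBaseChange V (MvPolynomial (Fin d) V) T) := by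
    rw [← LinearMap.range_eq_top, eq_top_iff, ← hspan, Submodule.span_le]
    rintro _ ⟨i, rfl⟩
    exact ⟨_, hmbc i⟩
  have hinj : Function.Injective (mapBaseChange V (MvPolynomial (Fin d) V) T) := by
    rcases subsingleton_or_nontrivial T with hT | hT
    · haveI : Subsingleton (T ⊗[MvPolynomial (Fin d) V] Ω[MvPolynomial (Fin d) V⁄V]) :=
        Module.subsingleton T _
      exact Function.injective_of_subsingleton _
    · have hli : LinearIndependent T (fun i => D V T (x i)) :=
        linearIndependent_of_top_le_span_of_card_eq_finrank (le_of_eq hspan.symm)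
          (by rw [Module.finrank_eq_card_basis b])
      rw [injective_iff_map_eq_zero]
      intro t ht
      have hrepr := ((mvPolynomialBasis V (Fin d)).baseChange T).sum_repr t
      rw [← hrepr] at ht ⊢
      rw [map_sum] at ht
      simp_rw [map_smul, hmbc] at ht
      have hc := Fintype.linearIndependent_iff.mp hli _ ht
      exact Finset.sum_eq_zero (fun i _ => by rw [hc i, zero_smul])
  haveI : Algebra.FormallyUnramified (MvPolynomial (Fin d) V) T := by
    refine ⟨⟨fun a b => ?_⟩⟩
    have h0 : ∀ c : Ω[T⁄MvPolynomial (Fin d) V], c = 0 := by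
      intro c
      obtain ⟨y, rfl⟩ := KaehlerDifferential.map_surjective V (MvPolynomial (Fin d) V) T c
      exact (exact_mapBaseChange_map V (MvPolynomial (Fin d) V) T y).mpr (hsurj y)
    rw [h0 a, h0 b]
  haveI : Algebra.FormallySmooth (MvPolynomial (Fin d) V) T := by
    refine ⟨Module.Projective.of_free, ⟨fun a b => ?_⟩⟩
    have h0 : ∀ h : Algebra.H1Cotangent (MvPolynomial (Fin d) V) T, h = 0 := by
      intro h
      have h1 : Algebra.H1Cotangent.δ V (MvPolynomial (Fin d) V) T h = 0 := by
        apply hinj
        rw [map_zero]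
        exact (Algebra.H1Cotangent.exact_δ_mapBaseChange V (MvPolynomial (Fin d) V) T _).mpr
          ⟨h, rfl⟩
      obtain ⟨h₀, rfl⟩ :=
        (Algebra.H1Cotangent.exact_map_δ V (MvPolynomial (Fin d) V) T h).mp h1
      rw [Subsingleton.elim h₀ 0, map_zero]
    rw [h0 a, h0 b]
  exact Algebra.FormallyEtale.of_formallyUnramified_and_formallySmooth

end Core

end Groth.Agent.Lib.Helper86.EtaEt
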