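import Groth.Agent.Lib.Helper86.EtaEt2

/-!
# From the differential condition back to an étale localisation (helper86)
-/

set_option autoImplicit false
set_option linter.style.haveILetI false

universe u

namespace Groth.Agent.Lib.Helper86.EtaEt

open MvPolynomial KaehlerDifferential
open scoped TensorProduct

section EtaleCore

variable {V : Type u} [CommRing V] {R : Type u} [CommRing R] [Algebra V R] {d : ℕ}
  {T : Type u} [CommRing T] [Algebra R T] [Algebra V T] [IsScalarTower V R T]

theorem comp_aeval_eq (x : Fin d → R) :
    (algebraMap R T).comp (aeval x : MvPolynomial (Fin d) V →ₐ[V] R).toRingHom =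
      (aeval (fun i => algebraMap R T (x i)) : MvPolynomial (Fin d) V →ₐ[V] T).toRingHom := by
  apply MvPolynomial.ringHom_ext
  · intro a
    simp only [RingHom.comp_apply, AlgHom.toRingHom_eq_coe, RingHom.coe_coe, aeval_C]
    rw [← IsScalarTower.algebraMap_apply]
  · intro i
    simp only [RingHom.comp_apply, AlgHom.toRingHom_eq_coe, RingHom.coe_coe, aeval_X]

theorem formallyEtale_core (s : R) [IsLocalization.Away s T] (x' x : Fin d → R)
    (h1 : ((algebraMap R T).comp
      (aeval x' : MvPolynomial (Fin d) V →ₐ[V] R).toRingHom).FormallyEtale)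
    (hcond : ∀ ω : Ω[R⁄V], ∃ c : R, IsUnit (algebraMap R T c) ∧
      c • ω ∈ Submodule.span R (Set.range fun i => D V R (x i))) :
    ((algebraMap R T).comp
      (aeval x : MvPolynomial (Fin d) V →ₐ[V] R).toRingHom).FormallyEtale := by
  rw [comp_aeval_eq] at h1 ⊢
  obtain ⟨hsm, ⟨b⟩⟩ := smooth_basis_of_formallyEtale _ h1
  refine formallyEtale_of_span _ b ?_
  rw [eq_top_iff, ← span_range_map_derivation_of_isLocalization V R T (Submonoid.powers s),
    Submodule.span_le]
  rintro _ ⟨r, rfl⟩
  obtain ⟨c, hc, hmem⟩ := hcond (D V R r)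
  have h2 : ∀ ω ∈ Submodule.span R (Set.range fun i => D V R (x i)),
      KaehlerDifferential.map V V R T ω ∈
        Submodule.span T (Set.range fun i => D V T (algebraMap R T (x i))) := by
    intro ω hω
    induction hω using Submodule.span_induction with
    | mem ω hω =>
      obtain ⟨i, rfl⟩ := hω
      rw [map_D]
      exact Submodule.subset_span ⟨i, rfl⟩
    | zero => rw [map_zero]; exact zero_mem _
    | add a b _ _ ha hb => rw [map_add]; exact add_mem ha hb
    | smul a ω _ hω =>
      rw [map_smul]
      have := Submodule.smul_mem _ (algebraMap R T a) hω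
      rwa [algebraMap_smul] at this
  have h3 := h2 _ hmem
  rw [map_smul, ← algebraMap_smul T c] at h3
  exact (Submodule.smul_mem_iff_of_isUnit _ hc).mp h3

end EtaleCore

section Assemble

variable {V : Type u} [CommRing V] [IsNoetherianRing V] {R : Type u} [CommRing R] [Algebra V R]
  [Algebra.FiniteType V R] {d : ℕ}

theorem etale_of_formallyEtale_away (s : R) {T : Type u} [CommRing T] [Algebra R T]
    [IsLocalization.Away s T] (g : MvPolynomial (Fin d) V →ₐ[V] R)
    (h : ((algebraMap R T).comp g.toRingHom).FormallyEtale) :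
    ((algebraMap R T).comp g.toRingHom).Etale := by
  have hfp : ((algebraMap R T).comp g.toRingHom).FinitePresentation := by
    rw [← RingHom.FinitePresentation.of_finiteType]
    have h1 : (((algebraMap R T).comp g.toRingHom).comp
        (algebraMap V (MvPolynomial (Fin d) V))).FiniteType := by
      have h2 : ((algebraMap R T).comp g.toRingHom).comp
          (algebraMap V (MvPolynomial (Fin d) V)) = (algebraMap R T).comp (algebraMap V R) := by
        ext a
        simp
      rw [h2]
      haveI : Algebra.FinitePresentation R T := IsLocalization.Away.finitePresentation s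
      haveI : Algebra.FiniteType R T := Algebra.FiniteType.of_finitePresentation
      exact RingHom.FiniteType.comp (RingHom.finiteType_algebraMap.mpr inferInstance)
        (RingHom.finiteType_algebraMap.mpr inferInstance)
    exact h1.of_comp_finiteType
  exact @Algebra.Etale.mk _ _ _ _ ((algebraMap R T).comp g.toRingHom).toAlgebra h hfp

theorem etale_assemble (x' x : Fin d → R) (a' a₀ ϖR Pp : R) (n : ℕ)
    (hx' : ((algebraMap R (Localization.Away (a' * ϖR))).comp
      (aeval x' : MvPolynomial (Fin d) V →ₐ[V] R).toRingHom).Etale)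
    (hP : ∃ c : R, ∃ e : ℕ, Pp * c = ϖR ^ e)
    (hcond : ∀ ω : Ω[R⁄V], (a₀ * Pp ^ n) • ω ∈
      Submodule.span R (Set.range fun i => D V R (x i))) :
    ((algebraMap R (Localization.Away ((a₀ * a') * ϖR))).comp
      (aeval x : MvPolynomial (Fin d) V →ₐ[V] R).toRingHom).Etale := by
  haveI hloc : IsLocalization.Away (a₀ * (a' * ϖR))
      (Localization.Away (algebraMap R (Localization.Away (a' * ϖR)) a₀)) := inferInstance
  have heq : a₀ * (a' * ϖR) = (a₀ * a') * ϖR := (mul_assoc _ _ _).symm
  have hsunit : IsUnit (algebraMap R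
      (Localization.Away (algebraMap R (Localization.Away (a' * ϖR)) a₀)) (a₀ * (a' * ϖR))) :=
    IsLocalization.Away.algebraMap_isUnit _
  have h1 : ((algebraMap R (Localization.Away (algebraMap R (Localization.Away (a' * ϖR)) a₀))).comp
      (aeval x' : MvPolynomial (Fin d) V →ₐ[V] R).toRingHom).FormallyEtale := by
    rw [IsScalarTower.algebraMap_eq R (Localization.Away (a' * ϖR))
      (Localization.Away (algebraMap R (Localization.Away (a' * ϖR)) a₀)), RingHom.comp_assoc]
    refine RingHom.FormallyEtale.comp ?_ ?_
    · exact (RingHom.Etale.toAlgebra hx').formallyEtale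
    · exact RingHom.formallyEtale_algebraMap.mpr
        (Algebra.FormallyEtale.of_isLocalization
          (Rₘ := Localization.Away (algebraMap R (Localization.Away (a' * ϖR)) a₀))
          (Submonoid.powers (algebraMap R (Localization.Away (a' * ϖR)) a₀)))
  have hua : IsUnit (algebraMap R
      (Localization.Away (algebraMap R (Localization.Away (a' * ϖR)) a₀)) a₀) :=
    isUnit_of_dvd_unit (map_dvd _ (Dvd.intro _ rfl)) hsunit
  have huϖ : IsUnit (algebraMap R
      (Localization.Away (algebraMap R (Localization.Away (a' * ϖR)) a₀)) ϖR) :=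
    isUnit_of_dvd_unit (map_dvd _ ⟨a₀ * a', by ring⟩) hsunit
  have huP : IsUnit (algebraMap R
      (Localization.Away (algebraMap R (Localization.Away (a' * ϖR)) a₀)) Pp) := by
    obtain ⟨c, e, hce⟩ := hP
    refine isUnit_of_dvd_unit (map_dvd _ (Dvd.intro c hce)) ?_
    rw [map_pow]
    exact huϖ.pow e
  have h2 := formallyEtale_core
    (T := Localization.Away (algebraMap R (Localization.Away (a' * ϖR)) a₀))
    (a₀ * (a' * ϖR)) x' x h1
    (fun ω => ⟨a₀ * Pp ^ n, by rw [map_mul, map_pow]; exact hua.mul (huP.pow n), hcond ω⟩)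
  have h3 := etale_of_formallyEtale_away (a₀ * (a' * ϖR))
    (T := Localization.Away (algebraMap R (Localization.Away (a' * ϖR)) a₀)) (aeval x) h2
  haveI hloc' : IsLocalization (Submonoid.powers ((a₀ * a') * ϖR))
      (Localization.Away (algebraMap R (Localization.Away (a' * ϖR)) a₀)) := heq ▸ hloc
  let e : Localization.Away (algebraMap R (Localization.Away (a' * ϖR)) a₀) ≃ₐ[R]
      Localization.Away ((a₀ * a') * ϖR) :=
    IsLocalization.algEquiv (Submonoid.powers ((a₀ * a') * ϖR)) _ _
  have h4 : (algebraMap R (Localization.Away ((a₀ * a') * ϖR))).comp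
      (aeval x : MvPolynomial (Fin d) V →ₐ[V] R).toRingHom =
      (e : Localization.Away (algebraMap R (Localization.Away (a' * ϖR)) a₀) ≃+*
        Localization.Away ((a₀ * a') * ϖR)).toRingHom.comp
      ((algebraMap R (Localization.Away (algebraMap R (Localization.Away (a' * ϖR)) a₀))).comp
        (aeval x : MvPolynomial (Fin d) V →ₐ[V] R).toRingHom) := by
    ext q
    · simp
    · simp
  rw [h4]
  exact RingHom.Etale.respectsIso.1 _ _ h3

end Assemble

end Groth.Agent.Lib.Helper86.EtaEt
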