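import Mathlib

/-!
# Algebraic dependence on the closed fibre from the generic fibre (flat algebras over a DVR)
(helper86)
-/

set_option autoImplicit false
set_option linter.style.haveILetI false

universe u

namespace Groth.Agent.Lib.Helper86.EtaEt

open MvPolynomial
open scoped TensorProduct

section DepResidue

variable (V : Type u) [CommRing V] [IsDomain V] [IsDiscreteValuationRing V] (R : Type u)
  [CommRing R] [Algebra V R] [Module.Flat V R] {n : ℕ}

attribute [local instance] MvPolynomial.algebraMvPolynomial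

omit [IsDomain V] [IsDiscreteValuationRing V] in
theorem includeRight_frac_injective [IsDomain V] :
    Function.Injective (Algebra.TensorProduct.includeRight :
      R →ₐ[V] FractionRing V ⊗[V] R) :=
  Algebra.TensorProduct.includeRight_injective (IsFractionRing.injective V (FractionRing V))

theorem eq_zero_of_smul_eq_zero (a : V) (ha : a ≠ 0) (r : R) (h : a • r = 0) : r = 0 := by
  apply includeRight_frac_injective V R
  rw [map_zero]
  have h1 : (algebraMap V (FractionRing V) a) •
      (Algebra.TensorProduct.includeRight (R := V) (A := FractionRing V) (B := R) r) = 0 := by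
    rw [algebraMap_smul, ← map_smul, h, map_zero]
  rcases smul_eq_zero.mp h1 with h2 | h2
  · exact absurd ((map_eq_zero_iff _ (IsFractionRing.injective V (FractionRing V))).mp h2) ha
  · exact h2

/-- a nonzero integral polynomial relation from a relation over the fraction field -/
theorem exists_integral_relation (z : Fin n → R)
    (G : MvPolynomial (Fin n) (FractionRing V)) (hG : G ≠ 0)
    (hG0 : aeval (fun i => (1 : FractionRing V) ⊗ₜ[V] z i) G = 0) :
    ∃ F : MvPolynomial (Fin n) V, F ≠ 0 ∧ aeval z F = 0 := by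
  obtain ⟨⟨F₀, ⟨m, hm⟩⟩, hF₀⟩ := IsLocalization.surj
    ((nonZeroDivisors V).map (C : V →+* MvPolynomial (Fin n) V)) G
  obtain ⟨b, hb, rfl⟩ := hm
  simp only [algebraMap_def] at hF₀
  refine ⟨F₀, ?_, ?_⟩
  · rintro rfl
    rw [map_zero, map_C] at hF₀
    rcases mul_eq_zero.mp hF₀ with h | h
    · exact hG h
    · rw [C_eq_zero, map_eq_zero_iff _ (IsFractionRing.injective V (FractionRing V))] at h
      exact nonZeroDivisors.ne_zero hb h
  · apply includeRight_frac_injective V R
    rw [map_zero]
    have h1 : Algebra.TensorProduct.includeRight (R := V) (A := FractionRing V) (B := R)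
        (aeval z F₀) = aeval (fun i => (1 : FractionRing V) ⊗ₜ[V] z i) F₀ :=
      MvPolynomial.comp_aeval_apply (R := V) (f := z)
        (Algebra.TensorProduct.includeRight (R := V) (A := FractionRing V) (B := R)) F₀
    rw [h1, ← aeval_map_algebraMap (FractionRing V), ← hF₀, map_mul, hG0, zero_mul]

theorem exists_relation_residue_ne_zero (z : Fin n → R)
    (F₀ : MvPolynomial (Fin n) V) (hF₀ : F₀ ≠ 0) (hF₀0 : aeval z F₀ = 0) :
    ∃ F : MvPolynomial (Fin n) V,
      MvPolynomial.map (algebraMap V (IsLocalRing.ResidueField V)) F ≠ 0 ∧ aeval z F = 0 := by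
  by_contra hcon
  push Not at hcon
  obtain ⟨ϖ, hϖ⟩ := IsDiscreteValuationRing.exists_irreducible V
  have hker : RingHom.ker (MvPolynomial.map (σ := Fin n)
      (algebraMap V (IsLocalRing.ResidueField V))) = Ideal.span {C ϖ} := by
    rw [MvPolynomial.ker_map, IsLocalRing.ResidueField.algebraMap_eq, IsLocalRing.ker_residue,
      hϖ.maximalIdeal_eq, Ideal.map_span, Set.image_singleton]
  have hJ : (Ideal.span {(C ϖ : MvPolynomial (Fin n) V)}) ≠ ⊤ := by
    rw [← hker]
    exact RingHom.ker_ne_top _
  have hmem : ∀ F : MvPolynomial (Fin n) V, aeval z F = 0 → F ∈ Ideal.span {(C ϖ : MvPolynomial (Fin n) V)} := by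
    intro F hF
    rw [← hker, RingHom.mem_ker]
    by_contra h
    exact hcon F h hF
  have hpow : ∀ m : ℕ, ∀ F : MvPolynomial (Fin n) V, aeval z F = 0 →
      F ∈ (Ideal.span {(C ϖ : MvPolynomial (Fin n) V)}) ^ m := by
    intro m
    induction m with
    | zero => intro F _; rw [pow_zero, Ideal.one_eq_top]; trivial
    | succ m ih =>
      intro F hF
      obtain ⟨F', rfl⟩ := Ideal.mem_span_singleton'.mp (hmem F hF)
      have hF' : aeval z F' = 0 := by
        rw [map_mul, aeval_C, mul_comm, ← Algebra.smul_def] at hF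
        exact eq_zero_of_smul_eq_zero V R ϖ hϖ.ne_zero _ hF
      rw [pow_succ]
      exact Ideal.mul_mem_mul (ih F' hF') (Ideal.mem_span_singleton_self _)
  have hbot := Ideal.iInf_pow_eq_bot_of_isDomain _ hJ
  have : F₀ ∈ (⨅ i : ℕ, (Ideal.span {(C ϖ : MvPolynomial (Fin n) V)}) ^ i) := by
    rw [Ideal.mem_iInf]
    exact fun m => hpow m F₀ hF₀0
  rw [hbot] at this
  exact hF₀ this

theorem dep_residue
    (depK : ∀ z : Fin n → FractionRing V ⊗[V] R,
      ∃ F : MvPolynomial (Fin n) (FractionRing V), F ≠ 0 ∧ aeval z F = 0)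
    (zb : Fin n → IsLocalRing.ResidueField V ⊗[V] R) :
    ∃ F : MvPolynomial (Fin n) (IsLocalRing.ResidueField V), F ≠ 0 ∧ aeval zb F = 0 := by
  have hsurj : Function.Surjective (Algebra.TensorProduct.includeRight :
      R →ₐ[V] IsLocalRing.ResidueField V ⊗[V] R) :=
    Algebra.TensorProduct.includeRight_surjective R (by
      rw [IsLocalRing.ResidueField.algebraMap_eq]
      exact IsLocalRing.residue_surjective)
  choose z hz using fun i => hsurj (zb i)
  obtain ⟨G, hG, hG0⟩ := depK (fun i => (1 : FractionRing V) ⊗ₜ[V] z i)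
  obtain ⟨F₀, hF₀, hF₀0⟩ := exists_integral_relation V R z G hG hG0
  obtain ⟨F, hF, hF0⟩ := exists_relation_residue_ne_zero V R z F₀ hF₀ hF₀0
  refine ⟨_, hF, ?_⟩
  rw [aeval_map_algebraMap (IsLocalRing.ResidueField V)]
  have h1 : Algebra.TensorProduct.includeRight (R := V) (A := IsLocalRing.ResidueField V)
      (B := R) (aeval z F) = aeval zb F := by
    have h2 := MvPolynomial.comp_aeval_apply (R := V) (f := z)
      (Algebra.TensorProduct.includeRight (R := V) (A := IsLocalRing.ResidueField V) (B := R)) F
    rw [h2]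
    congr 2
    funext i
    exact hz i
  rw [← h1, hF0, map_zero]

end DepResidue

end Groth.Agent.Lib.Helper86.EtaEt
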