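import Mathlib
import Groth.Agent.Lib.Helper11.IntegralDim

/-!
# Algebraic dependence of `d + 1` elements in a finite type algebra of dimension `≤ d` (helper86)
-/

set_option autoImplicit false
set_option linter.style.haveILetI false

namespace Groth.Agent.Lib.Helper86.RelNN

open MvPolynomial

/-- In a domain over a field which is algebraic over a subalgebra generated by `s ≤ d` elements,
`d + 1` elements are never algebraically independent. -/
theorem dep_domain {k : Type*} [Field k] {B : Type*} [CommRing B] [IsDomain B] [Algebra k B]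
    {s d : ℕ} (hsd : s ≤ d) (t : Fin s → B)
    [Algebra.IsAlgebraic (Algebra.adjoin k (Set.range t)) B] (z : Fin (d + 1) → B) :
    ¬ AlgebraicIndependent k z := by
  intro hz
  have h1 := hz.lift_cardinalMk_le_trdeg
  have h2 := Algebra.IsAlgebraic.trdeg_le_cardinalMk k (Set.range t)
  have h3 := Cardinal.mk_range_le_lift (f := t)
  rw [Cardinal.mk_fin, Cardinal.lift_natCast] at h1
  rw [Cardinal.mk_fin, Cardinal.lift_natCast] at h3
  have h4 : ((d + 1 : ℕ) : Cardinal) ≤ (s : ℕ) :=
    (h1.trans (Cardinal.lift_le.mpr h2)).trans h3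
  have := Nat.cast_le.mp h4
  omega

/-- integrality over an algebra hom gives integrality over its range -/
theorem isIntegral_range_of_isIntegralElem {k : Type*} [CommRing k] {P B : Type*} [CommRing P]
    [CommRing B] [Algebra k P] [Algebra k B] (φ : P →ₐ[k] B) (b : B)
    (hb : φ.toRingHom.IsIntegralElem b) : IsIntegral φ.range b := by
  obtain ⟨p, hpm, hp0⟩ := hb
  refine ⟨p.map φ.rangeRestrict.toRingHom, hpm.map _, ?_⟩
  rw [Polynomial.eval₂_map]
  exact hp0

theorem dep_dim {k : Type*} [Field k] {S : Type*} [CommRing S] [Algebra k S]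
    [Algebra.FiniteType k S] (d : ℕ) (hd : ringKrullDim S ≤ d) (z : Fin (d + 1) → S) :
    ∃ F : MvPolynomial (Fin (d + 1)) k, F ≠ 0 ∧ aeval z F = 0 := by
  classical
  rcases subsingleton_or_nontrivial S with hS | hS
  · exact ⟨1, one_ne_zero, Subsingleton.elim _ _⟩
  obtain ⟨s, g, hginj, hgint⟩ := exists_integral_inj_algHom_of_fg k S
  have hsd : s ≤ d := by
    letI : Algebra (MvPolynomial (Fin s) k) S := g.toRingHom.toAlgebra
    haveI : Algebra.IsIntegral (MvPolynomial (Fin s) k) S := ⟨hgint⟩
    have h1 := Groth.Agent.Lib.Helper11.IntegralDim.ringKrullDim_eq_of_isIntegral_of_injective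
      (R := MvPolynomial (Fin s) k) (S := S) hginj
    rw [MvPolynomial.ringKrullDim_of_isNoetherianRing, ringKrullDim_eq_zero_of_field,
      zero_add] at h1
    rw [h1] at hd
    simp only [Nat.card_eq_fintype_card, Fintype.card_fin] at hd
    exact_mod_cast hd
  haveI : IsNoetherianRing S := Algebra.FiniteType.isNoetherianRing k S
  have hmin : ∀ q ∈ minimalPrimes S, ∃ F : MvPolynomial (Fin (d + 1)) k,
      F ≠ 0 ∧ aeval z F ∈ q := by
    intro q hq
    haveI : q.IsPrime := hq.1.1
    by_contra hcon
    push Not at hcon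
    have hz : AlgebraicIndependent k (fun i => Ideal.Quotient.mkₐ k q (z i)) := by
      rw [algebraicIndependent_iff_injective_aeval, injective_iff_map_eq_zero]
      intro F hF
      by_contra hne
      apply hcon F hne
      rw [← Ideal.Quotient.eq_zero_iff_mem]
      have := MvPolynomial.comp_aeval_apply (R := k) (f := z) (Ideal.Quotient.mkₐ k q) F
      rw [← hF]
      exact this
    set φ : MvPolynomial (Fin s) k →ₐ[k] S ⧸ q := (Ideal.Quotient.mkₐ k q).comp g with hφ
    have hrange : Algebra.adjoin k (Set.range fun i => Ideal.Quotient.mkₐ k q (g (X i))) =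
        φ.range := by
      rw [Algebra.adjoin_range_eq_range_aeval]
      congr 1
      apply MvPolynomial.algHom_ext
      intro i
      simp [hφ]
    haveI : Algebra.IsAlgebraic
        (Algebra.adjoin k (Set.range fun i => Ideal.Quotient.mkₐ k q (g (X i)))) (S ⧸ q) := by
      rw [hrange]
      refine ⟨fun b => ?_⟩
      obtain ⟨c, rfl⟩ := Ideal.Quotient.mk_surjective b
      refine (isIntegral_range_of_isIntegralElem φ _ ?_).isAlgebraic
      obtain ⟨p, hpm, hp0⟩ := hgint c
      refine ⟨p, hpm, ?_⟩
      have := Polynomial.hom_eval₂ p g.toRingHom (Ideal.Quotient.mk q) c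
      rw [hp0, map_zero] at this
      exact this.symm
    exact dep_domain hsd (fun i => Ideal.Quotient.mkₐ k q (g (X i))) _ hz
  choose! Fq hFq0 hFq using hmin
  have hfin := minimalPrimes.finite_of_isNoetherianRing S
  set F : MvPolynomial (Fin (d + 1)) k := ∏ q ∈ hfin.toFinset, Fq q with hF
  have hF0 : F ≠ 0 := by
    rw [hF, Finset.prod_ne_zero_iff]
    intro q hq
    exact hFq0 q (hfin.mem_toFinset.mp hq)
  have hmem : aeval z F ∈ (⊥ : Ideal S).radical := by
    rw [← Ideal.sInf_minimalPrimes]
    rw [Ideal.mem_sInf]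
    intro q hq
    have hq' : q ∈ hfin.toFinset := hfin.mem_toFinset.mpr hq
    rw [hF, map_prod]
    exact Ideal.mem_of_dvd _ (Finset.dvd_prod_of_mem _ hq') (hFq q hq)
  obtain ⟨m, hm⟩ := hmem
  refine ⟨F ^ m, pow_ne_zero _ hF0, ?_⟩
  rw [map_pow]
  exact hm

end Groth.Agent.Lib.Helper86.RelNN
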