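import Groth.Agent.Lib.Helper86.KaehlerField
import Groth.Agent.Lib.Helper86.RelNN1

/-!
# Algebraic dependence of `d + 1` elements in a smooth algebra of relative dimension `d`
over a field of characteristic zero (helper86)
-/

set_option autoImplicit false
set_option linter.style.haveILetI false

universe u

namespace Groth.Agent.Lib.Helper86.EtaEt

open MvPolynomial KaehlerDifferential
open scoped TensorProduct

section MinimalPrimes

theorem dep_of_minimalPrimes {k : Type*} [Field k] {S : Type*} [CommRing S] [Algebra k S]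
    [IsNoetherianRing S] {n : ℕ} (z : Fin n → S)
    (hmin : ∀ q ∈ minimalPrimes S, ∃ F : MvPolynomial (Fin n) k, F ≠ 0 ∧ aeval z F ∈ q) :
    ∃ F : MvPolynomial (Fin n) k, F ≠ 0 ∧ aeval z F = 0 := by
  classical
  choose! Fq hFq0 hFq using hmin
  have hfin := minimalPrimes.finite_of_isNoetherianRing S
  set F : MvPolynomial (Fin n) k := ∏ q ∈ hfin.toFinset, Fq q with hF
  have hF0 : F ≠ 0 := by
    rw [hF, Finset.prod_ne_zero_iff]
    intro q hq
    exact hFq0 q (hfin.mem_toFinset.mp hq)
  have hmem : aeval z F ∈ (⊥ : Ideal S).radical := by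
    rw [← Ideal.sInf_minimalPrimes]
    rw [Ideal.mem_sInf]
    intro q hq
    have hq' : q ∈ hfin.toFinset := hfin.mem_toFinset.mpr hq
    rw [hF, map_prod]
    exact Ideal.mem_of_dvd _ (Finset.dvd_prod_of_mem _ hq') (hFq q hq)
  obtain ⟨m, hm⟩ := hmem
  refine ⟨F ^ m, pow_ne_zero _ hF0, ?_⟩
  rw [map_pow]
  exact hm

end MinimalPrimes

section RankBound

variable {K : Type u} [Field K] {S : Type u} [CommRing S] [Algebra K S]

/-- If `S_t` is standard smooth of relative dimension `d` over `K` and maps to a field `L` which is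
generated (as a field) by the image of `S`, then `Ω[L/K]` has rank at most `d`. -/
theorem rank_kaehler_le (d : ℕ) (St : Type u) [CommRing St] [Algebra K St]
    [Algebra.IsStandardSmoothOfRelativeDimension d K St]
    (L : Type u) [Field L] [Algebra K L] [Algebra St L] [IsScalarTower K St L]
    (hgen : Submodule.span L (Set.range (KaehlerDifferential.map K K St L)) = ⊤) :
    Module.rank L Ω[L⁄K] ≤ d := by
  haveI : Nontrivial St := RingHom.domain_nontrivial (algebraMap St L)
  haveI : Algebra.IsStandardSmooth K St :=
    Algebra.IsStandardSmoothOfRelativeDimension.isStandardSmooth d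
  have hrank := Algebra.IsStandardSmoothOfRelativeDimension.rank_kaehlerDifferential
    (R := K) (S := St) d
  let b := Module.Free.chooseBasis St Ω[St⁄K]
  have hcard : Cardinal.mk (Module.Free.ChooseBasisIndex St Ω[St⁄K]) = d := by
    rw [← Module.Free.rank_eq_card_chooseBasisIndex, hrank]
  have hspan : Submodule.span L (Set.range fun i => KaehlerDifferential.map K K St L (b i)) = ⊤ := by
    rw [eq_top_iff, ← hgen, Submodule.span_le]
    rintro _ ⟨ω, rfl⟩
    have hω : ω ∈ Submodule.span St (Set.range b) := by rw [b.span_eq]; trivial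
    induction hω using Submodule.span_induction with
    | mem ω hω =>
      obtain ⟨i, rfl⟩ := hω
      exact Submodule.subset_span ⟨i, rfl⟩
    | zero => rw [map_zero]; exact zero_mem _
    | add a b _ _ ha hb => rw [map_add]; exact add_mem ha hb
    | smul a ω _ hω =>
      rw [map_smul]
      have := Submodule.smul_mem _ (algebraMap St L a) hω
      rwa [algebraMap_smul] at this
  calc Module.rank L Ω[L⁄K] = Module.rank L (⊤ : Submodule L Ω[L⁄K]) := (rank_top L _).symm
    _ = Module.rank L (Submodule.span L
          (Set.range fun i => KaehlerDifferential.map K K St L (b i))) := by rw [hspan]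
    _ ≤ Cardinal.mk (Set.range fun i => KaehlerDifferential.map K K St L (b i)) := rank_span_le _
    _ ≤ Cardinal.mk (Module.Free.ChooseBasisIndex St Ω[St⁄K]) := Cardinal.mk_range_le
    _ = d := hcard

end RankBound

section DepSmooth

variable {K : Type u} [Field K] [CharZero K] {S : Type u} [CommRing S] [Algebra K S]
  [Algebra.FiniteType K S]

theorem dep_of_locally_standardSmooth (d : ℕ)
    (hloc : RingHom.Locally (RingHom.IsStandardSmoothOfRelativeDimension d) (algebraMap K S))
    (z : Fin (d + 1) → S) :
    ∃ F : MvPolynomial (Fin (d + 1)) K, F ≠ 0 ∧ aeval z F = 0 := by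
  haveI : IsNoetherianRing S := Algebra.FiniteType.isNoetherianRing K S
  apply dep_of_minimalPrimes z
  intro q hq
  haveI hqp : q.IsPrime := hq.1.1
  by_contra hcon
  push Not at hcon
  have hz : AlgebraicIndependent K (fun i => Ideal.Quotient.mkₐ K q (z i)) := by
    rw [algebraicIndependent_iff_injective_aeval, injective_iff_map_eq_zero]
    intro F hF
    by_contra hne
    apply hcon F hne
    rw [← Ideal.Quotient.eq_zero_iff_mem]
    have := MvPolynomial.comp_aeval_apply (R := K) (f := z) (Ideal.Quotient.mkₐ K q) F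
    rw [← hF]
    exact this
  have hzL : AlgebraicIndependent K (fun i => algebraMap (S ⧸ q) (FractionRing (S ⧸ q))
      (Ideal.Quotient.mkₐ K q (z i))) :=
    hz.map' (f := IsScalarTower.toAlgHom K (S ⧸ q) (FractionRing (S ⧸ q)))
      (IsFractionRing.injective _ _)
  obtain ⟨s, hs, hP⟩ := hloc
  obtain ⟨t, hts, htq⟩ : ∃ t ∈ s, t ∉ q := by
    by_contra h
    push Not at h
    have hle : Ideal.span s ≤ q := Ideal.span_le.mpr h
    rw [hs] at hle
    exact hqp.ne_top (top_le_iff.mp hle)
  have hPt := hP t hts
  haveI : Algebra.IsStandardSmoothOfRelativeDimension d K (Localization.Away t) := by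
    rw [← RingHom.isStandardSmoothOfRelativeDimension_algebraMap,
      IsScalarTower.algebraMap_eq K S (Localization.Away t)]
    exact hPt
  have hSL : ∀ r : S, algebraMap S (FractionRing (S ⧸ q)) r =
      algebraMap (S ⧸ q) (FractionRing (S ⧸ q)) (Ideal.Quotient.mk q r) := fun r =>
    IsScalarTower.algebraMap_apply S (S ⧸ q) (FractionRing (S ⧸ q)) r
  have hunit : IsUnit (algebraMap S (FractionRing (S ⧸ q)) t) := by
    rw [isUnit_iff_ne_zero, hSL]
    intro h
    rw [map_eq_zero_iff _ (IsFractionRing.injective _ _)] at h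
    exact htq (Ideal.Quotient.eq_zero_iff_mem.mp h)
  letI algStL : Algebra (Localization.Away t) (FractionRing (S ⧸ q)) :=
    (IsLocalization.Away.lift t hunit).toAlgebra
  have hStL : ∀ r : S, algebraMap (Localization.Away t) (FractionRing (S ⧸ q))
      (algebraMap S (Localization.Away t) r) = algebraMap S (FractionRing (S ⧸ q)) r := fun r =>
    IsLocalization.Away.lift_eq t hunit r
  haveI : IsScalarTower K (Localization.Away t) (FractionRing (S ⧸ q)) :=
    IsScalarTower.of_algebraMap_eq (fun a => by
      rw [IsScalarTower.algebraMap_apply K S (Localization.Away t), hStL, hSL,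
        IsScalarTower.algebraMap_apply K (S ⧸ q) (FractionRing (S ⧸ q))]
      rfl)
  have hgen : Submodule.span (FractionRing (S ⧸ q)) (Set.range
      (KaehlerDifferential.map K K (Localization.Away t) (FractionRing (S ⧸ q)))) = ⊤ := by
    rw [eq_top_iff, ← span_range_map_derivation_of_isLocalization K (S ⧸ q)
      (FractionRing (S ⧸ q)) (nonZeroDivisors (S ⧸ q)), Submodule.span_le]
    rintro _ ⟨b, rfl⟩
    obtain ⟨r, rfl⟩ := Ideal.Quotient.mk_surjective b
    apply Submodule.subset_span
    refine ⟨D K (Localization.Away t) (algebraMap S (Localization.Away t) r), ?_⟩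
    rw [Function.comp_apply, map_D, map_D, hStL, hSL]
  have hrank := rank_kaehler_le d (Localization.Away t) (FractionRing (S ⧸ q)) hgen
  haveI : Algebra.EssFiniteType (S ⧸ q) (FractionRing (S ⧸ q)) :=
    Algebra.EssFiniteType.of_isLocalization _ (nonZeroDivisors (S ⧸ q))
  haveI : Algebra.EssFiniteType K (FractionRing (S ⧸ q)) :=
    Algebra.EssFiniteType.comp K (S ⧸ q) (FractionRing (S ⧸ q))
  obtain ⟨ι, x, hx⟩ := exists_isTranscendenceBasis' K (FractionRing (S ⧸ q))
  have h1 := Groth.Agent.Lib.Helper86.lift_rank_kaehlerDifferential_eq x hx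
  have h2 := hx.cardinalMk_eq_trdeg
  have h3 := hzL.lift_cardinalMk_le_trdeg
  rw [Cardinal.lift_id, Cardinal.lift_id] at h1
  rw [Cardinal.mk_fin, Cardinal.lift_natCast, Cardinal.lift_uzero, ← h2, ← h1] at h3
  have h4 := h3.trans hrank
  have := Nat.cast_le.mp h4
  omega

end DepSmooth

end Groth.Agent.Lib.Helper86.EtaEt
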