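import Groth.Agent.Lib.Helper86.EtaEt1
import Groth.Agent.Lib.Helper86.EtaEt2

/-!
# Étale cancellation with local coordinates (helper86)
-/

set_option autoImplicit false
set_option linter.style.haveILetI false

universe u

namespace Groth.Agent.Lib.Helper86.EtaEt

open MvPolynomial KaehlerDifferential
open scoped TensorProduct

section Cancel

theorem formallyEtale_of_comp_unramified {R S T : Type*} [CommRing R] [CommRing S] [CommRing T]
    {f : R →+* S} {g : S →+* T} (hf : f.FormallyUnramified) (h : (g.comp f).FormallyEtale) :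
    g.FormallyEtale := by
  algebraize [f, g, g.comp f]
  exact Algebra.FormallyEtale.of_restrictScalars (R := R) (A := S) (B := T)

end Cancel

section SpanD

variable {V : Type u} [CommRing V] {A₁ : Type u} [CommRing A₁] [Algebra V A₁] {d : ℕ}

theorem span_D_of_formallyEtale (w : Fin d → A₁)
    (h : (aeval w : MvPolynomial (Fin d) V →ₐ[V] A₁).toRingHom.FormallyEtale) :
    Submodule.span A₁ (Set.range fun i => D V A₁ (w i)) = ⊤ := by
  letI algP : Algebra (MvPolynomial (Fin d) V) A₁ :=
    (aeval w : MvPolynomial (Fin d) V →ₐ[V] A₁).toRingHom.toAlgebra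
  haveI : IsScalarTower V (MvPolynomial (Fin d) V) A₁ :=
    IsScalarTower.of_algebraMap_eq (fun a =>
      ((aeval w : MvPolynomial (Fin d) V →ₐ[V] A₁).commutes a).symm)
  haveI : Algebra.FormallyEtale (MvPolynomial (Fin d) V) A₁ := h
  have hx : ∀ i, algebraMap (MvPolynomial (Fin d) V) A₁ (X i) = w i := fun i => by
    show aeval w (X i) = w i
    rw [aeval_X]
  rw [eq_top_iff]
  refine le_trans ?_ (range_mapBaseChange_le_span w hx)
  rw [range_mapBaseChange]
  intro y _
  rw [LinearMap.mem_ker]
  exact Subsingleton.elim _ _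

end SpanD

section Core

variable {V : Type u} [CommRing V] {A A₁ U : Type u} [CommRing A] [CommRing A₁] [CommRing U]
  [Algebra V A] [Algebra V A₁] [Algebra V U] {d : ℕ}

theorem formallyEtale_of_coords (f₀ : A →ₐ[V] U) (f₁ : A →ₐ[V] A₁) (χ : A₁ →ₐ[V] U)
    (hχ : χ.comp f₁ = f₀) (h1 : f₁.toRingHom.FormallyEtale) (w : Fin d → A₁)
    (h2 : (aeval w : MvPolynomial (Fin d) V →ₐ[V] A₁).toRingHom.FormallyEtale)
    [Algebra.FormallySmooth V U] (b : Module.Basis (Fin d) U Ω[U⁄V])
    (h4 : f₀.toRingHom.FormallyUnramified) : f₀.toRingHom.FormallyEtale := by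
  have hspanA := span_D_of_formallyEtale w h2
  -- span in U
  have hspanU : Submodule.span U (Set.range fun i => D V U (χ (w i))) = ⊤ := by
    letI algA₁U : Algebra A₁ U := χ.toRingHom.toAlgebra
    haveI : IsScalarTower V A₁ U :=
      IsScalarTower.of_algebraMap_eq (fun a => (χ.commutes a).symm)
    have hsub : Subsingleton Ω[U⁄A₁] := by
      have h5 : χ.toRingHom.FormallyUnramified := by
        have : χ.toRingHom.comp f₁.toRingHom = f₀.toRingHom := by
          rw [← hχ]; rfl
        exact RingHom.FormallyUnramified.of_comp (f := f₁.toRingHom) (this ▸ h4)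
      have h6 : Algebra.FormallyUnramified A₁ U := h5
      exact h6.subsingleton_kaehlerDifferential
    have hall : ∀ t : U ⊗[A₁] Ω[A₁⁄V], mapBaseChange V A₁ U t ∈
        Submodule.span U (Set.range fun i => D V U (χ (w i))) := by
      intro t
      induction t using TensorProduct.induction_on with
      | zero => rw [map_zero]; exact zero_mem _
      | tmul u ω =>
        rw [mapBaseChange_tmul]
        apply Submodule.smul_mem
        have hω : ω ∈ Submodule.span A₁ (Set.range fun i => D V A₁ (w i)) := by
          rw [hspanA]; trivial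
        induction hω using Submodule.span_induction with
        | mem ω hω =>
          obtain ⟨i, rfl⟩ := hω
          rw [map_D]
          exact Submodule.subset_span ⟨i, rfl⟩
        | zero => rw [map_zero]; exact zero_mem _
        | add a b _ _ ha hb => rw [map_add]; exact add_mem ha hb
        | smul a ω _ hω =>
          rw [map_smul]
          have := Submodule.smul_mem _ (algebraMap A₁ U a) hω
          rwa [algebraMap_smul] at this
      | add a b ha hb => rw [map_add]; exact add_mem ha hb
    rw [eq_top_iff]
    intro y _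
    have hy : y ∈ LinearMap.range (mapBaseChange V A₁ U) := by
      rw [range_mapBaseChange, LinearMap.mem_ker]
      exact Subsingleton.elim _ _
    obtain ⟨t, rfl⟩ := hy
    exact hall t
  have h7 := formallyEtale_of_span (fun i => χ (w i)) b hspanU
  have h8 : (aeval (fun i => χ (w i)) : MvPolynomial (Fin d) V →ₐ[V] U).toRingHom =
      χ.toRingHom.comp (aeval w : MvPolynomial (Fin d) V →ₐ[V] A₁).toRingHom := by
    have : (aeval (fun i => χ (w i)) : MvPolynomial (Fin d) V →ₐ[V] U) = χ.comp (aeval w) := by
      apply MvPolynomial.algHom_ext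
      intro i
      simp
    rw [this]; rfl
  rw [h8] at h7
  have hunr : (aeval w : MvPolynomial (Fin d) V →ₐ[V] A₁).toRingHom.FormallyUnramified := by
    letI := (aeval w : MvPolynomial (Fin d) V →ₐ[V] A₁).toRingHom.toAlgebra
    have : Algebra.FormallyEtale (MvPolynomial (Fin d) V) A₁ := h2
    show Algebra.FormallyUnramified (MvPolynomial (Fin d) V) A₁
    infer_instance
  have h9 : χ.toRingHom.FormallyEtale :=
    formallyEtale_of_comp_unramified
      (f := (aeval w : MvPolynomial (Fin d) V →ₐ[V] A₁).toRingHom)
      hunr h7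
  have h10 : f₀.toRingHom = χ.toRingHom.comp f₁.toRingHom := by
    rw [← hχ]; rfl
  rw [h10]
  exact RingHom.FormallyEtale.comp h1 h9

end Core

end Groth.Agent.Lib.Helper86.EtaEt
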