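import Groth.Agent.Lib.Helper86.EtaEt6

/-!
# Maps out of localisations of the generic fibre `K ⊗[V] B` (helper86)
-/

set_option autoImplicit false
set_option linter.style.haveILetI false
set_option linter.unusedSectionVars false

universe u

namespace Groth.Agent.Lib.Helper86.EtaEt

open MvPolynomial KaehlerDifferential
open scoped TensorProduct

section GenericFibre

variable (V : Type u) [CommRing V] [IsDomain V] {B : Type u} [CommRing B] [Algebra V B]
  {U : Type u} [CommRing U]

attribute [local instance] Algebra.TensorProduct.rightAlgebra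

/-- the canonical map `K ⊗[V] B → U` when nonzero elements of `V` become units in `U` -/
noncomputable def toU (φ : B →+* U)
    (hφ : ∀ v ∈ nonZeroDivisors V, IsUnit (φ (algebraMap V B v))) :
    FractionRing V ⊗[V] B →+* U :=
  IsLocalization.lift (M := Algebra.algebraMapSubmonoid B (nonZeroDivisors V))
    (S := FractionRing V ⊗[V] B) (g := φ) (by
      rintro ⟨_, v, hv, rfl⟩
      exact hφ v hv)

theorem toU_tmul (φ : B →+* U)
    (hφ : ∀ v ∈ nonZeroDivisors V, IsUnit (φ (algebraMap V B v))) (b : B) :
    toU V φ hφ ((1 : FractionRing V) ⊗ₜ[V] b) = φ b :=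
  IsLocalization.lift_eq _ b

theorem includeRight_formallyEtale :
    (Algebra.TensorProduct.includeRight : B →ₐ[V] FractionRing V ⊗[V] B).toRingHom.FormallyEtale := by
  have : Algebra.FormallyEtale B (FractionRing V ⊗[V] B) :=
    Algebra.FormallyEtale.of_isLocalization (Rₘ := FractionRing V ⊗[V] B)
      (Algebra.algebraMapSubmonoid B (nonZeroDivisors V))
  exact RingHom.formallyEtale_algebraMap.mpr this

theorem toU_comp {U' : Type u} [CommRing U'] (φ : B →+* U)
    (hφ : ∀ v ∈ nonZeroDivisors V, IsUnit (φ (algebraMap V B v))) (ℓ : U →+* U') :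
    toU V (ℓ.comp φ) (fun v hv => (hφ v hv).map ℓ) = ℓ.comp (toU V φ hφ) := by
  apply IsLocalization.ringHom_ext (Algebra.algebraMapSubmonoid B (nonZeroDivisors V))
  ext b
  simp [toU, IsLocalization.lift_eq]

end GenericFibre

section Coords

variable (V : Type u) [CommRing V] [IsDomain V] {B : Type u} [CommRing B] [Algebra V B]

attribute [local instance] MvPolynomial.algebraMvPolynomial

theorem map_formallyEtale (d : ℕ) :
    (MvPolynomial.map (σ := Fin d) (algebraMap V (FractionRing V))).FormallyEtale := by
  have : Algebra.FormallyEtale (MvPolynomial (Fin d) V) (MvPolynomial (Fin d) (FractionRing V)) :=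
    Algebra.FormallyEtale.of_isLocalization (Rₘ := MvPolynomial (Fin d) (FractionRing V))
      ((nonZeroDivisors V).map (C : V →+* MvPolynomial (Fin d) V))
  exact RingHom.formallyEtale_algebraMap.mpr this

theorem exists_coords (d : ℕ) (t : FractionRing V ⊗[V] B)
    (hP : ((algebraMap (FractionRing V ⊗[V] B) (Localization.Away t)).comp
      (algebraMap (FractionRing V) (FractionRing V ⊗[V] B))).IsStandardSmoothOfRelativeDimension d) :
    ∃ w : Fin d → Localization.Away t,
      (aeval w : MvPolynomial (Fin d) V →ₐ[V] Localization.Away t).toRingHom.FormallyEtale := by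
  obtain ⟨g, hgC, hget⟩ := hP.exists_etale_mvPolynomial
  refine ⟨fun i => g (X i), ?_⟩
  have heq : (aeval (fun i => g (X i)) :
      MvPolynomial (Fin d) V →ₐ[V] Localization.Away t).toRingHom =
      g.comp (MvPolynomial.map (algebraMap V (FractionRing V))) := by
    apply MvPolynomial.ringHom_ext
    · intro v
      have h1 := congrArg (fun h => h (algebraMap V (FractionRing V) v)) hgC
      simp only [RingHom.comp_apply] at h1
      simp only [AlgHom.toRingHom_eq_coe, RingHom.coe_coe, aeval_C, RingHom.comp_apply, map_C]
      rw [h1, IsScalarTower.algebraMap_apply V (FractionRing V ⊗[V] B) (Localization.Away t),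
        IsScalarTower.algebraMap_apply V (FractionRing V) (FractionRing V ⊗[V] B)]
    · intro i
      simp
  rw [heq]
  exact RingHom.FormallyEtale.comp (map_formallyEtale V d) (RingHom.Etale.toAlgebra hget).formallyEtale

end Coords

section Factor

variable (V : Type u) [CommRing V] [IsDomain V] {B : Type u} [CommRing B] [Algebra V B]
  {U : Type u} [CommRing U] [Algebra V U]

theorem exists_factor (φ : B →ₐ[V] U)
    (hφ : ∀ v ∈ nonZeroDivisors V, IsUnit (φ.toRingHom (algebraMap V B v)))
    (t : FractionRing V ⊗[V] B) (ht : IsUnit (toU V φ.toRingHom hφ t)) :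
    ∃ (f₁ : B →ₐ[V] Localization.Away t) (χ : Localization.Away t →ₐ[V] U),
      χ.comp f₁ = φ ∧ f₁.toRingHom.FormallyEtale := by
  have hχ₀ : ∀ y : FractionRing V ⊗[V] B,
      IsLocalization.Away.lift t ht (algebraMap _ (Localization.Away t) y) =
        toU V φ.toRingHom hφ y := fun y => IsLocalization.Away.lift_eq t ht y
  refine ⟨(IsScalarTower.toAlgHom V (FractionRing V ⊗[V] B) (Localization.Away t)).comp
    Algebra.TensorProduct.includeRight,
    { (IsLocalization.Away.lift t ht : Localization.Away t →+* U) with
      commutes' := fun v => by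
        show IsLocalization.Away.lift t ht (algebraMap V (Localization.Away t) v) = _
        rw [IsScalarTower.algebraMap_apply V (FractionRing V ⊗[V] B) (Localization.Away t), hχ₀,
          ← (Algebra.TensorProduct.includeRight (R := V) (A := FractionRing V)
            (B := B)).commutes v]
        show toU V φ.toRingHom hφ ((1 : FractionRing V) ⊗ₜ[V] (algebraMap V B v)) = _
        rw [toU_tmul]
        exact φ.commutes v }, ?_, ?_⟩
  · apply AlgHom.ext
    intro b
    show IsLocalization.Away.lift t ht (algebraMap _ (Localization.Away t)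
      ((1 : FractionRing V) ⊗ₜ[V] b)) = φ b
    rw [hχ₀, toU_tmul]
    rfl
  · show ((algebraMap (FractionRing V ⊗[V] B) (Localization.Away t)).comp
      (Algebra.TensorProduct.includeRight : B →ₐ[V] FractionRing V ⊗[V] B).toRingHom).FormallyEtale
    refine RingHom.FormallyEtale.comp (includeRight_formallyEtale V) ?_
    exact RingHom.formallyEtale_algebraMap.mpr
      (Algebra.FormallyEtale.of_isLocalization (Rₘ := Localization.Away t) (Submonoid.powers t))

end Factor

end Groth.Agent.Lib.Helper86.EtaEt
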