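import Groth.Agent.Lib.Helper86.EtaEt7

/-!
# Unramified maps between smooth generic fibres of the same dimension are étale (helper86)
-/

set_option autoImplicit false
set_option linter.style.haveILetI false
set_option linter.unusedSectionVars false

universe u

namespace Groth.Agent.Lib.Helper86.EtaEt

open MvPolynomial KaehlerDifferential
open scoped TensorProduct

section Local

variable (V : Type u) [CommRing V] [IsDomain V] [IsNoetherianRing V]
  {A R : Type u} [CommRing A] [CommRing R] [Algebra V A] [Algebra V R] [Algebra A R]
  [IsScalarTower V A R] [Algebra.FiniteType V A] [Algebra.FiniteType V R]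

/-- the local statement: on `U = T₀[1/g]` -/
theorem etale_local (d : ℕ) (s : R)
    (hunit : ∀ v ∈ nonZeroDivisors V,
      IsUnit (algebraMap R (Localization.Away s) (algebraMap V R v)))
    (hunitA : ∀ v ∈ nonZeroDivisors V,
      IsUnit (((algebraMap R (Localization.Away s)).comp (algebraMap A R)) (algebraMap V A v)))
    (hunr : ((algebraMap R (Localization.Away s)).comp (algebraMap A R)).FormallyUnramified)
    (t₁ : FractionRing V ⊗[V] A) (t₂ : FractionRing V ⊗[V] R)
    (hP₁ : ((algebraMap (FractionRing V ⊗[V] A) (Localization.Away t₁)).comp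
      (algebraMap (FractionRing V) (FractionRing V ⊗[V] A))).IsStandardSmoothOfRelativeDimension d)
    (hP₂ : ((algebraMap (FractionRing V ⊗[V] R) (Localization.Away t₂)).comp
      (algebraMap (FractionRing V) (FractionRing V ⊗[V] R))).IsStandardSmoothOfRelativeDimension d)
    (g : Localization.Away s)
    (hg : g = toU V ((algebraMap R (Localization.Away s)).comp (algebraMap A R)) hunitA t₁ *
      toU V (algebraMap R (Localization.Away s)) hunit t₂) :
    ((algebraMap (Localization.Away s) (Localization.Away g)).comp
      ((algebraMap R (Localization.Away s)).comp (algebraMap A R))).Etale := by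
  -- the two structure maps as `V`-algebra homs
  let φA : A →ₐ[V] Localization.Away g :=
    { ((algebraMap (Localization.Away s) (Localization.Away g)).comp
        ((algebraMap R (Localization.Away s)).comp (algebraMap A R)) : A →+* Localization.Away g) with
      commutes' := fun v => by
        show algebraMap (Localization.Away s) (Localization.Away g)
          (algebraMap R (Localization.Away s) (algebraMap A R (algebraMap V A v))) = _
        rw [← IsScalarTower.algebraMap_apply V A R, ← IsScalarTower.algebraMap_apply V R,
          ← IsScalarTower.algebraMap_apply V (Localization.Away s)] }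
  let φR : R →ₐ[V] Localization.Away g :=
    { ((algebraMap (Localization.Away s) (Localization.Away g)).comp
        (algebraMap R (Localization.Away s)) : R →+* Localization.Away g) with
      commutes' := fun v => by
        show algebraMap (Localization.Away s) (Localization.Away g)
          (algebraMap R (Localization.Away s) (algebraMap V R v)) = _
        rw [← IsScalarTower.algebraMap_apply V R,
          ← IsScalarTower.algebraMap_apply V (Localization.Away s)] }
  have hφA : φA.toRingHom = (algebraMap (Localization.Away s) (Localization.Away g)).comp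
      ((algebraMap R (Localization.Away s)).comp (algebraMap A R)) := rfl
  have hφR : φR.toRingHom = (algebraMap (Localization.Away s) (Localization.Away g)).comp
      (algebraMap R (Localization.Away s)) := rfl
  have hgunit : IsUnit (algebraMap (Localization.Away s) (Localization.Away g) g) :=
    IsLocalization.Away.algebraMap_isUnit g
  have huA : ∀ v ∈ nonZeroDivisors V, IsUnit (φA.toRingHom (algebraMap V A v)) := fun v hv =>
    (hunitA v hv).map (algebraMap (Localization.Away s) (Localization.Away g))
  have huR : ∀ v ∈ nonZeroDivisors V, IsUnit (φR.toRingHom (algebraMap V R v)) := fun v hv =>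
    (hunit v hv).map (algebraMap (Localization.Away s) (Localization.Away g))
  have htA : IsUnit (toU V φA.toRingHom huA t₁) := by
    have := toU_comp V ((algebraMap R (Localization.Away s)).comp (algebraMap A R)) hunitA
      (algebraMap (Localization.Away s) (Localization.Away g))
    rw [show toU V φA.toRingHom huA = _ from this, RingHom.comp_apply]
    exact isUnit_of_dvd_unit (map_dvd _ (hg ▸ Dvd.intro _ rfl)) hgunit
  have htR : IsUnit (toU V φR.toRingHom huR t₂) := by
    have := toU_comp V (algebraMap R (Localization.Away s)) hunit
      (algebraMap (Localization.Away s) (Localization.Away g))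
    rw [show toU V φR.toRingHom huR = _ from this, RingHom.comp_apply]
    exact isUnit_of_dvd_unit (map_dvd _ (hg ▸ Dvd.intro_left _ rfl)) hgunit
  obtain ⟨f₁, χ, hχ, h1⟩ := exists_factor V φA huA t₁ htA
  obtain ⟨w, h2⟩ := exists_coords V d t₁ hP₁
  obtain ⟨f₁R, χR, hχR, h1R⟩ := exists_factor V φR huR t₂ htR
  obtain ⟨w', h2R⟩ := exists_coords V d t₂ hP₂
  -- `R → U` is formally étale
  have hφRet : φR.toRingHom.FormallyEtale := by
    rw [hφR]
    exact RingHom.FormallyEtale.comp
      (RingHom.formallyEtale_algebraMap.mpr
        (Algebra.FormallyEtale.of_isLocalization (Rₘ := Localization.Away s)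
          (Submonoid.powers s)))
      (RingHom.formallyEtale_algebraMap.mpr
        (Algebra.FormallyEtale.of_isLocalization (Rₘ := Localization.Away g)
          (Submonoid.powers g)))
  have h1Runr : f₁R.toRingHom.FormallyUnramified := by
    letI := f₁R.toRingHom.toAlgebra
    have : Algebra.FormallyEtale R (Localization.Away t₂) := h1R
    show Algebra.FormallyUnramified R (Localization.Away t₂)
    infer_instance
  have hχRet : χR.toRingHom.FormallyEtale := by
    refine formallyEtale_of_comp_unramified (f := f₁R.toRingHom) h1Runr ?_
    have : χR.toRingHom.comp f₁R.toRingHom = φR.toRingHom := by rw [← hχR]; rfl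
    rw [this]
    exact hφRet
  have h3 : (aeval (fun i => χR (w' i)) :
      MvPolynomial (Fin d) V →ₐ[V] Localization.Away g).toRingHom.FormallyEtale := by
    have : (aeval (fun i => χR (w' i)) : MvPolynomial (Fin d) V →ₐ[V] Localization.Away g) =
        χR.comp (aeval w') := by
      apply MvPolynomial.algHom_ext
      intro i
      simp
    rw [this]
    exact RingHom.FormallyEtale.comp h2R hχRet
  obtain ⟨hsm, ⟨b⟩⟩ := smooth_basis_of_formallyEtale _ h3
  have h4 : φA.toRingHom.FormallyUnramified := by
    rw [hφA]
    refine RingHom.FormallyUnramified.comp hunr ?_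
    exact RingHom.formallyUnramified_algebraMap.mpr
      (Algebra.FormallyUnramified.of_isLocalization (Rₘ := Localization.Away g)
        (Submonoid.powers g))
  have hfe := formallyEtale_of_coords φA f₁ χ hχ h1 w h2 b h4
  -- finite presentation
  haveI : IsNoetherianRing A := Algebra.FiniteType.isNoetherianRing V A
  have hfp : φA.toRingHom.FinitePresentation := by
    rw [← RingHom.FinitePresentation.of_finiteType, hφA]
    haveI : Algebra.FiniteType A R := Algebra.FiniteType.of_restrictScalars_finiteType V A R
    haveI : Algebra.FinitePresentation R (Localization.Away s) :=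
      IsLocalization.Away.finitePresentation s
    haveI : Algebra.FiniteType R (Localization.Away s) := Algebra.FiniteType.of_finitePresentation
    haveI : Algebra.FinitePresentation (Localization.Away s) (Localization.Away g) :=
      IsLocalization.Away.finitePresentation g
    haveI : Algebra.FiniteType (Localization.Away s) (Localization.Away g) :=
      Algebra.FiniteType.of_finitePresentation
    exact RingHom.FiniteType.comp (RingHom.finiteType_algebraMap.mpr inferInstance)
      (RingHom.FiniteType.comp (RingHom.finiteType_algebraMap.mpr inferInstance)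
        (RingHom.finiteType_algebraMap.mpr inferInstance))
  exact @Algebra.Etale.mk _ _ _ _ φA.toRingHom.toAlgebra hfe hfp

theorem exists_notMem_of_span_eq_top {S T : Type*} [CommRing S] [CommRing T] (ψ : S →+* T)
    (c : Set S) (hc : Ideal.span c = ⊤) (𝔐 : Ideal T) (h𝔐 : 𝔐 ≠ ⊤) : ∃ t ∈ c, ψ t ∉ 𝔐 := by
  by_contra h
  push Not at h
  have hle : Ideal.span c ≤ 𝔐.comap ψ := Ideal.span_le.mpr (fun t ht => h t ht)
  rw [hc] at hle
  have h1 : (1 : S) ∈ 𝔐.comap ψ := hle Submodule.mem_top
  rw [Ideal.mem_comap, map_one] at h1
  exact h𝔐 ((Ideal.eq_top_iff_one _).mpr h1)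

theorem etale_of_unramified_generic_smooth (d : ℕ)
    (hA : RingHom.Locally (RingHom.IsStandardSmoothOfRelativeDimension d)
      (algebraMap (FractionRing V) (FractionRing V ⊗[V] A)))
    (hR : RingHom.Locally (RingHom.IsStandardSmoothOfRelativeDimension d)
      (algebraMap (FractionRing V) (FractionRing V ⊗[V] R)))
    (s : R)
    (hunit : ∀ v ∈ nonZeroDivisors V,
      IsUnit (algebraMap R (Localization.Away s) (algebraMap V R v)))
    (hunr : ((algebraMap R (Localization.Away s)).comp (algebraMap A R)).FormallyUnramified) :
    ((algebraMap R (Localization.Away s)).comp (algebraMap A R)).Etale := by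
  have hunitA : ∀ v ∈ nonZeroDivisors V,
      IsUnit (((algebraMap R (Localization.Away s)).comp (algebraMap A R)) (algebraMap V A v)) := by
    intro v hv
    rw [RingHom.comp_apply, ← IsScalarTower.algebraMap_apply V A R]
    exact hunit v hv
  apply RingHom.Etale.ofLocalizationSpanTarget _
    {g : Localization.Away s | ((algebraMap (Localization.Away s) (Localization.Away g)).comp
      ((algebraMap R (Localization.Away s)).comp (algebraMap A R))).Etale} ?_ (fun g => g.2)
  by_contra hne
  obtain ⟨𝔐, h𝔐max, hle⟩ := Ideal.exists_le_maximal _ hne
  obtain ⟨sA, hsA, hPA⟩ := hA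
  obtain ⟨sR, hsR, hPR⟩ := hR
  obtain ⟨t₁, ht₁, ht₁𝔐⟩ := exists_notMem_of_span_eq_top
    (toU V ((algebraMap R (Localization.Away s)).comp (algebraMap A R)) hunitA) sA hsA 𝔐
    h𝔐max.ne_top
  obtain ⟨t₂, ht₂, ht₂𝔐⟩ := exists_notMem_of_span_eq_top
    (toU V (algebraMap R (Localization.Away s)) hunit) sR hsR 𝔐 h𝔐max.ne_top
  have hg𝔐 : toU V ((algebraMap R (Localization.Away s)).comp (algebraMap A R)) hunitA t₁ *
      toU V (algebraMap R (Localization.Away s)) hunit t₂ ∉ 𝔐 := by
    intro h
    rcases h𝔐max.isPrime.mem_or_mem h with h | h
    · exact ht₁𝔐 h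
    · exact ht₂𝔐 h
  have hgS := etale_local V d s hunit hunitA hunr t₁ t₂ (hPA t₁ ht₁) (hPR t₂ ht₂) _ rfl
  exact hg𝔐 (hle (Ideal.subset_span hgS))

end Local

end Groth.Agent.Lib.Helper86.EtaEt
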