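import Mathlib

/-!
# Differentials killed by a power of `s` and unramifiedness of `R[1/s]` (helper86)
-/

set_option autoImplicit false
set_option linter.style.haveILetI false

universe u

namespace Groth.Agent.Lib.Helper86.EtaEt

open KaehlerDifferential
open scoped TensorProduct

section

variable {A R T : Type u} [CommRing A] [CommRing R] [CommRing T] [Algebra A R] [Algebra R T]
  [Algebra A T] [IsScalarTower A R T]

theorem exists_pow_smul_eq_zero (s : R) [IsLocalization.Away s T] [Module.Finite R Ω[R⁄A]]
    [Algebra.FormallyUnramified A T] : ∃ m : ℕ, ∀ ω : Ω[R⁄A], s ^ m • ω = 0 := by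
  classical
  have key : ∀ ω : Ω[R⁄A], ∃ m : ℕ, s ^ m • ω = 0 := by
    intro ω
    have h0 : KaehlerDifferential.map A A R T ω = KaehlerDifferential.map A A R T 0 :=
      Subsingleton.elim _ _
    obtain ⟨c, hc⟩ := IsLocalizedModule.exists_of_eq (S := Submonoid.powers s)
      (f := KaehlerDifferential.map A A R T) h0
    obtain ⟨c, m, rfl⟩ := c
    refine ⟨m, ?_⟩
    rw [smul_zero] at hc
    exact hc
  choose m hm using key
  obtain ⟨G, hG⟩ := Module.Finite.fg_top (R := R) (M := Ω[R⁄A])
  refine ⟨G.sup m, fun ω => ?_⟩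
  have hω : ω ∈ Submodule.span R (G : Set Ω[R⁄A]) := hG ▸ Submodule.mem_top
  induction hω using Submodule.span_induction with
  | mem g hg =>
    have hle : m g ≤ G.sup m := Finset.le_sup (f := m) hg
    have : s ^ G.sup m • g = s ^ (G.sup m - m g) • (s ^ m g • g) := by
      rw [smul_smul, ← pow_add, Nat.sub_add_cancel hle]
    rw [this, hm g, smul_zero]
  | zero => rw [smul_zero]
  | add a b _ _ ha hb => rw [smul_add, ha, hb, add_zero]
  | smul a ω _ hω => rw [smul_comm, hω, smul_zero]

theorem formallyUnramified_of_smul_eq_zero (s : R) [IsLocalization.Away s T] (c : R)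
    (hc : IsUnit (algebraMap R T c)) (h : ∀ ω : Ω[R⁄A], c • ω = 0) :
    Algebra.FormallyUnramified A T := by
  refine ⟨⟨fun x y => ?_⟩⟩
  have h0 : ∀ z : Ω[T⁄A], z = 0 := by
    intro z
    have hz : z ∈ Submodule.span T (Set.range (KaehlerDifferential.map A A R T ∘ D A R)) := by
      rw [span_range_map_derivation_of_isLocalization A R T (Submonoid.powers s)]
      trivial
    induction hz using Submodule.span_induction with
    | mem z hz =>
      obtain ⟨r, rfl⟩ := hz
      have h1 := congrArg (KaehlerDifferential.map A A R T) (h (D A R r))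
      rw [map_smul, map_zero, ← algebraMap_smul T c] at h1
      exact (hc.smul_eq_zero).mp h1
    | zero => rfl
    | add a b _ _ ha hb => rw [ha, hb, add_zero]
    | smul a z _ hz => rw [hz, smul_zero]
  rw [h0 x, h0 y]

end

end Groth.Agent.Lib.Helper86.EtaEt
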