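import Mathlib
import Groth.Agent.Lib.Helper86.CSADescent

/-!
# Descent of finite-dimensional algebras to finitely generated subfields, and related lemmas
-/

set_option autoImplicit false
set_option linter.unusedSectionVars false
set_option linter.style.haveILetI false

namespace Groth.Agent.Lib.Helper86.FiniteDescent

open scoped TensorProduct
open Groth.Agent.Lib.Helper86.GaloisDescent

universe u v w

/-- Centrality descends along any field extension. -/
theorem isCentral_of_baseChange' (k : Type u) (K : Type v) [Field k] [Field K] [Algebra k K]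
    (B : Type w) [Ring B] [Algebra k B] [Algebra.IsCentral K (K ⊗[k] B)] :
    Algebra.IsCentral k B := by
  obtain ⟨l, hl⟩ := exists_retraction k K
  refine ⟨fun z hz => ?_⟩
  have h1 : (1 : K) ⊗ₜ[k] z ∈ Subalgebra.center K (K ⊗[k] B) := by
    rw [Subalgebra.mem_center_iff]
    intro t
    induction t using TensorProduct.induction_on with
    | zero => simp
    | tmul c b =>
      rw [Algebra.TensorProduct.tmul_mul_tmul, Algebra.TensorProduct.tmul_mul_tmul, mul_one,
        one_mul, (Subalgebra.mem_center_iff.mp hz) b]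
    | add x y hx hy => rw [add_mul, mul_add, hx, hy]
  obtain ⟨c, hc⟩ := (Algebra.IsCentral.mem_center_iff K).mp h1
  rw [Algebra.TensorProduct.algebraMap_apply] at hc
  have h2 := congrArg (retr l B) hc
  rw [retr_tmul, retr_tmul, hl, one_smul] at h2
  rw [Algebra.mem_bot]
  exact ⟨l c, by rw [h2, Algebra.algebraMap_eq_smul_one]; rfl⟩

/-- `A ⊗[S] (S ⊗[R] B) ≃ₐ[A] A ⊗[R] B` for a possibly noncommutative `B`. -/
noncomputable def cancelBaseChange' (R S A : Type*) (B : Type*) [CommSemiring R] [CommSemiring S]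
    [Algebra R S] [CommSemiring A] [Semiring B] [Algebra R A] [Algebra R B] [Algebra S A]
    [IsScalarTower R S A] : A ⊗[S] (S ⊗[R] B) ≃ₐ[A] A ⊗[R] B :=
  AlgEquiv.symm <| AlgEquiv.ofLinearEquiv
    (TensorProduct.AlgebraTensorModule.cancelBaseChange R S A A B).symm
    (by simp [Algebra.TensorProduct.one_def]) <|
      LinearMap.map_mul_of_map_mul_tmul (fun _ _ _ _ ↦ by simp)

/-- A central simple algebra over a field all of whose central division algebras are trivial is a
matrix algebra. -/
theorem exists_algEquiv_matrix_of_forall_finrank_eq_one (F : Type u) [Field F]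
    (h : ∀ (D : Type v) [DivisionRing D] [Algebra F D] [Algebra.IsCentral F D]
      [FiniteDimensional F D], Module.finrank F D = 1)
    (A : Type v) [Ring A] [Algebra F A] [Algebra.IsCentral F A] [IsSimpleRing A]
    [FiniteDimensional F A] :
    ∃ n : ℕ, n ≠ 0 ∧ Nonempty (A ≃ₐ[F] Matrix (Fin n) (Fin n) F) := by
  classical
  have hart : IsArtinianRing A := IsArtinianRing.of_finite F A
  obtain ⟨n, hn, D, hD, hAlg, hfin, ⟨e⟩⟩ :=
    IsSimpleRing.exists_algEquiv_matrix_divisionRing_finite F A
  have hcM : Algebra.IsCentral F (Matrix (Fin n) (Fin n) D) :=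
    Algebra.IsCentral.of_algEquiv F A _ e
  have hcD : Algebra.IsCentral F D := by
    constructor
    intro d hd
    have h1 : Matrix.scalarAlgHom (Fin n) F d ∈
        Subalgebra.center F (Matrix (Fin n) (Fin n) D) := by
      rw [Matrix.subalgebraCenter_eq_scalarAlgHom_map]
      exact ⟨d, hd, rfl⟩
    have h2 := hcM.out h1
    obtain ⟨r, hr⟩ := Algebra.mem_bot.mp h2
    refine Algebra.mem_bot.mpr ⟨r, ?_⟩
    have h3 := congrFun (congrFun hr (0 : Fin n)) (0 : Fin n)
    simpa [Matrix.algebraMap_matrix_apply] using h3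
  have hdim : Module.finrank F D = 1 := h D
  have hbij : Function.Bijective (algebraMap F D) := by
    refine ⟨(algebraMap F D).injective, ?_⟩
    intro d
    have h1 : (⊥ : Subalgebra F D) = ⊤ := Subalgebra.bot_eq_top_iff_finrank_eq_one.mpr hdim
    have : d ∈ (⊥ : Subalgebra F D) := h1 ▸ Algebra.mem_top
    exact Algebra.mem_bot.mp this
  exact ⟨n, hn.ne, ⟨e.trans (AlgEquiv.mapMatrix (AlgEquiv.ofBijective (Algebra.ofId F D) hbij).symm)⟩⟩

/-- A finite-dimensional algebra over an algebraic extension `L` of `K` is defined over a finite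
subextension. -/
theorem exists_descent (K : Type u) (L : Type v) [Field K] [Field L] [Algebra K L]
    [Algebra.IsAlgebraic K L] (D : Type w) [Ring D] [Algebra L D] [FiniteDimensional L D] :
    ∃ (E : IntermediateField K L) (D₀ : Subalgebra E D), FiniteDimensional K E ∧
      FiniteDimensional E D₀ ∧ Nonempty (L ⊗[E] D₀ ≃ₐ[L] D) := by
  classical
  obtain ⟨d, hd⟩ : ∃ d, d = Module.finrank L D := ⟨_, rfl⟩
  have b : Module.Basis (Fin d) L D := hd ▸ Module.finBasis L D
  obtain ⟨S, hS⟩ : ∃ S : Set L, S = (Set.range fun p : Fin d × Fin d × Fin d =>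
      b.repr (b p.1 * b p.2.1) p.2.2) ∪ Set.range (fun k : Fin d => b.repr 1 k) := ⟨_, rfl⟩
  have hSfin : Finite S := by
    rw [hS]
    exact Set.finite_coe_iff.mpr ((Set.finite_range _).union (Set.finite_range _))
  obtain ⟨E, hE⟩ : ∃ E : IntermediateField K L, E = IntermediateField.adjoin K S := ⟨_, rfl⟩
  have hEfin : FiniteDimensional K E := by
    rw [hE]
    exact IntermediateField.finiteDimensional_adjoin
      (fun x _ => (Algebra.IsAlgebraic.isAlgebraic x).isIntegral)
  have hc : ∀ i j k, b.repr (b i * b j) k ∈ E := by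
    intro i j k
    rw [hE]
    apply IntermediateField.subset_adjoin
    rw [hS]
    exact Or.inl ⟨(i, j, k), rfl⟩
  have hu : ∀ k, b.repr 1 k ∈ E := by
    intro k
    rw [hE]
    apply IntermediateField.subset_adjoin
    rw [hS]
    exact Or.inr ⟨k, rfl⟩
  obtain ⟨p, hp⟩ : ∃ p : Submodule E D, p = Submodule.span E (Set.range b) := ⟨_, rfl⟩
  have hbp : ∀ i, b i ∈ p := fun i => by rw [hp]; exact Submodule.subset_span ⟨i, rfl⟩
  have h_one : (1 : D) ∈ p := by
    rw [← b.sum_repr 1]
    refine Submodule.sum_mem _ (fun k _ => ?_)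
    have : b.repr 1 k • b k = (⟨b.repr 1 k, hu k⟩ : E) • b k := rfl
    rw [this]
    exact Submodule.smul_mem _ _ (hbp k)
  have h_bmul : ∀ i j, b i * b j ∈ p := by
    intro i j
    rw [← b.sum_repr (b i * b j)]
    refine Submodule.sum_mem _ (fun k _ => ?_)
    have : b.repr (b i * b j) k • b k = (⟨b.repr (b i * b j) k, hc i j k⟩ : E) • b k := rfl
    rw [this]
    exact Submodule.smul_mem _ _ (hbp k)
  have h_mul : ∀ x y : D, x ∈ p → y ∈ p → x * y ∈ p := by
    intro x y hx hy
    have h1 : x * y ∈ p * p := Submodule.mul_mem_mul hx hy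
    have h2 : p * p ≤ p := by
      rw [hp, Submodule.span_mul_span, Submodule.span_le]
      rintro _ ⟨_, ⟨i, rfl⟩, _, ⟨j, rfl⟩, rfl⟩
      rw [← hp]
      exact h_bmul i j
    exact h2 h1
  obtain ⟨D₀, hD₀⟩ : ∃ D₀ : Subalgebra E D, D₀ = p.toSubalgebra h_one h_mul := ⟨_, rfl⟩
  have hmem : ∀ x : D, x ∈ D₀ ↔ x ∈ p := fun x => by rw [hD₀]; rfl
  obtain ⟨bE, hbE⟩ : ∃ bE : Fin d → D₀, ∀ i, (bE i : D) = b i :=
    ⟨fun i => ⟨b i, (hmem _).mpr (hbp i)⟩, fun i => rfl⟩
  have hli : LinearIndependent E bE := by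
    have h1 : LinearIndependent E (fun i => b i) :=
      b.linearIndependent.restrict_scalars (R := E) (by
        intro x y hxy
        have h2 : (x : L) * 1 = (y : L) * 1 := hxy
        rw [mul_one, mul_one] at h2
        exact Subtype.ext h2)
    refine LinearIndependent.of_comp D₀.val.toLinearMap ?_
    have : (D₀.val.toLinearMap ∘ bE) = fun i => b i := by
      funext i
      exact hbE i
    rw [this]
    exact h1
  have hspan : ⊤ ≤ Submodule.span E (Set.range bE) := by
    intro x _
    have hx : (x : D) ∈ Submodule.span E (Set.range b) := by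
      rw [← hp]; exact (hmem _).mp x.2
    have key : ∀ y : D, y ∈ Submodule.span E (Set.range b) → ∀ hy : y ∈ D₀,
        (⟨y, hy⟩ : D₀) ∈ Submodule.span E (Set.range bE) := by
      intro y hy
      induction hy using Submodule.span_induction with
      | mem y hy =>
        intro hy'
        obtain ⟨i, rfl⟩ := hy
        have : (⟨b i, hy'⟩ : D₀) = bE i := Subtype.ext (hbE i).symm
        rw [this]
        exact Submodule.subset_span ⟨i, rfl⟩
      | zero =>
        intro hy'
        have : (⟨0, hy'⟩ : D₀) = 0 := rfl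
        rw [this]
        exact Submodule.zero_mem _
      | add y z hy hz ihy ihz =>
        intro hy'
        have hy1 : y ∈ D₀ := (hmem _).mpr (hp ▸ hy)
        have hz1 : z ∈ D₀ := (hmem _).mpr (hp ▸ hz)
        have : (⟨y + z, hy'⟩ : D₀) = ⟨y, hy1⟩ + ⟨z, hz1⟩ := rfl
        rw [this]
        exact Submodule.add_mem _ (ihy hy1) (ihz hz1)
      | smul a y hy ihy =>
        intro hy'
        have hy1 : y ∈ D₀ := (hmem _).mpr (hp ▸ hy)
        have : (⟨a • y, hy'⟩ : D₀) = a • ⟨y, hy1⟩ := rfl
        rw [this]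
        exact Submodule.smul_mem _ _ (ihy hy1)
    exact key _ hx x.2
  obtain ⟨B₀, hB₀⟩ : ∃ B₀ : Module.Basis (Fin d) E D₀, ∀ i, B₀ i = bE i :=
    ⟨Module.Basis.mk hli hspan, fun i => by rw [Module.Basis.mk_apply]⟩
  have hfinD₀ : FiniteDimensional E D₀ := Module.Finite.of_basis B₀
  obtain ⟨Φ, hΦ⟩ : ∃ Φ : L ⊗[E] D₀ →ₐ[L] D, ∀ (c : L) (y : D₀), Φ (c ⊗ₜ[E] y) = c • (y : D) := by
    refine ⟨Algebra.TensorProduct.lift (Algebra.ofId L D) D₀.val
      (fun c y => Algebra.commutes c _), fun c y => ?_⟩
    rw [Algebra.TensorProduct.lift_tmul, Algebra.ofId_apply, Algebra.smul_def]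
    rfl
  have hΦlin : Φ.toLinearMap =
      ((Algebra.TensorProduct.basis L B₀).equiv b (Equiv.refl _)).toLinearMap := by
    apply (Algebra.TensorProduct.basis L B₀).ext
    intro i
    rw [LinearEquiv.coe_coe, Module.Basis.equiv_apply, Algebra.TensorProduct.basis_apply,
      AlgHom.toLinearMap_apply, hΦ, one_smul, hB₀, hbE]
    rfl
  have hbij : Function.Bijective Φ := by
    have h1 : (Φ : L ⊗[E] D₀ → D) =
        ((Algebra.TensorProduct.basis L B₀).equiv b (Equiv.refl _)) := by
      funext x
      exact LinearMap.congr_fun hΦlin x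
    rw [h1]
    exact LinearEquiv.bijective _
  exact ⟨E, D₀, hEfin, hfinD₀, ⟨AlgEquiv.ofBijective Φ hbij⟩⟩

end Groth.Agent.Lib.Helper86.FiniteDescent
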