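import Groth.Agent.Lib.Helper86.Flattening1
import Groth.Agent.Lib.Helper7.NilFlat

/-!
# Flatness modulo a smaller ideal (helper86)

`core_injective`: `M/IM` flat over `A/I`, `M_p` flat over `A` on a quasi-compact set `U` of primes,
`I₂ = ker (I → Γ(U, I/I²))`. Then `M ⊗ (I/I₂) → M ⊗ (A/I₂)` is injective.
-/

set_option autoImplicit false
set_option linter.style.haveILetI false
universe u
open TensorProduct

namespace Groth.Agent.Lib.Helper86.FlatSmaller

theorem core_injective {A : Type u} [CommRing A] (I I₂ : Ideal A) (U : Set (PrimeSpectrum A))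
    (hUc : IsCompact U) (M : Type u) [AddCommGroup M] [Module A M]
    (hMI : Module.Flat (A ⧸ I) ((A ⧸ I) ⊗[A] M))
    (hflat : ∀ p ∈ U, Module.Flat A (LocalizedModule p.asIdeal.primeCompl M))
    (hI₂ : ∀ x : A, x ∈ I₂ ↔ x ∈ I ∧ ∀ p ∈ U, ∃ s : A, s ∉ p.asIdeal ∧ s * x ∈ I ^ 2) :
    Function.Injective (LinearMap.lTensor M
      ((Submodule.subtype (I.map (Ideal.Quotient.mk I₂))).restrictScalars A)) := by
  classical
  rw [injective_iff_map_eq_zero]
  intro ξ hξ
  -- (i) local annihilation
  have h1 : ∀ p ∈ U, ∃ s : A, s ∉ p.asIdeal ∧ s • ξ = 0 := by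
    intro p hp
    haveI := hflat p hp
    have hinj : Function.Injective (LinearMap.lTensor (LocalizedModule p.asIdeal.primeCompl M)
        ((Submodule.subtype (I.map (Ideal.Quotient.mk I₂))).restrictScalars A)) :=
      Module.Flat.lTensor_preserves_injective_linearMap _ (Submodule.subtype_injective _)
    have hloc : IsLocalizedModule p.asIdeal.primeCompl
        (AlgebraTensorModule.rTensor A (I.map (Ideal.Quotient.mk I₂))
          (LocalizedModule.mkLinearMap p.asIdeal.primeCompl M)) := inferInstance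
    have hsq : LinearMap.lTensor (LocalizedModule p.asIdeal.primeCompl M)
        ((Submodule.subtype (I.map (Ideal.Quotient.mk I₂))).restrictScalars A)
        (LinearMap.rTensor (I.map (Ideal.Quotient.mk I₂))
          (LocalizedModule.mkLinearMap p.asIdeal.primeCompl M) ξ) =
        LinearMap.rTensor (A ⧸ I₂) (LocalizedModule.mkLinearMap p.asIdeal.primeCompl M)
          (LinearMap.lTensor M
            ((Submodule.subtype (I.map (Ideal.Quotient.mk I₂))).restrictScalars A) ξ) := by
      rw [← LinearMap.comp_apply, ← LinearMap.comp_apply, LinearMap.lTensor_comp_rTensor,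
        LinearMap.rTensor_comp_lTensor]
    rw [hξ, map_zero] at hsq
    have h0 : LinearMap.rTensor (I.map (Ideal.Quotient.mk I₂))
          (LocalizedModule.mkLinearMap p.asIdeal.primeCompl M) ξ = 0 := by
      apply hinj
      rw [hsq, map_zero]
    have h0' : (AlgebraTensorModule.rTensor A (I.map (Ideal.Quotient.mk I₂))
          (LocalizedModule.mkLinearMap p.asIdeal.primeCompl M)) ξ =
        (AlgebraTensorModule.rTensor A (I.map (Ideal.Quotient.mk I₂))
          (LocalizedModule.mkLinearMap p.asIdeal.primeCompl M)) 0 := by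
      rw [map_zero]
      exact h0
    obtain ⟨s, hs⟩ := IsLocalizedModule.exists_of_eq (S := p.asIdeal.primeCompl) h0'
    refine ⟨s.1, s.2, ?_⟩
    rw [smul_zero] at hs
    exact hs
  -- (ii) compactness
  let T : Type u := {s : A // s • ξ = 0}
  have hcover : U ⊆ ⋃ s : T, (PrimeSpectrum.basicOpen s.1 : Set (PrimeSpectrum A)) := by
    intro p hp
    obtain ⟨s, hsp, hs⟩ := h1 p hp
    exact Set.mem_iUnion.2 ⟨⟨s, hs⟩, hsp⟩
  obtain ⟨t, ht⟩ := hUc.elim_finite_subcover
    (fun s : T => (PrimeSpectrum.basicOpen s.1 : Set (PrimeSpectrum A)))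
    (fun s => (PrimeSpectrum.basicOpen s.1).isOpen) hcover
  -- the module `Ī` is killed by `I`
  have htors : Module.IsTorsionBySet A (I.map (Ideal.Quotient.mk I₂)) (I : Set A) := by
    rintro ⟨x, hx⟩ ⟨a, ha⟩
    obtain ⟨b, hb, rfl⟩ := (Ideal.mem_map_iff_of_surjective _ Ideal.Quotient.mk_surjective).1 hx
    apply Subtype.ext
    show a • (Ideal.Quotient.mk I₂ b) = 0
    rw [Algebra.smul_def, Ideal.Quotient.algebraMap_eq, ← map_mul, Ideal.Quotient.eq_zero_iff_mem,
      hI₂]
    refine ⟨I.mul_mem_left _ hb, fun p _ => ⟨1, ?_, ?_⟩⟩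
    · exact fun h => p.asIdeal.ne_top_iff_one.1 p.isPrime.ne_top h
    · rw [one_mul, pow_two]
      exact Ideal.mul_mem_mul ha hb
  letI : Module (A ⧸ I) (I.map (Ideal.Quotient.mk I₂)) := htors.module
  haveI : IsScalarTower A (A ⧸ I) (I.map (Ideal.Quotient.mk I₂)) := htors.isScalarTower
  -- (iii) β
  let β₀ : (I.map (Ideal.Quotient.mk I₂)) →ₗ[A] (t → (I.map (Ideal.Quotient.mk I₂))) :=
    LinearMap.pi (fun s => (s.1.1 : A) • LinearMap.id)
  let β : (I.map (Ideal.Quotient.mk I₂)) →ₗ[A ⧸ I] (t → (I.map (Ideal.Quotient.mk I₂))) :=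
    LinearMap.extendScalarsOfSurjective Ideal.Quotient.mk_surjective β₀
  have hβ : Function.Injective β := by
    rw [injective_iff_map_eq_zero]
    rintro ⟨x, hx⟩ hβx
    obtain ⟨b, hb, rfl⟩ := (Ideal.mem_map_iff_of_surjective _ Ideal.Quotient.mk_surjective).1 hx
    apply Subtype.ext
    show Ideal.Quotient.mk I₂ b = 0
    rw [Ideal.Quotient.eq_zero_iff_mem, hI₂]
    refine ⟨hb, fun p hp => ?_⟩
    obtain ⟨s, hs, hps⟩ := Set.mem_iUnion₂.1 (ht hp)
    have h2 : (s.1 : A) • (⟨Ideal.Quotient.mk I₂ b, hx⟩ : I.map (Ideal.Quotient.mk I₂)) = 0 :=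
      congrFun hβx ⟨s, hs⟩
    have h3 : s.1 * b ∈ I₂ := by
      have := congrArg Subtype.val h2
      rw [Submodule.coe_smul_of_tower, ZeroMemClass.coe_zero] at this
      rw [Algebra.smul_def, Ideal.Quotient.algebraMap_eq, ← map_mul,
        Ideal.Quotient.eq_zero_iff_mem] at this
      exact this
    obtain ⟨s', hs', hs'b⟩ := ((hI₂ _).1 h3).2 p hp
    refine ⟨s' * s.1, ?_, by rw [mul_assoc]; exact hs'b⟩
    exact fun h => (p.isPrime.mem_or_mem h).elim hs' hps
  have hβinj := Groth.Agent.Lib.Helper57.lTensor_injective_of_flat_baseChange (R := A)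
    (S := A ⧸ I) M β hβ
  -- (v)
  have hcomp : ∀ (η : M ⊗[A] (I.map (Ideal.Quotient.mk I₂))) (s : t),
      TensorProduct.piRight A A M (fun _ : t => (I.map (Ideal.Quotient.mk I₂)))
        (LinearMap.lTensor M (β.restrictScalars A) η) s = (s.1.1 : A) • η := by
    intro η s
    induction η using TensorProduct.induction_on with
    | zero => simp
    | tmul m x =>
      simp only [LinearMap.lTensor_tmul, TensorProduct.piRight_apply,
        TensorProduct.piRightHom_tmul]
      rw [TensorProduct.smul_tmul', TensorProduct.smul_tmul]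
      rfl
    | add η η' h h' =>
      rw [map_add, map_add, Pi.add_apply, h, h', smul_add]
  apply hβinj
  rw [map_zero]
  apply (TensorProduct.piRight A A M (fun _ : t => (I.map (Ideal.Quotient.mk I₂)))).injective
  rw [map_zero]
  funext s
  rw [hcomp ξ s, Pi.zero_apply]
  exact s.1.2

end Groth.Agent.Lib.Helper86.FlatSmaller
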