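import Groth.Agent.S4852
import Groth.Agent.Lib.Helper57.LocalFlat

/-!
# Flattening ideals: general lemmas (helper86)

* `flat_tower_iff`, `flat_of_tower`, `flat_quot_mono`: base change of flatness in towers.
* `flat_of_injective`: descent of flatness along an injective map out of an Artinian ring.
* `flat_inf`: flattening ideals with Artinian quotient are closed under `⊓`.
* `isHausdorff_of_finite_algebra`: Krull intersection for modules finite over a Noetherian algebra.
* `flat_quot_of_forall_pow`: local criterion: flat mod `I ⊔ m ^ n` for all `n` implies flat mod `I`.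
-/

set_option autoImplicit false
set_option linter.style.haveILetI false
universe u
open TensorProduct

namespace Groth.Agent.Lib.Helper86.Flattening

theorem flat_tower_iff (A C D N : Type u) [CommRing A] [CommRing C] [CommRing D] [Algebra A C]
    [Algebra A D] [Algebra C D] [IsScalarTower A C D] [AddCommGroup N] [Module A N] :
    Module.Flat D (D ⊗[C] (C ⊗[A] N)) ↔ Module.Flat D (D ⊗[A] N) :=
  ⟨fun _ => Module.Flat.of_linearEquiv
      (TensorProduct.AlgebraTensorModule.cancelBaseChange A C D D N).symm,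
   fun _ => Module.Flat.of_linearEquiv
      (TensorProduct.AlgebraTensorModule.cancelBaseChange A C D D N)⟩

theorem flat_of_tower (A C D N : Type u) [CommRing A] [CommRing C] [CommRing D] [Algebra A C]
    [Algebra A D] [Algebra C D] [IsScalarTower A C D] [AddCommGroup N] [Module A N]
    (h : Module.Flat C (C ⊗[A] N)) : Module.Flat D (D ⊗[A] N) :=
  (flat_tower_iff A C D N).1 inferInstance

theorem flat_quot_mono (A N : Type u) [CommRing A] [AddCommGroup N] [Module A N]
    {I J : Ideal A} (hIJ : I ≤ J) (hI : Module.Flat (A ⧸ I) ((A ⧸ I) ⊗[A] N)) :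
    Module.Flat (A ⧸ J) ((A ⧸ J) ⊗[A] N) := by
  letI : Algebra (A ⧸ I) (A ⧸ J) := (Ideal.Quotient.factor hIJ).toAlgebra
  haveI : IsScalarTower A (A ⧸ I) (A ⧸ J) := IsScalarTower.of_algebraMap_eq (fun x => rfl)
  exact flat_of_tower A (A ⧸ I) (A ⧸ J) N hI

theorem hnil_of_artinian (C : Type u) [CommRing C] [IsArtinianRing C] :
    IsNilpotent (Ring.jacobson C) := by
  rw [← Ideal.jacobson_bot]
  exact IsArtinianRing.isNilpotent_jacobson_bot

/-- descent of flatness along an injective map out of an Artinian ring -/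
theorem flat_of_injective (A C D N : Type u) [CommRing A] [CommRing C] [CommRing D] [Algebra A C]
    [Algebra A D] [Algebra C D] [IsScalarTower A C D] [AddCommGroup N] [Module A N]
    [IsArtinianRing C] (hinj : Function.Injective (algebraMap C D))
    (h : Module.Flat D (D ⊗[A] N)) : Module.Flat C (C ⊗[A] N) := by
  refine (Groth.Agent.S4852.result (A := C) (hnil_of_artinian C) (ι := PUnit.{u+1})
    (fun _ => D) ?_ (C ⊗[A] N)).2 ?_
  · intro a ha
    exact hinj (by rw [ha PUnit.unit, map_zero])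
  · intro _
    exact (flat_tower_iff A C D N).2 h

/-- intersection of two flattening ideals is flattening, when the quotient is Artinian -/
theorem flat_inf (A N : Type u) [CommRing A] [AddCommGroup N] [Module A N]
    (I J : Ideal A) [IsArtinianRing (A ⧸ (I ⊓ J))]
    (hI : Module.Flat (A ⧸ I) ((A ⧸ I) ⊗[A] N))
    (hJ : Module.Flat (A ⧸ J) ((A ⧸ J) ⊗[A] N)) :
    Module.Flat (A ⧸ (I ⊓ J)) ((A ⧸ (I ⊓ J)) ⊗[A] N) := by
  let ι : Type u := {K : Ideal A // K = I ∨ K = J}
  have hle : ∀ i : ι, I ⊓ J ≤ i.1 := by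
    rintro ⟨K, rfl | rfl⟩
    · exact inf_le_left
    · exact inf_le_right
  letI alg : ∀ i : ι, Algebra (A ⧸ (I ⊓ J)) (A ⧸ i.1) :=
    fun i => (Ideal.Quotient.factor (hle i)).toAlgebra
  haveI tow : ∀ i : ι, IsScalarTower A (A ⧸ (I ⊓ J)) (A ⧸ i.1) :=
    fun i => IsScalarTower.of_algebraMap_eq (fun x => rfl)
  refine (Groth.Agent.S4852.result (A := A ⧸ (I ⊓ J)) (hnil_of_artinian _) (ι := ι)
    (fun i => A ⧸ i.1) ?_ ((A ⧸ (I ⊓ J)) ⊗[A] N)).2 ?_
  · intro a ha
    obtain ⟨x, rfl⟩ := Ideal.Quotient.mk_surjective a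
    have h1 : x ∈ I := by
      have := ha ⟨I, Or.inl rfl⟩
      exact Ideal.Quotient.eq_zero_iff_mem.1 this
    have h2 : x ∈ J := by
      have := ha ⟨J, Or.inr rfl⟩
      exact Ideal.Quotient.eq_zero_iff_mem.1 this
    exact Ideal.Quotient.eq_zero_iff_mem.2 ⟨h1, h2⟩
  · intro i
    have hi : Module.Flat (A ⧸ i.1) ((A ⧸ i.1) ⊗[A] N) := by
      obtain ⟨K, hK⟩ := i
      rcases hK with rfl | rfl
      · exact hI
      · exact hJ
    exact (flat_tower_iff A (A ⧸ (I ⊓ J)) (A ⧸ i.1) N).2 hi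

/-- A module finite over a Noetherian `R`-algebra `T` is `J`-adically Hausdorff as soon as
`J T` lies in the Jacobson radical of `T`. -/
theorem isHausdorff_of_finite_algebra (R T X : Type*) [CommRing R] [CommRing T] [Algebra R T]
    [IsNoetherianRing T] [AddCommGroup X] [Module R X] [Module T X] [IsScalarTower R T X]
    [Module.Finite T X] (J : Ideal R)
    (hJ : J.map (algebraMap R T) ≤ Ideal.jacobson ⊥) : IsHausdorff J X := by
  constructor
  intro x hx
  have key : ∀ n : ℕ, ∀ y : X, y ∈ (J ^ n • ⊤ : Submodule R X) →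
      y ∈ ((J.map (algebraMap R T)) ^ n • ⊤ : Submodule T X) := by
    intro n y hy
    refine Submodule.smul_induction_on hy ?_ ?_
    · intro r hr z _
      rw [← algebraMap_smul T r z]
      refine Submodule.smul_mem_smul ?_ Submodule.mem_top
      rw [← Ideal.map_pow]
      exact Ideal.mem_map_of_mem _ hr
    · intro a b ha hb
      exact add_mem ha hb
  have h2 : x ∈ (⨅ i : ℕ, (J.map (algebraMap R T)) ^ i • ⊤ : Submodule T X) := by
    rw [Submodule.mem_iInf]
    intro i
    apply key i x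
    have := hx i
    rw [SModEq.zero] at this
    exact this
  rw [Ideal.iInf_pow_smul_eq_bot_of_le_jacobson _ hJ] at h2
  exact (Submodule.mem_bot T).1 h2

theorem finite_tensor_left (R T N P : Type*) [CommRing R] [CommRing T] [Algebra R T]
    [AddCommGroup N] [Module R N] [Module T N] [IsScalarTower R T N] [Module.Finite T N]
    [AddCommGroup P] [Module R P] [Module.Finite R P] : Module.Finite T (N ⊗[R] P) := by
  obtain ⟨k, f, hf⟩ := Module.Finite.exists_fin' R P
  let g : N ⊗[R] (Fin k → R) →ₗ[T] N ⊗[R] P :=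
    TensorProduct.AlgebraTensorModule.map LinearMap.id f
  have hg : Function.Surjective g := by
    have : (g : N ⊗[R] (Fin k → R) → N ⊗[R] P) = LinearMap.lTensor N f := by
      ext x
      rfl
    rw [this]
    exact LinearMap.lTensor_surjective N hf
  haveI : Module.Finite T (N ⊗[R] (Fin k → R)) :=
    Module.Finite.equiv (TensorProduct.piScalarRight R T N (Fin k)).symm
  exact Module.Finite.of_surjective g hg

/-- `J`-adic Hausdorffness of `(B ⊗[R] N) ⊗[B] 𝔞` for `B = R ⧸ I`. -/
theorem isHausdorff_aux (R T N : Type u) [CommRing R] [IsNoetherianRing R] [CommRing T]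
    [Algebra R T] [IsNoetherianRing T] [AddCommGroup N] [Module R N] [Module T N]
    [IsScalarTower R T N] [Module.Finite T N] (I m : Ideal R)
    (hm : m.map (algebraMap R T) ≤ Ideal.jacobson ⊥) (𝔞 : Ideal (R ⧸ I)) :
    IsHausdorff (m.map (Ideal.Quotient.mk I)) (((R ⧸ I) ⊗[R] N) ⊗[R ⧸ I] 𝔞) := by
  haveI : Module.Finite R 𝔞 := by
    haveI : IsNoetherian R (R ⧸ I) := inferInstance
    exact Module.Finite.of_injective ((Submodule.subtype 𝔞).restrictScalars R)
      (Submodule.subtype_injective 𝔞)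
  haveI : Module.Finite T (N ⊗[R] 𝔞) := finite_tensor_left R T N 𝔞
  have hX : IsHausdorff m (N ⊗[R] 𝔞) := isHausdorff_of_finite_algebra R T (N ⊗[R] 𝔞) m hm
  let e : (((R ⧸ I) ⊗[R] N) ⊗[R ⧸ I] 𝔞) ≃ₗ[R] N ⊗[R] 𝔞 :=
    (TensorProduct.comm (R ⧸ I) ((R ⧸ I) ⊗[R] N) 𝔞).restrictScalars R ≪≫ₗ
    (TensorProduct.AlgebraTensorModule.cancelBaseChange R (R ⧸ I) (R ⧸ I) 𝔞 N).restrictScalars R
      ≪≫ₗ TensorProduct.comm R 𝔞 N
  constructor
  intro x hx
  have h0 : e x = 0 := by
    apply hX.haus'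
    intro n
    rw [SModEq.zero]
    have hxn := hx n
    rw [SModEq.zero] at hxn
    refine Submodule.smul_induction_on hxn ?_ ?_
    · intro j hj y _
      rw [← Ideal.map_pow] at hj
      obtain ⟨r, hr, rfl⟩ := (Ideal.mem_map_iff_of_surjective _ Ideal.Quotient.mk_surjective).1 hj
      have : (Ideal.Quotient.mk I r) • y = r • y := by
        rw [← Ideal.Quotient.algebraMap_eq, algebraMap_smul]
      rw [this, map_smul]
      exact Submodule.smul_mem_smul hr Submodule.mem_top
    · intro a b ha hb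
      rw [map_add]
      exact add_mem ha hb
  exact e.map_eq_zero_iff.1 h0

/-- Local criterion: if `N` (finite over a Noetherian `R`-algebra `T` with `m T ⊆ rad T`) is flat
modulo `I ⊔ m ^ n` for all `n > 0`, then it is flat modulo `I`. -/
theorem flat_quot_of_forall_pow (R T N : Type u) [CommRing R] [IsNoetherianRing R] [CommRing T]
    [Algebra R T] [IsNoetherianRing T] [AddCommGroup N] [Module R N] [Module T N]
    [IsScalarTower R T N] [Module.Finite T N] (I m : Ideal R)
    (hm : m.map (algebraMap R T) ≤ Ideal.jacobson ⊥)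
    (h : ∀ n : ℕ, 0 < n → Module.Flat (R ⧸ (I ⊔ m ^ n)) ((R ⧸ (I ⊔ m ^ n)) ⊗[R] N)) :
    Module.Flat (R ⧸ I) ((R ⧸ I) ⊗[R] N) := by
  apply Groth.Agent.Lib.Helper57.flat_of_flat_mod_powers (m.map (Ideal.Quotient.mk I))
    ((R ⧸ I) ⊗[R] N)
  · intro 𝔞
    exact isHausdorff_aux R T N I m hm 𝔞
  · intro n hn
    rw [flat_tower_iff R (R ⧸ I) ((R ⧸ I) ⧸ (m.map (Ideal.Quotient.mk I)) ^ n) N]
    have hker : ∀ a ∈ I ⊔ m ^ n,
        algebraMap R ((R ⧸ I) ⧸ (m.map (Ideal.Quotient.mk I)) ^ n) a = 0 := by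
      intro a ha
      obtain ⟨b, hb, c, hc, rfl⟩ := Submodule.mem_sup.1 ha
      rw [map_add]
      have h1 : algebraMap R ((R ⧸ I) ⧸ (m.map (Ideal.Quotient.mk I)) ^ n) b = 0 := by
        rw [IsScalarTower.algebraMap_apply R (R ⧸ I), Ideal.Quotient.algebraMap_eq,
          Ideal.Quotient.algebraMap_eq, Ideal.Quotient.eq_zero_iff_mem.2 hb, map_zero]
      have h2 : algebraMap R ((R ⧸ I) ⧸ (m.map (Ideal.Quotient.mk I)) ^ n) c = 0 := by
        rw [IsScalarTower.algebraMap_apply R (R ⧸ I), Ideal.Quotient.algebraMap_eq,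
          Ideal.Quotient.algebraMap_eq, Ideal.Quotient.eq_zero_iff_mem, ← Ideal.map_pow]
        exact Ideal.mem_map_of_mem _ hc
      rw [h1, h2, add_zero]
    letI : Algebra (R ⧸ (I ⊔ m ^ n)) ((R ⧸ I) ⧸ (m.map (Ideal.Quotient.mk I)) ^ n) :=
      (Ideal.Quotient.lift _ (algebraMap R ((R ⧸ I) ⧸ (m.map (Ideal.Quotient.mk I)) ^ n))
        hker).toAlgebra
    haveI : IsScalarTower R (R ⧸ (I ⊔ m ^ n)) ((R ⧸ I) ⧸ (m.map (Ideal.Quotient.mk I)) ^ n) :=
      IsScalarTower.of_algebraMap_eq (fun x => rfl)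
    exact flat_of_tower R (R ⧸ (I ⊔ m ^ n)) ((R ⧸ I) ⧸ (m.map (Ideal.Quotient.mk I)) ^ n) N
      (h n hn)

end Groth.Agent.Lib.Helper86.Flattening
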