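import Mathlib

/-!
# Least ideal with a "flattening-like" property over a complete Noetherian local ring (helper86)

`exists_least`: abstract limit argument (Artinian levels + completeness + Krull intersection).
-/

set_option autoImplicit false
set_option linter.style.haveILetI false
universe u

namespace Groth.Agent.Lib.Helper86.Flattening

open IsLocalRing

theorem isArtinianRing_quot_pow (R : Type u) [CommRing R] [IsLocalRing R] [IsNoetherianRing R]
    (n : ℕ) : IsArtinianRing (R ⧸ maximalIdeal R ^ (n + 1)) := by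
  apply IsLocalRing.quotient_artinian_of_mem_minimalPrimes_of_isLocalRing
  refine ⟨⟨inferInstance, Ideal.pow_le_self (by omega)⟩, ?_⟩
  rintro p ⟨hp, hle⟩ _
  exact hp.le_of_pow_le hle

theorem isArtinianRing_quot_of_pow_le (R : Type u) [CommRing R] [IsLocalRing R]
    [IsNoetherianRing R] (n : ℕ) (K : Ideal R) (h : maximalIdeal R ^ (n + 1) ≤ K) :
    IsArtinianRing (R ⧸ K) := by
  haveI := isArtinianRing_quot_pow R n
  exact Function.Surjective.isArtinianRing (f := Ideal.Quotient.factor h)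
    (Ideal.Quotient.factor_surjective h)

theorem iInf_sup_pow_eq (R : Type u) [CommRing R] [IsLocalRing R] [IsNoetherianRing R]
    (J : Ideal R) : ∀ x : R, (∀ n : ℕ, x ∈ J ⊔ maximalIdeal R ^ (n + 1)) → x ∈ J := by
  intro x hx
  have h1 : (⨅ i : ℕ, (maximalIdeal R) ^ i • (⊤ : Submodule R (R ⧸ J))) = ⊥ :=
    Ideal.iInf_pow_smul_eq_bot_of_le_jacobson _ (IsLocalRing.maximalIdeal_le_jacobson _)
  have h2 : (Ideal.Quotient.mk J x : R ⧸ J) ∈
      (⨅ i : ℕ, (maximalIdeal R) ^ i • (⊤ : Submodule R (R ⧸ J))) := by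
    rw [Submodule.mem_iInf]
    intro i
    obtain ⟨b, hb, c, hc, rfl⟩ := Submodule.mem_sup.1 (hx i)
    have hc' : c ∈ maximalIdeal R ^ i := Ideal.pow_le_pow_right (Nat.le_succ i) hc
    have : (Ideal.Quotient.mk J (b + c) : R ⧸ J) = c • (Ideal.Quotient.mk J 1) := by
      rw [map_add, Ideal.Quotient.eq_zero_iff_mem.2 hb, zero_add, Algebra.smul_def,
        Ideal.Quotient.algebraMap_eq, map_one, mul_one]
    rw [this]
    exact Submodule.smul_mem_smul hc' Submodule.mem_top
  rw [h1] at h2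
  exact Ideal.Quotient.eq_zero_iff_mem.1 ((Submodule.mem_bot R).1 h2)

/-- level `n`: least ideal containing `m^(n+1)` with `P`. -/
theorem exists_least_level (R : Type u) [CommRing R] [IsLocalRing R] [IsNoetherianRing R]
    (P : Ideal R → Prop)
    (hinf : ∀ (n : ℕ) (I J : Ideal R), maximalIdeal R ^ (n + 1) ≤ I → maximalIdeal R ^ (n + 1) ≤ J →
      P I → P J → P (I ⊓ J))
    (hm : P (maximalIdeal R)) (n : ℕ) :
    ∃ I : Ideal R, maximalIdeal R ^ (n + 1) ≤ I ∧ P I ∧
      ∀ K : Ideal R, maximalIdeal R ^ (n + 1) ≤ K → P K → I ≤ K := by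
  haveI := isArtinianRing_quot_pow R n
  let mk := Ideal.Quotient.mk (maximalIdeal R ^ (n + 1))
  have hmk : Function.Surjective mk := Ideal.Quotient.mk_surjective
  have hcm : ∀ K : Ideal R, maximalIdeal R ^ (n + 1) ≤ K → (K.map mk).comap mk = K := by
    intro K hK
    rw [Ideal.comap_map_of_surjective mk hmk, ← RingHom.ker_eq_comap_bot, Ideal.mk_ker]
    exact sup_eq_left.2 hK
  let S : Set (Ideal (R ⧸ maximalIdeal R ^ (n + 1))) := {K' | P (K'.comap mk)}
  have hne : S.Nonempty := by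
    refine ⟨(maximalIdeal R).map mk, ?_⟩
    show P (((maximalIdeal R).map mk).comap mk)
    rw [hcm _ (Ideal.pow_le_self (by omega))]
    exact hm
  obtain ⟨K', hK'S, hK'min⟩ :=
    (wellFounded_lt (α := Ideal (R ⧸ maximalIdeal R ^ (n + 1)))).has_min S hne
  have hker : maximalIdeal R ^ (n + 1) ≤ K'.comap mk := by
    intro x hx
    rw [Ideal.mem_comap]
    have : mk x = 0 := Ideal.Quotient.eq_zero_iff_mem.2 hx
    rw [this]
    exact K'.zero_mem
  refine ⟨K'.comap mk, hker, hK'S, ?_⟩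
  intro K hK hPK
  have h1 : (K' ⊓ K.map mk) ∈ S := by
    show P ((K' ⊓ K.map mk).comap mk)
    rw [Ideal.comap_inf, hcm K hK]
    exact hinf n _ _ hker hK hK'S hPK
  have h2 : ¬ (K' ⊓ K.map mk < K') := hK'min _ h1
  have h3 : K' ⊓ K.map mk = K' := by
    by_contra hne'
    exact h2 (lt_of_le_of_ne inf_le_left hne')
  have h4 : K' ≤ K.map mk := inf_eq_left.1 h3
  calc K'.comap mk ≤ (K.map mk).comap mk := Ideal.comap_mono h4
    _ = K := hcm K hK

theorem exists_least (R : Type u) [CommRing R] [IsLocalRing R] [IsNoetherianRing R]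
    [IsAdicComplete (maximalIdeal R) R] (P : Ideal R → Prop)
    (hmono : ∀ I J : Ideal R, I ≤ J → P I → P J)
    (hinf : ∀ (n : ℕ) (I J : Ideal R), maximalIdeal R ^ (n + 1) ≤ I → maximalIdeal R ^ (n + 1) ≤ J →
      P I → P J → P (I ⊓ J))
    (hm : P (maximalIdeal R))
    (hlim : ∀ I : Ideal R, (∀ n : ℕ, P (I ⊔ maximalIdeal R ^ (n + 1))) → P I) :
    ∃ I : Ideal R, I ≤ maximalIdeal R ∧ P I ∧ ∀ J, P J → I ≤ J := by
  choose 𝔦 h𝔦a h𝔦P h𝔦least using exists_least_level R P hinf hm
  have hpow : ∀ i j : ℕ, i ≤ j → maximalIdeal R ^ j ≤ maximalIdeal R ^ i :=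
    fun i j hij => Ideal.pow_le_pow_right hij
  have hanti : Antitone 𝔦 := by
    apply antitone_nat_of_succ_le
    intro n
    exact h𝔦least (n + 1) (𝔦 n) ((hpow (n + 1) (n + 2) (by omega)).trans (h𝔦a n)) (h𝔦P n)
  have hsup : ∀ n, 𝔦 n ≤ 𝔦 (n + 1) ⊔ maximalIdeal R ^ (n + 1) := by
    intro n
    exact h𝔦least n _ le_sup_right (hmono _ _ le_sup_left (h𝔦P (n + 1)))
  -- the key completeness step
  have key : ∀ n, 𝔦 n ≤ (⨅ k, 𝔦 k) ⊔ maximalIdeal R ^ (n + 1) := by
    intro n x hx
    have step : ∀ (k : ℕ) (y : R), y ∈ 𝔦 (n + k) →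
        ∃ y' : R, y' ∈ 𝔦 (n + k + 1) ∧ y - y' ∈ maximalIdeal R ^ (n + k + 1) := by
      intro k y hy
      obtain ⟨b, hb, c, hc, rfl⟩ := Submodule.mem_sup.1 (hsup (n + k) hy)
      exact ⟨b, hb, by simpa using hc⟩
    choose! g hg1 hg2 using step
    let y : ℕ → R := fun k => Nat.rec x (fun k z => g k z) k
    have hy0 : y 0 = x := rfl
    have hys : ∀ k, y (k + 1) = g k (y k) := fun k => rfl
    have hy : ∀ k, y k ∈ 𝔦 (n + k) := by
      intro k
      induction k with
      | zero => simpa [hy0] using hx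
      | succ k ih => rw [hys]; exact hg1 k _ ih
    have hdiff : ∀ k, y k - y (k + 1) ∈ maximalIdeal R ^ (n + k + 1) := by
      intro k
      rw [hys]
      exact hg2 k _ (hy k)
    have hcauchy : ∀ i j, i ≤ j → y i - y j ∈ maximalIdeal R ^ (n + i + 1) := by
      intro i j hij
      induction j, hij using Nat.le_induction with
      | base => simp
      | succ j hij ih =>
        have : y i - y (j + 1) = (y i - y j) + (y j - y (j + 1)) := by ring
        rw [this]
        exact add_mem ih (hpow (n + i + 1) (n + j + 1) (by omega) (hdiff j))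
    have hprec : IsPrecomplete (maximalIdeal R) R := inferInstance
    obtain ⟨L, hL⟩ := IsPrecomplete.prec hprec (f := y) (by
      intro i j hij
      rw [SModEq.sub_mem, smul_eq_mul, Ideal.mul_top]
      exact hpow i (n + i + 1) (by omega) (hcauchy i j hij))
    have hL' : ∀ k, y k - L ∈ maximalIdeal R ^ k := by
      intro k
      have := hL k
      rw [SModEq.sub_mem, smul_eq_mul, Ideal.mul_top] at this
      exact this
    have hLmem : L ∈ ⨅ k, 𝔦 k := by
      rw [Submodule.mem_iInf]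
      intro j
      have h1 : y (j + 1) ∈ 𝔦 j := hanti (by omega : j ≤ n + (j + 1)) (hy (j + 1))
      have h2 : y (j + 1) - L ∈ 𝔦 j := h𝔦a j (hL' (j + 1))
      have : L = y (j + 1) - (y (j + 1) - L) := by ring
      rw [this]
      exact sub_mem h1 h2
    have hxL : x - L ∈ maximalIdeal R ^ (n + 1) := by
      have h1 : y 0 - y (n + 1) ∈ maximalIdeal R ^ (n + 1) := by
        simpa using hcauchy 0 (n + 1) (by omega)
      have h2 : y (n + 1) - L ∈ maximalIdeal R ^ (n + 1) := hL' (n + 1)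
      have : x - L = (y 0 - y (n + 1)) + (y (n + 1) - L) := by rw [hy0]; ring
      rw [this]
      exact add_mem h1 h2
    have : x = L + (x - L) := by ring
    rw [this]
    exact Submodule.add_mem_sup hLmem hxL
  refine ⟨⨅ k, 𝔦 k, ?_, ?_, ?_⟩
  · refine (iInf_le 𝔦 0).trans ?_
    exact h𝔦least 0 _ (by simp) hm
  · apply hlim
    intro n
    exact hmono _ _ (key n) (h𝔦P n)
  · intro J hJ x hx
    apply iInf_sup_pow_eq R J x
    intro n
    have h1 : 𝔦 n ≤ J ⊔ maximalIdeal R ^ (n + 1) :=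
      h𝔦least n _ le_sup_right (hmono _ _ le_sup_left hJ)
    exact h1 ((iInf_le 𝔦 n) hx)

end Groth.Agent.Lib.Helper86.Flattening
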