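import Groth.Agent.Lib.Helper86.Flattening1
import Groth.Agent.Lib.Helper83.FlatLoc

/-!
# Flattening ideals: localisation lemmas (helper86)

* `isLocalizedModule_comp`: a composite of localisation maps is a localisation at the sup.
* `lTensor_injective_of_localized`, `flat_quot_of_forall_localized`: flatness of `Z / 𝔫 Z` over
  `R' / 𝔫` can be checked at the maximal ideals of an algebra `S'` acting on `Z` which contain `𝔫 S'`.
-/

set_option autoImplicit false
set_option linter.style.haveILetI false
universe u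
open TensorProduct

namespace Groth.Agent.Lib.Helper86.Flattening

theorem isLocalizedModule_comp {A : Type*} [CommRing A] (S₁ S₂ : Submonoid A)
    {M M₁ M₂ : Type*} [AddCommGroup M] [AddCommGroup M₁] [AddCommGroup M₂] [Module A M]
    [Module A M₁] [Module A M₂] (f : M →ₗ[A] M₁) (g : M₁ →ₗ[A] M₂)
    [IsLocalizedModule S₁ f] [IsLocalizedModule S₂ g] :
    IsLocalizedModule (S₁ ⊔ S₂) (g ∘ₗ f) := by
  have hunit1 : ∀ s ∈ S₁, Function.Bijective (fun y : M₂ => s • y) := by
    intro s hs
    have hb1 : Function.Bijective (fun y : M₁ => s • y) :=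
      (Module.End.isUnit_iff _).1 (IsLocalizedModule.map_units f ⟨s, hs⟩)
    constructor
    · intro y y' hyy'
      simp only at hyy'
      have h0 : s • (y - y') = 0 := by rw [smul_sub, hyy', sub_self]
      obtain ⟨⟨x, t⟩, hx⟩ := IsLocalizedModule.surj S₂ g (y - y')
      simp only at hx
      have h1 : g (s • x) = 0 := by
        rw [map_smul, ← hx, smul_comm, h0, smul_zero]
      have h1' : g (s • x) = g 0 := by rw [h1, map_zero]
      obtain ⟨t', ht'⟩ := IsLocalizedModule.exists_of_eq (S := S₂) (f := g) h1'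
      rw [smul_zero, Submonoid.smul_def, smul_comm] at ht'
      have h2 : (t' : A) • x = 0 := by
        apply hb1.1
        simp only
        rw [ht', smul_zero]
      have h3 : g x = 0 := by
        have hbt : Function.Bijective (fun y : M₂ => (t' : A) • y) :=
          (Module.End.isUnit_iff _).1 (IsLocalizedModule.map_units g t')
        apply hbt.1
        simp only
        rw [← map_smul, h2, map_zero, smul_zero]
      have h4 : (t : A) • (y - y') = 0 := by
        rw [← Submonoid.smul_def, hx, h3]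
      have hbt : Function.Bijective (fun y : M₂ => (t : A) • y) :=
        (Module.End.isUnit_iff _).1 (IsLocalizedModule.map_units g t)
      have h5 : y - y' = 0 := by
        apply hbt.1
        simp only
        rw [h4, smul_zero]
      exact sub_eq_zero.1 h5
    · intro y
      obtain ⟨⟨x, t⟩, hx⟩ := IsLocalizedModule.surj S₂ g y
      simp only at hx
      obtain ⟨x', hx'⟩ := hb1.2 x
      simp only at hx'
      have hbt : Function.Bijective (fun y : M₂ => (t : A) • y) :=
        (Module.End.isUnit_iff _).1 (IsLocalizedModule.map_units g t)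
      obtain ⟨y', hy'⟩ := hbt.2 (g x')
      simp only at hy'
      refine ⟨y', ?_⟩
      simp only
      apply hbt.1
      simp only
      rw [smul_comm, hy', ← map_smul, hx', ← hx, Submonoid.smul_def]
  constructor
  · rintro ⟨x, hx⟩
    obtain ⟨s₁, hs₁, s₂, hs₂, rfl⟩ := Submonoid.mem_sup.1 hx
    rw [Module.End.isUnit_iff]
    have hb2 : Function.Bijective (fun y : M₂ => s₂ • y) :=
      (Module.End.isUnit_iff _).1 (IsLocalizedModule.map_units g ⟨s₂, hs₂⟩)
    have : (fun y : M₂ => (s₁ * s₂) • y) = (fun y : M₂ => s₁ • y) ∘ (fun y : M₂ => s₂ • y) := by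
      funext y
      simp [mul_smul]
    show Function.Bijective (fun y : M₂ => (s₁ * s₂) • y)
    rw [this]
    exact (hunit1 s₁ hs₁).comp hb2
  · intro y
    obtain ⟨⟨x₁, t⟩, hx₁⟩ := IsLocalizedModule.surj S₂ g y
    obtain ⟨⟨x, s⟩, hx⟩ := IsLocalizedModule.surj S₁ f x₁
    simp only at hx₁ hx
    refine ⟨⟨x, ⟨(s : A) * (t : A), Submonoid.mul_mem _ (Submonoid.mem_sup_left s.2)
      (Submonoid.mem_sup_right t.2)⟩⟩, ?_⟩
    simp only [LinearMap.comp_apply]
    rw [Submonoid.smul_def]
    simp only
    rw [mul_smul, ← Submonoid.smul_def t, hx₁, ← map_smul, ← Submonoid.smul_def s, hx]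
  · intro x₁ x₂ h
    simp only [LinearMap.comp_apply] at h
    obtain ⟨t, ht⟩ := IsLocalizedModule.exists_of_eq (S := S₂) (f := g) h
    rw [Submonoid.smul_def, Submonoid.smul_def, ← map_smul, ← map_smul] at ht
    obtain ⟨s, hs⟩ := IsLocalizedModule.exists_of_eq (S := S₁) (f := f) ht
    refine ⟨⟨(s : A) * (t : A), Submonoid.mul_mem _ (Submonoid.mem_sup_left s.2)
      (Submonoid.mem_sup_right t.2)⟩, ?_⟩
    rw [Submonoid.smul_def, Submonoid.smul_def]
    simp only
    rw [mul_smul, mul_smul]
    exact hs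

theorem lTensor_injective_of_localized (R' S' Z : Type u) [CommRing R'] [CommRing S']
    [Algebra R' S'] [AddCommGroup Z] [Module R' Z] [Module S' Z] [IsScalarTower R' S' Z]
    (𝔫 : Ideal R')
    (H : ∀ (p : Ideal S') [p.IsMaximal], 𝔫.map (algebraMap R' S') ≤ p →
      Module.Flat R' (LocalizedModule p.primeCompl Z))
    {A B : Type u} [AddCommGroup A] [Module R' A] [AddCommGroup B] [Module R' B]
    (v : A →ₗ[R'] B) (hv : Function.Injective v) (hA : ∀ a ∈ 𝔫, ∀ x : A, a • x = 0) :
    Function.Injective (LinearMap.lTensor Z v) := by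
  rw [← AlgebraTensorModule.coe_lTensor (A := S')]
  refine injective_of_isLocalized_maximal _
    (fun P _ => AlgebraTensorModule.rTensor R' A (LocalizedModule.mkLinearMap P.primeCompl Z)) _
    (fun P _ => AlgebraTensorModule.rTensor R' B (LocalizedModule.mkLinearMap P.primeCompl Z)) _
    (fun P hP => ?_)
  rw [IsLocalizedModule.map_lTensor]
  by_cases hnp : 𝔫.map (algebraMap R' S') ≤ P
  · haveI := H P hnp
    rw [AlgebraTensorModule.coe_lTensor]
    exact Module.Flat.lTensor_preserves_injective_linearMap v hv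
  · rw [Ideal.map_le_iff_le_comap, SetLike.not_le_iff_exists] at hnp
    obtain ⟨a, ha, haP⟩ := hnp
    rw [Ideal.mem_comap] at haP
    have hzero : ∀ y : LocalizedModule P.primeCompl Z ⊗[R'] A, y = 0 := by
      intro y
      induction y using TensorProduct.induction_on with
      | zero => rfl
      | tmul z x =>
        have hb : Function.Bijective (fun z : LocalizedModule P.primeCompl Z =>
            (algebraMap R' S' a) • z) :=
          (Module.End.isUnit_iff _).1 (IsLocalizedModule.map_units
            (LocalizedModule.mkLinearMap P.primeCompl Z)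
            (⟨algebraMap R' S' a, haP⟩ : P.primeCompl))
        obtain ⟨z', hz'⟩ := hb.2 z
        simp only at hz'
        rw [algebraMap_smul] at hz'
        rw [← hz', TensorProduct.smul_tmul, hA a ha x, TensorProduct.tmul_zero]
      | add y y' hy hy' => rw [hy, hy', add_zero]
    intro y y' _
    rw [hzero y, hzero y']

theorem flat_quot_of_forall_localized (R' S' Z : Type u) [CommRing R'] [CommRing S']
    [Algebra R' S'] [AddCommGroup Z] [Module R' Z] [Module S' Z] [IsScalarTower R' S' Z]
    (𝔫 : Ideal R')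
    (H : ∀ (p : Ideal S') [p.IsMaximal], 𝔫.map (algebraMap R' S') ≤ p →
      Module.Flat R' (LocalizedModule p.primeCompl Z)) :
    Module.Flat (R' ⧸ 𝔫) ((R' ⧸ 𝔫) ⊗[R'] Z) := by
  rw [Module.Flat.iff_lTensor_injective']
  intro 𝔞
  have hA : ∀ a ∈ 𝔫, ∀ x : 𝔞, a • x = 0 := by
    intro a ha x
    rw [← algebraMap_smul (R' ⧸ 𝔫) a x, Ideal.Quotient.algebraMap_eq,
      Ideal.Quotient.eq_zero_iff_mem.2 ha, zero_smul]
  have hinj := lTensor_injective_of_localized R' S' Z 𝔫 H
    ((Submodule.subtype 𝔞).restrictScalars R') (Submodule.subtype_injective 𝔞) hA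
  let e : ∀ (X : Type u) [AddCommGroup X] [Module R' X] [Module (R' ⧸ 𝔫) X]
      [IsScalarTower R' (R' ⧸ 𝔫) X],
      (((R' ⧸ 𝔫) ⊗[R'] Z) ⊗[R' ⧸ 𝔫] X) ≃ₗ[R'] Z ⊗[R'] X := fun X _ _ _ _ =>
    (TensorProduct.comm (R' ⧸ 𝔫) ((R' ⧸ 𝔫) ⊗[R'] Z) X).restrictScalars R' ≪≫ₗ
    (TensorProduct.AlgebraTensorModule.cancelBaseChange R' (R' ⧸ 𝔫) (R' ⧸ 𝔫) X Z).restrictScalars R'
      ≪≫ₗ TensorProduct.comm R' X Z
  have hcomm : ∀ y, LinearMap.lTensor Z ((Submodule.subtype 𝔞).restrictScalars R') (e 𝔞 y) =
      e (R' ⧸ 𝔫) (LinearMap.lTensor ((R' ⧸ 𝔫) ⊗[R'] Z) (Submodule.subtype 𝔞) y) := by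
    intro y
    induction y using TensorProduct.induction_on with
    | zero => simp
    | tmul w x =>
      induction w using TensorProduct.induction_on with
      | zero => simp
      | tmul d z => simp [e]
      | add w w' hw hw' =>
        rw [TensorProduct.add_tmul, map_add, map_add, hw, hw', map_add, map_add]
    | add y y' hy hy' => rw [map_add, map_add, hy, hy', map_add, map_add]
  intro y y' hyy'
  apply (e 𝔞).injective
  apply hinj
  rw [hcomm, hcomm, hyy']

end Groth.Agent.Lib.Helper86.Flattening
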