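import Groth.Agent.Lib.Helper86.Flattening3

/-!
# Flattening ideals: base change of flatness at primes (helper86)

Setting: `S' = S ⊗_R R'`, `M' = S' ⊗_S M`.
* `flatAt_of_flat_tensor`: `R' ⊗_R M_q` flat over `R'` (`q = q' ∩ S`) implies `M'_{q'}` flat over `R'`.
* `flat_tensor_localized_of_flatAt`: if `M'_p` is flat over `R'` for all maximal `p ⊇ 𝔫 S'` then
  `(R'/𝔫) ⊗_R M_q` is flat over `R'/𝔫` for every prime `q` of `S`.
-/

set_option autoImplicit false
set_option linter.style.haveILetI false
universe u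
open TensorProduct

namespace Groth.Agent.Lib.Helper86.Flattening

section
variable {R S R' S' : Type u} [CommRing R] [CommRing S] [CommRing R'] [CommRing S']
    [Algebra R S] [Algebra R R'] [Algebra S S'] [Algebra R' S'] [Algebra R S'] [IsScalarTower R S S']
    [IsScalarTower R R' S'] [Algebra.IsPushout R S R' S']
    {M M' : Type u} [AddCommGroup M] [Module S M] [Module R M] [IsScalarTower R S M]
    [AddCommGroup M'] [Module S' M'] [Module R' M'] [IsScalarTower R' S' M'] [Module S M']
    [IsScalarTower S S' M']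

theorem flatAt_of_flat_tensor (f : M →ₗ[S] M') (hf : IsBaseChange S' f) (q' : Ideal S') [q'.IsPrime]
    (h : Module.Flat R' (R' ⊗[R] LocalizedModule (q'.comap (algebraMap S S')).primeCompl M)) :
    Module.Flat R' (LocalizedModule q'.primeCompl M') := by
  have hle : Algebra.algebraMapSubmonoid S' (q'.comap (algebraMap S S')).primeCompl ≤
      q'.primeCompl := by
    rintro _ ⟨t, ht, rfl⟩
    exact ht
  have hk := Groth.Agent.Lib.Helper83.isLocalizedModule_baseChange (S' := S')
    (q'.comap (algebraMap S S')).primeCompl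
    (LocalizedModule.mkLinearMap (q'.comap (algebraMap S S')).primeCompl M)
  let k₂ : M' →ₗ[S'] S' ⊗[S] LocalizedModule (q'.comap (algebraMap S S')).primeCompl M :=
    ((LocalizedModule.mkLinearMap (q'.comap (algebraMap S S')).primeCompl M).baseChange S') ∘ₗ
      hf.equiv.symm.toLinearMap
  have hk₂ : IsLocalizedModule
      (Algebra.algebraMapSubmonoid S' (q'.comap (algebraMap S S')).primeCompl) k₂ :=
    IsLocalizedModule.of_linearEquiv_right _ _ _
  let iso := IsLocalizedModule.linearEquiv
    (Algebra.algebraMapSubmonoid S' (q'.comap (algebraMap S S')).primeCompl) k₂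
    (LocalizedModule.mkLinearMap
      (Algebra.algebraMapSubmonoid S' (q'.comap (algebraMap S S')).primeCompl) M')
  let g : (S' ⊗[S] LocalizedModule (q'.comap (algebraMap S S')).primeCompl M) →ₗ[S']
      LocalizedModule q'.primeCompl M' :=
    (LocalizedModule.liftOfLE _ _ hle) ∘ₗ iso.toLinearMap
  have hg : IsLocalizedModule q'.primeCompl g := IsLocalizedModule.of_linearEquiv_right _ _ _
  have hpo : Algebra.IsPushout R R' S S' := Algebra.IsPushout.symm inferInstance
  have hP : Module.Flat R' (S' ⊗[S] LocalizedModule (q'.comap (algebraMap S S')).primeCompl M) :=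
    Module.Flat.of_linearEquiv (Algebra.IsPushout.cancelBaseChange R R' S S'
      (LocalizedModule (q'.comap (algebraMap S S')).primeCompl M))
  exact Groth.Agent.Lib.Helper83.flat_of_isLocalizedModule_tower q'.primeCompl g

theorem flat_tensor_localized_of_flatAt (f : M →ₗ[S] M') (hf : IsBaseChange S' f)
    (q : Ideal S) [q.IsPrime] (𝔫 : Ideal R')
    (h : ∀ (p : Ideal S') [p.IsMaximal], 𝔫.map (algebraMap R' S') ≤ p →
      Module.Flat R' (LocalizedModule p.primeCompl M')) :
    Module.Flat (R' ⧸ 𝔫) ((R' ⧸ 𝔫) ⊗[R] LocalizedModule q.primeCompl M) := by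
  have hk := Groth.Agent.Lib.Helper83.isLocalizedModule_baseChange (S' := S')
    q.primeCompl (LocalizedModule.mkLinearMap q.primeCompl M)
  let k₂ : M' →ₗ[S'] S' ⊗[S] LocalizedModule q.primeCompl M :=
    ((LocalizedModule.mkLinearMap q.primeCompl M).baseChange S') ∘ₗ hf.equiv.symm.toLinearMap
  have hk₂ : IsLocalizedModule (Algebra.algebraMapSubmonoid S' q.primeCompl) k₂ :=
    IsLocalizedModule.of_linearEquiv_right _ _ _
  have hZ : ∀ (p : Ideal S') [p.IsMaximal], 𝔫.map (algebraMap R' S') ≤ p →
      Module.Flat R' (LocalizedModule p.primeCompl (S' ⊗[S] LocalizedModule q.primeCompl M)) := by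
    intro p _ hp
    haveI := h p hp
    have hcomp := isLocalizedModule_comp
        (M₂ := LocalizedModule p.primeCompl (S' ⊗[S] LocalizedModule q.primeCompl M))
        (Algebra.algebraMapSubmonoid S' q.primeCompl) p.primeCompl k₂
        (LocalizedModule.mkLinearMap p.primeCompl (S' ⊗[S] LocalizedModule q.primeCompl M))
    let g := IsLocalizedModule.liftOfLE p.primeCompl
      (Algebra.algebraMapSubmonoid S' q.primeCompl ⊔ p.primeCompl) le_sup_right
      (LocalizedModule.mkLinearMap p.primeCompl M')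
      ((LocalizedModule.mkLinearMap p.primeCompl
          (S' ⊗[S] LocalizedModule q.primeCompl M)) ∘ₗ k₂)
    exact Groth.Agent.Lib.Helper83.flat_of_isLocalizedModule_tower (R := R')
      (P := LocalizedModule p.primeCompl M')
      (P' := LocalizedModule p.primeCompl (S' ⊗[S] LocalizedModule q.primeCompl M))
      (Algebra.algebraMapSubmonoid S' q.primeCompl ⊔ p.primeCompl) g
  have h1 : Module.Flat (R' ⧸ 𝔫) ((R' ⧸ 𝔫) ⊗[R'] (S' ⊗[S] LocalizedModule q.primeCompl M)) :=
    flat_quot_of_forall_localized R' S' _ 𝔫 hZ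
  have hpo : Algebra.IsPushout R R' S S' := Algebra.IsPushout.symm inferInstance
  let e : (R' ⧸ 𝔫) ⊗[R'] (S' ⊗[S] LocalizedModule q.primeCompl M) ≃ₗ[R' ⧸ 𝔫]
      (R' ⧸ 𝔫) ⊗[R'] (R' ⊗[R] LocalizedModule q.primeCompl M) :=
    TensorProduct.AlgebraTensorModule.congr (LinearEquiv.refl (R' ⧸ 𝔫) (R' ⧸ 𝔫))
      (Algebra.IsPushout.cancelBaseChange R R' S S' (LocalizedModule q.primeCompl M))
  have h2 : Module.Flat (R' ⧸ 𝔫) ((R' ⧸ 𝔫) ⊗[R'] (R' ⊗[R] LocalizedModule q.primeCompl M)) :=
    Module.Flat.of_linearEquiv e.symm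
  exact (flat_tower_iff R R' (R' ⧸ 𝔫) (LocalizedModule q.primeCompl M)).1 h2

end

end Groth.Agent.Lib.Helper86.Flattening
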