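import Mathlib

set_option autoImplicit false
set_option linter.style.haveILetI false

namespace Groth.Agent.Lib.Helper86.Glue

universe u v

variable {A : Type u} [CommRing A]

/-- Bezout with powers. -/
theorem exists_bezout {m : Ideal A} (hm : m.IsMaximal) {t : A} (ht : t ∉ m) (k : ℕ) :
    ∃ u v : A, v ∈ m ^ k ∧ u * t + v = 1 := by
  obtain ⟨y, i, hi, hyi⟩ := hm.exists_inv ht
  have hc : IsCoprime t i := ⟨y, 1, by rw [one_mul]; exact hyi⟩
  obtain ⟨u, v, huv⟩ := hc.pow_right (n := k)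
  exact ⟨u, v * i ^ k, Ideal.mul_mem_left _ _ (Ideal.pow_mem_pow hi k), huv⟩

/-- Local-global criterion for a submodule to be everything. -/
theorem eq_top_of_local {M : Type v} [AddCommGroup M] [Module A M] {ι : Type*}
    (s : Finset ι) (m : ι → Ideal A) (hm : ∀ i, (m i).IsMaximal) (n : ℕ) (N : Submodule A M)
    (h1 : ∀ x : M, ∀ i ∈ s, ∃ w, w ∉ m i ∧ w • x ∈ N)
    (h2 : ∀ x : M, ∀ y ∈ (s.inf m) ^ n, y • x ∈ N) : N = ⊤ := by
  rw [eq_top_iff]
  intro x _
  let J : Ideal A :=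
    { carrier := {a | a • x ∈ N}
      add_mem' := fun {a b} ha hb => by
        simp only [Set.mem_ofPred_eq] at ha hb ⊢
        rw [add_smul]; exact N.add_mem ha hb
      zero_mem' := by simp
      smul_mem' := fun c a ha => by
        simp only [Set.mem_ofPred_eq, smul_eq_mul] at ha ⊢
        rw [mul_smul]; exact N.smul_mem c ha }
  have hJ : J = ⊤ := by
    by_contra hne
    obtain ⟨P, hP, hJP⟩ := Ideal.exists_le_maximal J hne
    have hP' : P.IsPrime := hP.isPrime
    have h3 : (s.inf m) ^ n ≤ P := fun y hy => hJP (h2 x y hy)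
    have h4 : s.inf m ≤ P := hP'.le_of_pow_le h3
    obtain ⟨i, his, hi⟩ := (Ideal.IsPrime.inf_le' hP').1 h4
    have h5 : m i = P := (hm i).eq_of_le hP.ne_top hi
    obtain ⟨w, hw, hwx⟩ := h1 x i his
    exact hw (h5 ▸ hJP hwx)
  have h1' : (1 : A) ∈ J := by rw [hJ]; trivial
  have : (1 : A) • x ∈ N := h1'
  simpa using this

/-- An element `σ ∉ m` killing all of `ker (A → A_m)` and such that `σ A ∩ ker = 0`. -/
theorem exists_sigma [IsNoetherianRing A] (m : Ideal A) [hmp : m.IsPrime] :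
    ∃ σ : A, σ ∉ m ∧ ∀ x : A, (∃ t, t ∉ m ∧ t * x = 0) →
      (σ * x = 0 ∧ (x ∈ Ideal.span {σ} → x = 0)) := by
  classical
  let Z : Ideal A :=
    { carrier := {x | ∃ t, t ∉ m ∧ t * x = 0}
      add_mem' := by
        rintro a b ⟨t, ht, hta⟩ ⟨t', ht', htb⟩
        refine ⟨t * t', fun h => (hmp.mem_or_mem h).elim ht ht', ?_⟩
        rw [mul_add, mul_right_comm, hta, zero_mul, mul_assoc, htb, mul_zero, add_zero]
      zero_mem' := ⟨1, fun h => hmp.ne_top ((Ideal.eq_top_iff_one _).2 h), by simp⟩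
      smul_mem' := by
        rintro c a ⟨t, ht, hta⟩
        refine ⟨t, ht, ?_⟩
        rw [smul_eq_mul, mul_left_comm, hta, mul_zero] }
  have hZfg : Z.FG := IsNoetherian.noetherian Z
  obtain ⟨G, hG⟩ := hZfg
  have hGZ : ∀ g ∈ G, ∃ t, t ∉ m ∧ t * g = 0 := by
    intro g hg
    have : g ∈ Z := by rw [← hG]; exact Submodule.subset_span hg
    exact this
  choose! τ hτ hτg using hGZ
  set T : A := ∏ g ∈ G, τ g with hT
  have hTm : T ∉ m := by
    intro h
    obtain ⟨g, hg, hgm⟩ := (Ideal.IsPrime.prod_mem_iff).1 h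
    exact hτ g hg hgm
  have hTZ : ∀ z ∈ Z, T * z = 0 := by
    intro z hz
    rw [← hG] at hz
    refine Submodule.span_induction (p := fun z _ => T * z = 0) ?_ ?_ ?_ ?_ hz
    · intro g hg
      obtain ⟨u, hu⟩ := Finset.dvd_prod_of_mem τ hg
      rw [hT, hu, mul_right_comm, hτg g hg, zero_mul]
    · simp
    · intro a b _ _ ha hb; rw [mul_add, ha, hb, add_zero]
    · intro c a _ ha; rw [smul_eq_mul, mul_left_comm, ha, mul_zero]
  -- stabilizing chain of annihilators
  let f : ℕ →o Submodule A A :=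
    { toFun := fun k => LinearMap.ker (LinearMap.mulLeft A (T ^ k))
      monotone' := by
        intro k k' hkk' x hx
        rw [LinearMap.mem_ker, LinearMap.mulLeft_apply] at hx ⊢
        obtain ⟨d, rfl⟩ := Nat.exists_eq_add_of_le hkk'
        rw [pow_add, mul_right_comm, hx, zero_mul] }
  obtain ⟨N, hN⟩ := (monotone_stabilizes_iff_noetherian (R := A) (M := A)).2 inferInstance f
  refine ⟨T ^ (N + 1), fun h => hTm (hmp.mem_of_pow_mem _ h), ?_⟩
  intro x hx
  have hxZ : x ∈ Z := hx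
  have h1 : T ^ (N + 1) * x = 0 := by
    rw [pow_succ, mul_assoc, hTZ x hxZ, mul_zero]
  refine ⟨h1, ?_⟩
  intro hxs
  obtain ⟨y, rfl⟩ := Ideal.mem_span_singleton'.1 hxs
  have h2 : y ∈ f (2 * (N + 1)) := by
    change y ∈ LinearMap.ker (LinearMap.mulLeft A (T ^ (2 * (N + 1))))
    rw [LinearMap.mem_ker, LinearMap.mulLeft_apply, two_mul, pow_add, mul_assoc]
    rw [mul_comm y] at h1
    exact h1
  have h3 : f (2 * (N + 1)) = f N := (hN _ (by omega)).symm
  have h4 : f N ≤ f (N + 1) := f.monotone (Nat.le_succ N)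
  have h5 : y ∈ f (N + 1) := h4 (h3 ▸ h2)
  change y ∈ LinearMap.ker (LinearMap.mulLeft A (T ^ (N + 1))) at h5
  rw [LinearMap.mem_ker, LinearMap.mulLeft_apply] at h5
  rw [mul_comm]; exact h5

end Groth.Agent.Lib.Helper86.Glue
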