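import Mathlib
import Groth.Agent.Lib.Helper86.Glue1

set_option autoImplicit false
set_option linter.style.haveILetI false

namespace Groth.Agent.Lib.Helper86.Glue

universe u

variable {A : Type u} [CommRing A] (m : Ideal A) (B : Type u) [CommRing B] [Algebra A B]

/-- The saturation of the image of `A` in `B` with respect to `m`. -/
def sat : Subalgebra A B where
  carrier := {c | ∃ n : ℕ, ∀ y ∈ m ^ n, ∃ a : A, algebraMap A B a = y • c}
  mul_mem' := by
    rintro c c' ⟨n, h⟩ ⟨n', h'⟩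
    refine ⟨n + n', fun y hy => ?_⟩
    rw [pow_add] at hy
    refine Submodule.mul_induction_on hy ?_ ?_
    · intro y1 hy1 y2 hy2
      obtain ⟨a1, ha1⟩ := h y1 hy1
      obtain ⟨a2, ha2⟩ := h' y2 hy2
      refine ⟨a1 * a2, ?_⟩
      rw [map_mul, ha1, ha2, Algebra.smul_def, Algebra.smul_def, Algebra.smul_def, map_mul]
      ring
    · rintro x y ⟨a1, ha1⟩ ⟨a2, ha2⟩
      exact ⟨a1 + a2, by rw [map_add, ha1, ha2, add_smul]⟩
  add_mem' := by
    rintro c c' ⟨n, h⟩ ⟨n', h'⟩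
    refine ⟨n + n', fun y hy => ?_⟩
    obtain ⟨a1, ha1⟩ := h y (Ideal.pow_le_pow_right (Nat.le_add_right n n') hy)
    obtain ⟨a2, ha2⟩ := h' y (Ideal.pow_le_pow_right (Nat.le_add_left n' n) hy)
    exact ⟨a1 + a2, by rw [map_add, ha1, ha2, smul_add]⟩
  algebraMap_mem' := by
    intro r
    refine ⟨0, fun y _ => ⟨y * r, ?_⟩⟩
    rw [map_mul, Algebra.smul_def]

theorem mem_sat {c : B} : c ∈ sat m B ↔ ∃ n : ℕ, ∀ y ∈ m ^ n, ∃ a : A, algebraMap A B a = y • c :=
  Iff.rfl

/-- The glued algebra, as a subalgebra of `A/σ × B`. -/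
def glueAlg (σ : A) : Subalgebra A ((A ⧸ Ideal.span {σ}) × B) where
  carrier := {p | ∃ a : A, Ideal.Quotient.mk _ a = p.1 ∧
    ∃ c ∈ sat m B, p.2 = algebraMap A B a + algebraMap A B σ * c}
  mul_mem' := by
    rintro p p' ⟨a, ha, c, hc, hp⟩ ⟨a', ha', c', hc', hp'⟩
    refine ⟨a * a', ?_, a • c' + a' • c + σ • (c * c'), ?_, ?_⟩
    · rw [map_mul, ha, ha']; rfl
    · exact Subalgebra.add_mem _ (Subalgebra.add_mem _ (Subalgebra.smul_mem _ hc' _)
        (Subalgebra.smul_mem _ hc _)) (Subalgebra.smul_mem _ (Subalgebra.mul_mem _ hc hc') _)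
    · change p.2 * p'.2 = _
      rw [hp, hp', map_mul, Algebra.smul_def, Algebra.smul_def, Algebra.smul_def]
      ring
  add_mem' := by
    rintro p p' ⟨a, ha, c, hc, hp⟩ ⟨a', ha', c', hc', hp'⟩
    refine ⟨a + a', ?_, c + c', Subalgebra.add_mem _ hc hc', ?_⟩
    · rw [map_add, ha, ha']; rfl
    · change p.2 + p'.2 = _
      rw [hp, hp', map_add]; ring
  algebraMap_mem' := by
    intro r
    refine ⟨r, rfl, 0, Subalgebra.zero_mem _, ?_⟩
    rw [mul_zero, add_zero]; rfl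

theorem mem_glueAlg {σ : A} {p : (A ⧸ Ideal.span {σ}) × B} : p ∈ glueAlg m B σ ↔
    ∃ a : A, Ideal.Quotient.mk _ a = p.1 ∧
      ∃ c ∈ sat m B, p.2 = algebraMap A B a + algebraMap A B σ * c := Iff.rfl

/-- The projection to `B`. -/
def glueProj (σ : A) : glueAlg m B σ →ₐ[A] B :=
  (AlgHom.snd A (A ⧸ Ideal.span {σ}) B).comp (glueAlg m B σ).val

theorem glueProj_apply (σ : A) (p : glueAlg m B σ) : glueProj m B σ p = p.1.2 := rfl


variable {m B}

/-- Uniform denominators for the cokernel condition. -/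
theorem coker_uniform [IsNoetherianRing A] [hmp : m.IsPrime] {n : ℕ}
    (hcoker : ∀ y ∈ m ^ n, ∀ b : B, ∃ t, t ∉ m ∧ ∃ a, algebraMap A B a = t • y • b) (b : B) :
    ∃ T, T ∉ m ∧ ∀ y ∈ m ^ n, ∃ a, algebraMap A B a = T • y • b := by
  classical
  obtain ⟨G, hG⟩ : (m ^ n).FG := IsNoetherian.noetherian _
  have h1 : ∀ g ∈ G, ∃ t, t ∉ m ∧ ∃ a, algebraMap A B a = t • g • b := by
    intro g hg
    exact hcoker g (by rw [← hG]; exact Submodule.subset_span hg) b
  choose! τ hτ α hα using h1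
  refine ⟨∏ g ∈ G, τ g, ?_, ?_⟩
  · intro h
    obtain ⟨g, hg, hgm⟩ := (Ideal.IsPrime.prod_mem_iff).1 h
    exact hτ g hg hgm
  · intro y hy
    rw [← hG] at hy
    refine Submodule.span_induction
      (p := fun y _ => ∃ a, algebraMap A B a = (∏ g ∈ G, τ g) • y • b) ?_ ?_ ?_ ?_ hy
    · intro g hg
      obtain ⟨u, hu⟩ := Finset.dvd_prod_of_mem τ hg
      refine ⟨u * α g, ?_⟩
      rw [map_mul, hα g hg, hu, mul_comm (τ g) u, mul_smul, Algebra.smul_def u]
    · exact ⟨0, by simp⟩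
    · rintro x y _ _ ⟨a1, ha1⟩ ⟨a2, ha2⟩
      exact ⟨a1 + a2, by rw [map_add, ha1, ha2, add_smul, smul_add]⟩
    · rintro c x _ ⟨a1, ha1⟩
      refine ⟨c * a1, ?_⟩
      rw [map_mul, ha1, smul_eq_mul, mul_smul, smul_comm _ c, Algebra.smul_def c]

/-- The single-point gluing. -/
theorem exists_single [IsNoetherianRing A] [hm : m.IsMaximal]
    (hunit : ∀ s, s ∉ m → IsUnit (algebraMap A B s))
    (hker : ∃ n, ∀ a, algebraMap A B a = 0 → ∀ y ∈ m ^ n, ∃ t, t ∉ m ∧ t * (y * a) = 0)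
    (hcoker : ∃ n, ∀ y ∈ m ^ n, ∀ b : B, ∃ t, t ∉ m ∧ ∃ a, algebraMap A B a = t • y • b) :
    ∃ (C : Type u) (_ : CommRing C) (_ : Algebra A C) (π : C →ₐ[A] B),
      IsLocalizedModule m.primeCompl π.toLinearMap ∧
      ∃ n, (∀ x, algebraMap A C x = 0 → ∀ y ∈ m ^ n, y * x = 0) ∧
        (∀ y ∈ m ^ n, ∀ c : C, ∃ a, algebraMap A C a = y • c) := by
  have hmp : m.IsPrime := hm.isPrime
  obtain ⟨σ, hσm, hσ⟩ := exists_sigma m
  obtain ⟨n1, hker⟩ := hker
  obtain ⟨n2, hcoker⟩ := hcoker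
  refine ⟨glueAlg m B σ, inferInstance, inferInstance, glueProj m B σ, ?_, ?_⟩
  · refine ⟨?_, ?_, ?_⟩
    · rintro ⟨s, hs⟩
      obtain ⟨u, hu⟩ := hunit s hs
      rw [Module.End.isUnit_iff]
      refine Function.bijective_iff_has_inverse.2 ⟨fun b => (↑u⁻¹ : B) * b, ?_, ?_⟩
      · intro b
        simp only [Module.algebraMap_end_apply]
        rw [Algebra.smul_def, ← hu, ← mul_assoc, Units.inv_mul, one_mul]
      · intro b
        simp only [Module.algebraMap_end_apply]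
        rw [Algebra.smul_def, ← hu, ← mul_assoc, Units.mul_inv, one_mul]
    · intro b
      obtain ⟨T, hTm, hT⟩ := coker_uniform hcoker b
      have hsat : T • b ∈ sat m B := by
        refine ⟨n2, fun y hy => ?_⟩
        obtain ⟨a, ha⟩ := hT y hy
        exact ⟨a, by rw [ha, smul_comm]⟩
      have hmem : ((0 : A ⧸ Ideal.span {σ}), algebraMap A B σ * (T • b)) ∈ glueAlg m B σ :=
        ⟨0, by simp, T • b, hsat, by simp⟩
      refine ⟨(⟨_, hmem⟩, ⟨σ * T, fun h => (hmp.mem_or_mem h).elim hσm hTm⟩), ?_⟩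
      change (σ * T) • b = algebraMap A B σ * (T • b)
      rw [mul_smul, Algebra.smul_def σ]
    · rintro ⟨p, hp⟩ ⟨p', hp'⟩ h
      refine ⟨⟨σ, hσm⟩, ?_⟩
      have h2 : p.2 = p'.2 := h
      apply Subtype.ext
      change σ • p = σ • p'
      refine Prod.ext ?_ ?_
      · change σ • p.1 = σ • p'.1
        have : ∀ x : A ⧸ Ideal.span {σ}, σ • x = 0 := by
          intro x
          rw [Algebra.smul_def]
          have : algebraMap A (A ⧸ Ideal.span {σ}) σ = 0 :=
            Ideal.Quotient.eq_zero_iff_mem.2 (Ideal.mem_span_singleton_self σ)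
          rw [this, zero_mul]
        rw [this, this]
      · change σ • p.2 = σ • p'.2
        rw [h2]
  · refine ⟨max n1 n2, ?_, ?_⟩
    · intro x hx y hy
      have hx' : ((algebraMap A (glueAlg m B σ) x : glueAlg m B σ) :
          (A ⧸ Ideal.span {σ}) × B) = 0 := by rw [hx]; rfl
      have hx1 : Ideal.Quotient.mk (Ideal.span {σ}) x = 0 := congrArg Prod.fst hx'
      have hx2 : algebraMap A B x = 0 := congrArg Prod.snd hx'
      obtain ⟨t, htm, ht⟩ := hker x hx2 y (Ideal.pow_le_pow_right (le_max_left _ _) hy)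
      refine (hσ (y * x) ⟨t, htm, ht⟩).2 ?_
      exact Ideal.mul_mem_left _ _ (Ideal.Quotient.eq_zero_iff_mem.1 hx1)
    · rintro y hy ⟨p, a, ha, c, hc, hp⟩
      have hy2 : y ∈ m ^ n2 := Ideal.pow_le_pow_right (le_max_right _ _) hy
      -- `y • c` comes from `A`
      obtain ⟨e, he⟩ : ∃ e, algebraMap A B e = y • c := by
        obtain ⟨nc, hnc⟩ := hc
        obtain ⟨t, htm, a2, ha2⟩ := hcoker y hy2 c
        obtain ⟨u, v, hv, huv⟩ := exists_bezout hm htm nc
        obtain ⟨a3, ha3⟩ := hnc v hv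
        refine ⟨u * a2 + y * a3, ?_⟩
        have : y • c = u • (t • y • c) + y • (v • c) := by
          rw [← mul_smul, smul_comm y v, ← add_smul, huv, one_smul]
        rw [this, ← ha2, ← ha3, map_add, map_mul, map_mul, Algebra.smul_def, Algebra.smul_def]
      refine ⟨y * a + σ * e, ?_⟩
      apply Subtype.ext
      change algebraMap A ((A ⧸ Ideal.span {σ}) × B) (y * a + σ * e) = y • p
      refine Prod.ext ?_ ?_
      · change Ideal.Quotient.mk (Ideal.span {σ}) (y * a + σ * e) = y • p.1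
        rw [← ha, map_add, map_mul, map_mul,
          Ideal.Quotient.eq_zero_iff_mem.2 (Ideal.mem_span_singleton_self σ), zero_mul, add_zero,
          Algebra.smul_def]
        rfl
      · change algebraMap A B (y * a + σ * e) = y • p.2
        rw [hp, map_add, map_mul, map_mul, he, smul_add, Algebra.smul_def y (algebraMap A B a),
          mul_smul_comm]

end Groth.Agent.Lib.Helper86.Glue
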