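import Mathlib
import Groth.Agent.Lib.Helper86.Glue2

set_option autoImplicit false
set_option linter.style.haveILetI false

open scoped TensorProduct

namespace Groth.Agent.Lib.Helper86.Glue

universe u

variable {A : Type u} [CommRing A]

/-- An algebra whose structure map has kernel and cokernel killed by `𝔞 ^ n` maps to `A_p`
for every prime `p` not containing `𝔞`. -/
theorem exists_algHom_localization (C : Type u) [CommRing C] [Algebra A C] (𝔞 : Ideal A) (n : ℕ)
    (hker : ∀ x, algebraMap A C x = 0 → ∀ y ∈ 𝔞 ^ n, y * x = 0)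
    (hcoker : ∀ y ∈ 𝔞 ^ n, ∀ c : C, ∃ a, algebraMap A C a = y • c)
    (p : Ideal A) [hp : p.IsPrime] (hap : ¬ 𝔞 ≤ p) :
    Nonempty (C →ₐ[A] Localization.AtPrime p) := by
  obtain ⟨t, ht𝔞, htp⟩ := SetLike.not_le_iff_exists.1 hap
  have hτ : t ^ n ∈ 𝔞 ^ n := Ideal.pow_mem_pow ht𝔞 n
  have hτp : t ^ n ∈ p.primeCompl := fun h => htp (hp.mem_of_pow_mem _ h)
  set τ : A := t ^ n with hτdef
  choose a ha using hcoker τ hτ
  have key : ∀ x x' : A, algebraMap A C x = algebraMap A C x' →
      algebraMap A (Localization.AtPrime p) x = algebraMap A (Localization.AtPrime p) x' := by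
    intro x x' h
    have h0 : algebraMap A C (x - x') = 0 := by rw [map_sub, h, sub_self]
    have h1 := hker _ h0 τ hτ
    rw [IsLocalization.eq_iff_exists p.primeCompl]
    refine ⟨⟨τ, hτp⟩, ?_⟩
    have : τ * x - τ * x' = 0 := by rw [← mul_sub]; exact h1
    exact sub_eq_zero.1 this
  let u : (Localization.AtPrime p)ˣ :=
    (IsLocalization.map_units (Localization.AtPrime p) (⟨τ, hτp⟩ : p.primeCompl)).unit
  have hu : (u : Localization.AtPrime p) = algebraMap A _ τ := rfl
  let f : C →ₗ[A] Localization.AtPrime p :=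
    { toFun := fun c => algebraMap A _ (a c) * (↑u⁻¹ : Localization.AtPrime p)
      map_add' := by
        intro c c'
        have : algebraMap A (Localization.AtPrime p) (a (c + c')) =
            algebraMap A _ (a c + a c') := by
          apply key
          rw [ha, map_add, ha, ha, smul_add]
        rw [this, map_add, add_mul]
      map_smul' := by
        intro r c
        have : algebraMap A (Localization.AtPrime p) (a (r • c)) =
            algebraMap A _ (r * a c) := by
          apply key
          rw [ha, map_mul, ha, smul_comm, Algebra.smul_def r]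
        rw [this, map_mul, RingHom.id_apply, Algebra.smul_def, mul_assoc] }
  have hf : ∀ c, f c = algebraMap A _ (a c) * (↑u⁻¹ : Localization.AtPrime p) := fun _ => rfl
  refine ⟨AlgHom.ofLinearMap f ?_ ?_⟩
  · rw [hf]
    have : algebraMap A (Localization.AtPrime p) (a 1) = algebraMap A _ τ := by
      apply key
      rw [ha, Algebra.smul_def, mul_one]
    rw [this, ← hu, Units.mul_inv]
  · intro c c'
    rw [hf, hf, hf]
    have : algebraMap A (Localization.AtPrime p) (a (c * c') * τ) =
        algebraMap A _ (a c * a c') := by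
      apply key
      rw [map_mul, map_mul, ha, ha, ha, Algebra.smul_def, Algebra.smul_def, Algebra.smul_def]
      ring
    rw [map_mul, map_mul, ← hu] at this
    have h2 : algebraMap A (Localization.AtPrime p) (a (c * c')) =
        algebraMap A _ (a c) * algebraMap A _ (a c') * (↑u⁻¹ : Localization.AtPrime p) := by
      rw [← this, mul_assoc, Units.mul_inv, mul_one]
    rw [h2]; ring

section tensor

variable (C C' : Type u) [CommRing C] [CommRing C'] [Algebra A C] [Algebra A C']

theorem coker_includeLeft (y : A) (hy : ∀ c' : C', ∃ a, algebraMap A C' a = y • c')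
    (d : C ⊗[A] C') : ∃ c : C, c ⊗ₜ[A] (1 : C') = y • d := by
  induction d with
  | zero => exact ⟨0, by simp⟩
  | tmul c c' =>
    obtain ⟨a, ha⟩ := hy c'
    refine ⟨a • c, ?_⟩
    rw [TensorProduct.smul_tmul, ← TensorProduct.tmul_smul y, ← ha, Algebra.smul_def a, mul_one]
  | add d d' h h' =>
    obtain ⟨c1, h1⟩ := h
    obtain ⟨c2, h2⟩ := h'
    exact ⟨c1 + c2, by rw [TensorProduct.add_tmul, h1, h2, smul_add]⟩

theorem coker_includeRight (y : A) (hy : ∀ c : C, ∃ a, algebraMap A C a = y • c)
    (d : C ⊗[A] C') : ∃ c' : C', (1 : C) ⊗ₜ[A] c' = y • d := by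
  induction d with
  | zero => exact ⟨0, by simp⟩
  | tmul c c' =>
    obtain ⟨a, ha⟩ := hy c
    refine ⟨a • c', ?_⟩
    rw [← TensorProduct.smul_tmul, TensorProduct.smul_tmul' y, ← ha, Algebra.smul_def a, mul_one]
  | add d d' h h' =>
    obtain ⟨c1, h1⟩ := h
    obtain ⟨c2, h2⟩ := h'
    exact ⟨c1 + c2, by rw [TensorProduct.tmul_add, h1, h2, smul_add]⟩

variable {C C'} {B : Type u} [CommRing B] [Algebra A B] (S : Submonoid A)

theorem isLocalizedModule_productMap_left (π : C →ₐ[A] B) [hπ : IsLocalizedModule S π.toLinearMap]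
    (ρ : C' →ₐ[A] B) (y : A) (hyS : y ∈ S) (hy : ∀ c' : C', ∃ a, algebraMap A C' a = y • c') :
    IsLocalizedModule S (Algebra.TensorProduct.productMap π ρ).toLinearMap := by
  refine ⟨hπ.map_units, ?_, ?_⟩
  · intro b
    obtain ⟨⟨c, s⟩, h⟩ := IsLocalizedModule.surj S π.toLinearMap b
    refine ⟨(c ⊗ₜ[A] (1 : C'), s), ?_⟩
    simp only [AlgHom.toLinearMap_apply] at h ⊢
    rw [h, Algebra.TensorProduct.productMap_apply_tmul, map_one, mul_one]
  · intro d d' h
    simp only [AlgHom.toLinearMap_apply] at h
    obtain ⟨c, hc⟩ := coker_includeLeft C C' y hy (d - d')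
    have h1 : π c = 0 := by
      have : Algebra.TensorProduct.productMap π ρ (c ⊗ₜ[A] (1 : C')) = π c := by
        rw [Algebra.TensorProduct.productMap_apply_tmul, map_one, mul_one]
      rw [← this, hc, map_smul, map_sub, h, sub_self, smul_zero]
    obtain ⟨s, hs⟩ := IsLocalizedModule.exists_of_eq (S := S) (f := π.toLinearMap)
      (x₁ := c) (x₂ := 0) (by simp [h1])
    refine ⟨s * ⟨y, hyS⟩, ?_⟩
    have h2 : (s * ⟨y, hyS⟩ : S) • (d - d') = 0 := by
      rw [mul_smul]
      change s • (y • (d - d')) = 0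
      rw [← hc]
      change (s : A) • (c ⊗ₜ[A] (1 : C')) = 0
      rw [TensorProduct.smul_tmul']
      have : (s : A) • c = 0 := by
        have := hs
        rw [smul_zero] at this
        exact this
      rw [this, TensorProduct.zero_tmul]
    rw [smul_sub] at h2
    exact sub_eq_zero.1 h2

theorem isLocalizedModule_productMap_right (π : C' →ₐ[A] B)
    [hπ : IsLocalizedModule S π.toLinearMap]
    (ρ : C →ₐ[A] B) (y : A) (hyS : y ∈ S) (hy : ∀ c : C, ∃ a, algebraMap A C a = y • c) :
    IsLocalizedModule S (Algebra.TensorProduct.productMap ρ π).toLinearMap := by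
  refine ⟨hπ.map_units, ?_, ?_⟩
  · intro b
    obtain ⟨⟨c, s⟩, h⟩ := IsLocalizedModule.surj S π.toLinearMap b
    refine ⟨((1 : C) ⊗ₜ[A] c, s), ?_⟩
    simp only [AlgHom.toLinearMap_apply] at h ⊢
    rw [h, Algebra.TensorProduct.productMap_apply_tmul, map_one, one_mul]
  · intro d d' h
    simp only [AlgHom.toLinearMap_apply] at h
    obtain ⟨c, hc⟩ := coker_includeRight C C' y hy (d - d')
    have h1 : π c = 0 := by
      have : Algebra.TensorProduct.productMap ρ π ((1 : C) ⊗ₜ[A] c) = π c := by
        rw [Algebra.TensorProduct.productMap_apply_tmul, map_one, one_mul]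
      rw [← this, hc, map_smul, map_sub, h, sub_self, smul_zero]
    obtain ⟨s, hs⟩ := IsLocalizedModule.exists_of_eq (S := S) (f := π.toLinearMap)
      (x₁ := c) (x₂ := 0) (by simp [h1])
    refine ⟨s * ⟨y, hyS⟩, ?_⟩
    have h2 : (s * ⟨y, hyS⟩ : S) • (d - d') = 0 := by
      rw [mul_smul]
      change s • (y • (d - d')) = 0
      rw [← hc]
      change (s : A) • ((1 : C) ⊗ₜ[A] c) = 0
      rw [← TensorProduct.tmul_smul]
      have : (s : A) • c = 0 := by
        have := hs
        rw [smul_zero] at this
        exact this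
      rw [this, TensorProduct.tmul_zero]
    rw [smul_sub] at h2
    exact sub_eq_zero.1 h2

end tensor

end Groth.Agent.Lib.Helper86.Glue
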