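import Mathlib
import Groth.Agent.Lib.Helper86.Glue3

set_option autoImplicit false
set_option linter.style.haveILetI false

open scoped TensorProduct

namespace Groth.Agent.Lib.Helper86.Glue

universe u

variable {A : Type u} [CommRing A] [IsNoetherianRing A] {ι : Type} [DecidableEq ι]
  (m : ι → Ideal A) [hm : ∀ i, (m i).IsMaximal]
  (B : ι → Type u) [∀ i, CommRing (B i)] [∀ i, Algebra A (B i)]
  [∀ i, Algebra (Localization.AtPrime (m i)) (B i)]
  [∀ i, IsScalarTower A (Localization.AtPrime (m i)) (B i)]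

theorem exists_glue_finset (hinj : Function.Injective m)
    (hunit : ∀ i, ∀ s, s ∉ m i → IsUnit (algebraMap A (B i) s))
    (hker : ∀ i, ∃ n, ∀ a, algebraMap A (B i) a = 0 → ∀ y ∈ (m i) ^ n,
      ∃ t, t ∉ m i ∧ t * (y * a) = 0)
    (hcoker : ∀ i, ∃ n, ∀ y ∈ (m i) ^ n, ∀ b : B i,
      ∃ t, t ∉ m i ∧ ∃ a, algebraMap A (B i) a = t • y • b)
    (s : Finset ι) :
    ∃ (C : Type u) (_ : CommRing C) (_ : Algebra A C),
      (∀ i ∈ s, ∃ π : C →ₐ[A] B i, IsLocalizedModule (m i).primeCompl π.toLinearMap) ∧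
      (∃ n, ∀ y ∈ (s.inf m) ^ n, ∀ c : C, ∃ a, algebraMap A C a = y • c) ∧
      (∀ p : Ideal A, ∀ _ : p.IsPrime, ¬ s.inf m ≤ p →
        Nonempty (C →ₐ[A] Localization.AtPrime p)) := by
  induction s using Finset.induction_on with
  | empty =>
    refine ⟨A, inferInstance, inferInstance, by simp, ⟨0, fun y _ c => ⟨y * c, ?_⟩⟩,
      fun p _ _ => ⟨Algebra.ofId A _⟩⟩
    simp
  | insert j s hjs ih =>
    obtain ⟨C, _, _, hπ, ⟨n, hn⟩, hρ⟩ := ih
    obtain ⟨Cj, _, _, πj, hπj, nj, hkerj, hcokerj⟩ :=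
      exists_single (m := m j) (B := B j) (hunit j) (hker j) (hcoker j)
    have hLj : ∀ p : Ideal A, ∀ _ : p.IsPrime, ¬ m j ≤ p →
        Nonempty (Cj →ₐ[A] Localization.AtPrime p) :=
      fun p _ hp => exists_algHom_localization Cj (m j) nj hkerj hcokerj p hp
    refine ⟨C ⊗[A] Cj, inferInstance, inferInstance, ?_, ?_, ?_⟩
    · intro i hi
      rw [Finset.mem_insert] at hi
      by_cases hij : i = j
      · subst hij
        have hnot : ¬ s.inf m ≤ m i := by
          intro h
          obtain ⟨i', his, hi'⟩ := (Ideal.IsPrime.inf_le' (hm i).isPrime).1 h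
          have h1 : m i' = m i := (hm i').eq_of_le (hm i).ne_top hi'
          have h2 : i' = i := hinj h1
          exact hjs (h2 ▸ his)
        obtain ⟨ρ⟩ := hρ (m i) (hm i).isPrime hnot
        have h3 : ¬ (s.inf m) ^ n ≤ m i := fun h => hnot ((hm i).isPrime.le_of_pow_le h)
        obtain ⟨y, hy, hyi⟩ := SetLike.not_le_iff_exists.1 h3
        exact ⟨Algebra.TensorProduct.productMap
          ((IsScalarTower.toAlgHom A (Localization.AtPrime (m i)) (B i)).comp ρ) πj,
          isLocalizedModule_productMap_right (S := (m i).primeCompl) πj _ y hyi (hn y hy)⟩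
      · have his : i ∈ s := hi.resolve_left hij
        obtain ⟨πi, hπi⟩ := hπ i his
        have hnot : ¬ m j ≤ m i := by
          intro h
          have h1 : m j = m i := (hm j).eq_of_le (hm i).ne_top h
          exact hij (hinj h1).symm
        obtain ⟨ρ⟩ := hLj (m i) (hm i).isPrime hnot
        have h3 : ¬ (m j) ^ nj ≤ m i := fun h => hnot ((hm i).isPrime.le_of_pow_le h)
        obtain ⟨y, hy, hyi⟩ := SetLike.not_le_iff_exists.1 h3
        exact ⟨Algebra.TensorProduct.productMap πi
          ((IsScalarTower.toAlgHom A (Localization.AtPrime (m i)) (B i)).comp ρ),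
          isLocalizedModule_productMap_left (S := (m i).primeCompl) πi _ y hyi (hcokerj y hy)⟩
    · refine ⟨n + nj, ?_⟩
      intro y hy
      rw [Finset.inf_insert] at hy
      have hle : (m j ⊓ s.inf m) ^ (n + nj) ≤ (s.inf m) ^ n * (m j) ^ nj := by
        rw [pow_add]
        exact Ideal.mul_mono (Ideal.pow_right_mono inf_le_right n)
          (Ideal.pow_right_mono inf_le_left nj)
      refine Submodule.mul_induction_on (hle hy) ?_ ?_
      · intro y1 hy1 y2 hy2 d
        obtain ⟨c, hc⟩ := coker_includeLeft C Cj y2 (hcokerj y2 hy2) d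
        obtain ⟨a, ha⟩ := hn y1 hy1 c
        refine ⟨a, ?_⟩
        rw [mul_smul, ← hc, TensorProduct.smul_tmul', ← ha,
          Algebra.TensorProduct.algebraMap_apply]
      · intro y1 y2 h1 h2 d
        obtain ⟨a1, ha1⟩ := h1 d
        obtain ⟨a2, ha2⟩ := h2 d
        exact ⟨a1 + a2, by rw [map_add, ha1, ha2, add_smul]⟩
    · intro p hp hnp
      rw [Finset.inf_insert] at hnp
      have h1 : ¬ s.inf m ≤ p := fun h => hnp (inf_le_right.trans h)
      have h2 : ¬ m j ≤ p := fun h => hnp (inf_le_left.trans h)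
      obtain ⟨ρ1⟩ := hρ p hp h1
      obtain ⟨ρ2⟩ := hLj p hp h2
      exact ⟨Algebra.TensorProduct.productMap ρ1 ρ2⟩

end Groth.Agent.Lib.Helper86.Glue
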