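import Mathlib
import Groth.Agent.Lib.Helper86.Glue4

set_option autoImplicit false
set_option linter.style.haveILetI false

open scoped TensorProduct

namespace Groth.Agent.Lib.Helper86.Glue

universe u

variable {A : Type u} [CommRing A] [IsNoetherianRing A] {ι : Type} [DecidableEq ι] [Fintype ι]
  (m : ι → Ideal A) [hm : ∀ i, (m i).IsMaximal]
  (B : ι → Type u) [∀ i, CommRing (B i)] [∀ i, Algebra A (B i)]
  [∀ i, Algebra (Localization.AtPrime (m i)) (B i)]
  [∀ i, IsScalarTower A (Localization.AtPrime (m i)) (B i)]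

theorem exists_glue (hinj : Function.Injective m)
    (hunit : ∀ i, ∀ s, s ∉ m i → IsUnit (algebraMap A (B i) s))
    (hker : ∀ i, ∃ n, ∀ a, algebraMap A (B i) a = 0 → ∀ y ∈ (m i) ^ n,
      ∃ t, t ∉ m i ∧ t * (y * a) = 0)
    (hcoker : ∀ i, ∃ n, ∀ y ∈ (m i) ^ n, ∀ b : B i,
      ∃ t, t ∉ m i ∧ ∃ a, algebraMap A (B i) a = t • y • b) :
    ∃ (C : Type u) (_ : CommRing C) (_ : Algebra A C),
      (∀ i, Nonempty (Localization.AtPrime (m i) ⊗[A] C ≃ₐ[Localization.AtPrime (m i)] B i)) ∧
      (∃ n, (∀ x, algebraMap A C x = 0 → ∀ y ∈ (⨅ i, m i) ^ n, y * x = 0) ∧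
        (∀ y ∈ (⨅ i, m i) ^ n, ∀ c : C, ∃ a, algebraMap A C a = y • c)) ∧
      ((∀ i, Module.Finite (Localization.AtPrime (m i)) (B i)) → Module.Finite A C) ∧
      ((∀ i, Function.Injective (algebraMap (Localization.AtPrime (m i)) (B i))) →
        Function.Injective (algebraMap A C)) ∧
      ((∀ i, Function.Surjective (algebraMap (Localization.AtPrime (m i)) (B i))) →
        Function.Surjective (algebraMap A C)) := by
  classical
  obtain ⟨C, _, _, hπ0, ⟨n2, hn2⟩, hρ⟩ :=
    exists_glue_finset m B hinj hunit hker hcoker Finset.univ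
  have hI : Finset.univ.inf m = ⨅ i, m i := Finset.inf_univ_eq_iInf m
  choose π hπ using fun i => hπ0 i (Finset.mem_univ i)
  -- kernel bound
  have hkerC : ∃ n1, ∀ x, algebraMap A C x = 0 → ∀ y ∈ (Finset.univ.inf m) ^ n1, y * x = 0 := by
    set K : Ideal A := RingHom.ker (algebraMap A C) with hK
    have hrad : Finset.univ.inf m ≤ (Submodule.annihilator K).radical := by
      rw [Ideal.radical_eq_sInf]
      refine le_sInf ?_
      rintro P ⟨hKP, hP⟩
      by_contra hnot
      obtain ⟨ρ⟩ := hρ P hP hnot
      have h1 : ∀ x ∈ K, ∃ t, t ∉ P ∧ t * x = 0 := by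
        intro x hx
        have : algebraMap A (Localization.AtPrime P) x = 0 := by
          rw [← ρ.commutes x, (RingHom.mem_ker.1 hx), map_zero]
        obtain ⟨t, ht⟩ := (IsLocalization.map_eq_zero_iff P.primeCompl _ x).1 this
        exact ⟨t, t.2, ht⟩
      obtain ⟨G, hG⟩ : K.FG := IsNoetherian.noetherian K
      choose! τ hτ hτg using h1
      have hGK : ∀ g ∈ G, g ∈ K := fun g hg => by rw [← hG]; exact Submodule.subset_span hg
      have hT : (∏ g ∈ G, τ g) ∈ Submodule.annihilator K := by
        rw [Submodule.mem_annihilator]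
        intro x hx
        rw [← hG] at hx
        refine Submodule.span_induction (p := fun x _ => (∏ g ∈ G, τ g) • x = 0) ?_ ?_ ?_ ?_ hx
        · intro g hg
          obtain ⟨u, hu⟩ := Finset.dvd_prod_of_mem τ hg
          rw [hu, smul_eq_mul, mul_right_comm, hτg g (hGK g hg), zero_mul]
        · simp
        · intro a b _ _ ha hb; rw [smul_add, ha, hb, add_zero]
        · intro c a _ ha; rw [smul_comm, ha, smul_zero]
      have h2 : (∏ g ∈ G, τ g) ∈ P := hKP hT
      obtain ⟨g, hg, hgP⟩ := (Ideal.IsPrime.prod_mem_iff).1 h2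
      exact hτ g (hGK g hg) hgP
    obtain ⟨n1, hn1⟩ := Ideal.exists_pow_le_of_le_radical_of_fg hrad (IsNoetherian.noetherian _)
    refine ⟨n1, fun x hx y hy => ?_⟩
    have := Submodule.mem_annihilator.1 (hn1 hy) x (RingHom.mem_ker.2 hx)
    simpa using this
  obtain ⟨n1, hn1⟩ := hkerC
  have hloc : ∀ (i : ι) (x x' : C), π i x = π i x' → ∃ w, w ∉ m i ∧ w • x = w • x' := by
    intro i x x' h
    haveI := hπ i
    obtain ⟨s, hs⟩ := IsLocalizedModule.exists_of_eq (S := (m i).primeCompl)
      (f := (π i).toLinearMap) (x₁ := x) (x₂ := x') h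
    exact ⟨s, s.2, hs⟩
  refine ⟨C, inferInstance, inferInstance, ?_, ?_, ?_, ?_, ?_⟩
  · intro i
    haveI := hπ i
    letI : Algebra C (B i) := (π i : C →+* B i).toAlgebra
    haveI : IsScalarTower A C (B i) :=
      IsScalarTower.of_algebraMap_eq (fun x => ((π i).commutes x).symm)
    haveI : Algebra.IsPushout A (Localization.AtPrime (m i)) C (B i) := by
      constructor
      have h := IsLocalizedModule.isBaseChange (m i).primeCompl (Localization.AtPrime (m i))
        (π i).toLinearMap
      have e : (IsScalarTower.toAlgHom A C (B i)).toLinearMap = (π i).toLinearMap :=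
        LinearMap.ext fun x => rfl
      rw [e]; exact h
    exact ⟨Algebra.IsPushout.equiv A (Localization.AtPrime (m i)) C (B i)⟩
  · refine ⟨max n1 n2, ?_, ?_⟩
    · intro x hx y hy
      rw [← hI] at hy
      exact hn1 x hx y (Ideal.pow_le_pow_right (le_max_left _ _) hy)
    · intro y hy c
      rw [← hI] at hy
      exact hn2 y (Ideal.pow_le_pow_right (le_max_right _ _) hy) c
  · intro hfin
    have h1 : ∀ i, ∃ F : Finset C, ∀ x : C, ∃ w, w ∉ m i ∧
        w • x ∈ Submodule.span A (F : Set C) := by
      intro i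
      haveI := hπ i
      obtain ⟨G, hG⟩ := (hfin i).fg_top
      have hsurj : ∀ g : B i, ∃ c : C, ∃ s, s ∉ m i ∧ s • g = π i c := by
        intro g
        obtain ⟨⟨c, s⟩, h⟩ := IsLocalizedModule.surj (m i).primeCompl (π i).toLinearMap g
        exact ⟨c, s, s.2, h⟩
      choose c s hs hcs using hsurj
      refine ⟨G.image c, ?_⟩
      have claim : ∀ b : B i, ∃ w, w ∉ m i ∧
          ∃ x' ∈ Submodule.span A ((G.image c : Finset C) : Set C), w • b = π i x' := by
        intro b
        have hb : b ∈ Submodule.span (Localization.AtPrime (m i)) (G : Set (B i)) := by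
          rw [hG]; trivial
        refine Submodule.span_induction (p := fun b _ => ∃ w, w ∉ m i ∧
          ∃ x' ∈ Submodule.span A ((G.image c : Finset C) : Set C), w • b = π i x')
          ?_ ?_ ?_ ?_ hb
        · intro g hg
          refine ⟨s g, hs g, c g, Submodule.subset_span ?_, hcs g⟩
          exact Finset.mem_coe.2 (Finset.mem_image_of_mem c hg)
        · exact ⟨1, fun h => (hm i).ne_top ((Ideal.eq_top_iff_one _).2 h), 0,
            Submodule.zero_mem _, by simp⟩
        · rintro b1 b2 _ _ ⟨w1, hw1, x1, hx1, h1⟩ ⟨w2, hw2, x2, hx2, h2⟩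
          refine ⟨w1 * w2, fun h => ((hm i).isPrime.mem_or_mem h).elim hw1 hw2,
            w2 • x1 + w1 • x2, Submodule.add_mem _ (Submodule.smul_mem _ _ hx1)
              (Submodule.smul_mem _ _ hx2), ?_⟩
          rw [smul_add, map_add, map_smul, map_smul, ← h1, ← h2, mul_smul, mul_smul,
            smul_comm w1 w2 b1]
        · rintro α b _ ⟨w, hw, x', hx', h⟩
          obtain ⟨⟨a, τ⟩, hτ⟩ := IsLocalization.surj (m i).primeCompl α
          refine ⟨τ * w, fun h => ((hm i).isPrime.mem_or_mem h).elim τ.2 hw, a • x',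
            Submodule.smul_mem _ _ hx', ?_⟩
          have e1 : (τ : A) • (α • b) = a • b := by
            rw [← algebraMap_smul (Localization.AtPrime (m i)) (τ : A) (α • b), ← mul_smul,
              mul_comm, hτ, algebraMap_smul]
          rw [map_smul, ← h, mul_smul, smul_comm (τ : A) w, e1, smul_comm]
      intro x
      obtain ⟨w, hw, x', hx', h⟩ := claim (π i x)
      obtain ⟨w', hw', h'⟩ := hloc i (w • x) x' (by rw [map_smul, h])
      refine ⟨w' * w, fun h => ((hm i).isPrime.mem_or_mem h).elim hw' hw, ?_⟩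
      rw [mul_smul, h']
      exact Submodule.smul_mem _ _ hx'
    choose F hF using h1
    set N : Submodule A C := Submodule.span A ({1} ∪ ⋃ i, (F i : Set C)) with hN
    have hNtop : N = ⊤ := by
      refine eq_top_of_local Finset.univ m hm n2 N ?_ ?_
      · intro x i _
        obtain ⟨w, hw, hwx⟩ := hF i x
        refine ⟨w, hw, Submodule.span_mono ?_ hwx⟩
        exact (Set.subset_iUnion (fun i => (F i : Set C)) i).trans Set.subset_union_right
      · intro x y hy
        obtain ⟨a, ha⟩ := hn2 y hy x
        rw [← ha, Algebra.algebraMap_eq_smul_one]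
        exact Submodule.smul_mem _ _ (Submodule.subset_span (Or.inl rfl))
    rw [Module.finite_def, ← hNtop, hN]
    exact Submodule.fg_span ((Set.finite_singleton 1).union
      (Set.finite_iUnion fun i => (F i).finite_toSet))
  · intro hinjB
    rw [injective_iff_map_eq_zero]
    intro x hx
    set N : Submodule A A := LinearMap.ker (LinearMap.toSpanSingleton A A x) with hN
    have hNtop : N = ⊤ := by
      refine eq_top_of_local Finset.univ m hm n1 N ?_ ?_
      · intro x' i _
        have h1 : algebraMap A (B i) x = 0 := by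
          rw [← (π i).commutes x, hx, map_zero]
        rw [IsScalarTower.algebraMap_apply A (Localization.AtPrime (m i)) (B i)] at h1
        have h2 : algebraMap A (Localization.AtPrime (m i)) x = 0 :=
          (injective_iff_map_eq_zero _).1 (hinjB i) _ h1
        obtain ⟨t, ht⟩ := (IsLocalization.map_eq_zero_iff (m i).primeCompl _ x).1 h2
        refine ⟨t, t.2, ?_⟩
        rw [hN, LinearMap.mem_ker, LinearMap.toSpanSingleton_apply, smul_eq_mul, smul_eq_mul,
          mul_right_comm, ht, zero_mul]
      · intro x' y hy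
        rw [hN, LinearMap.mem_ker, LinearMap.toSpanSingleton_apply, smul_eq_mul, smul_eq_mul,
          mul_right_comm, hn1 x hx y hy, zero_mul]
    have h1 : (1 : A) ∈ N := by rw [hNtop]; trivial
    rw [hN, LinearMap.mem_ker, LinearMap.toSpanSingleton_apply, one_smul] at h1
    exact h1
  · intro hsurjB
    set N : Submodule A C := LinearMap.range (Algebra.linearMap A C) with hN
    have hNtop : N = ⊤ := by
      refine eq_top_of_local Finset.univ m hm n2 N ?_ ?_
      · intro x i _
        obtain ⟨α, hα⟩ := hsurjB i (π i x)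
        obtain ⟨⟨a, τ⟩, hτ⟩ := IsLocalization.surj (m i).primeCompl α
        have e1 : π i ((τ : A) • x) = π i (algebraMap A C a) := by
          rw [map_smul, ← hα, (π i).commutes,
            IsScalarTower.algebraMap_apply A (Localization.AtPrime (m i)) (B i), ← hτ, map_mul,
            ← IsScalarTower.algebraMap_apply A (Localization.AtPrime (m i)) (B i),
            Algebra.smul_def, mul_comm]
        obtain ⟨w, hw, h⟩ := hloc i _ _ e1
        refine ⟨w * τ, fun h => ((hm i).isPrime.mem_or_mem h).elim hw τ.2, ?_⟩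
        rw [mul_smul, h, hN, LinearMap.mem_range]
        exact ⟨w * a, by rw [Algebra.linearMap_apply, map_mul, Algebra.smul_def]⟩
      · intro x y hy
        obtain ⟨a, ha⟩ := hn2 y hy x
        rw [hN, LinearMap.mem_range]
        exact ⟨a, by rw [Algebra.linearMap_apply, ha]⟩
    intro c
    have : c ∈ N := by rw [hNtop]; trivial
    rw [hN, LinearMap.mem_range] at this
    obtain ⟨a, ha⟩ := this
    exact ⟨a, by rw [← ha, Algebra.linearMap_apply]⟩

end Groth.Agent.Lib.Helper86.Glue
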