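import Groth.Agent.Lib.Helper86.Herm1

/-!
# Hermitian matrices: Schur complement at a `Unique` block (helper86)
-/

set_option autoImplicit false
set_option linter.style.haveILetI false

namespace Groth.Agent.Lib.Helper86.Herm

open Matrix

variable {A : Type*} [CommRing A]

section Schur

variable {α β : Type*} [Fintype α] [DecidableEq α] [Fintype β] [DecidableEq β] [Unique β]

/-- Schur complement of the `Unique` block, `ui` being the inverse of the corner entry. -/
def schur (g : Matrix (β ⊕ α) (β ⊕ α) A) (ui : A) : Matrix α α A :=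
  Matrix.of fun a b => g (Sum.inr a) (Sum.inr b) -
    g (Sum.inr a) (Sum.inl default) * ui * g (Sum.inl default) (Sum.inr b)

theorem schur_step (φ : A →+* A) (ε : A) (hε : ε * ε = 1)
    (g : Matrix (β ⊕ α) (β ⊕ α) A) (hg : Herm φ ε g) (ui : A)
    (hu : g (Sum.inl default) (Sum.inl default) * ui = 1) :
    ∃ w : Matrix (β ⊕ α) (β ⊕ α) A, IsUnit w ∧
      (w.map φ)ᵀ * g * w = Matrix.fromBlocks
        (Matrix.of fun _ _ => g (Sum.inl default) (Sum.inl default)) 0 0 (schur g ui) := by
  have f1 : ∀ a, g (Sum.inr a) (Sum.inl default) = ε * φ (g (Sum.inl default) (Sum.inr a)) :=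
    fun a => herm_apply φ ε g hg _ _
  have f2 : φ (g (Sum.inl default) (Sum.inl default)) = ε * g (Sum.inl default) (Sum.inl default) :=
    herm_diag φ ε hε g hg _
  have f3 : φ ui = ε * ui := by
    have h1 : φ (g (Sum.inl default) (Sum.inl default)) * φ ui = 1 := by
      rw [← map_mul, hu, map_one]
    rw [f2] at h1
    linear_combination (-(φ ui)) * hu + (ε * ui) * h1 +
      (-(φ ui * g (Sum.inl default) (Sum.inl default) * ui)) * hε
  have hdef : ∀ x : β, x = default := fun x => Unique.eq_default x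
  refine ⟨Matrix.fromBlocks 1 (Matrix.of fun _ b => -(ui * g (Sum.inl default) (Sum.inr b))) 0 1,
    ?_, ?_⟩
  · rw [Matrix.isUnit_iff_isUnit_det, Matrix.det_fromBlocks_zero₂₁]
    simp
  · ext (x|x) (y|y)
    · rw [hdef x, hdef y]
      simp [Matrix.mul_apply, Fintype.sum_sum_type, Matrix.fromBlocks_apply₁₁]
    · rw [hdef x]
      simp [Matrix.mul_apply, Fintype.sum_sum_type, Matrix.one_apply, apply_ite φ]
      linear_combination (-(g (Sum.inl default) (Sum.inr y))) * hu
    · rw [hdef y]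
      simp [Matrix.mul_apply, Fintype.sum_sum_type, Matrix.one_apply, apply_ite φ]
      rw [f3, f1 x]
      linear_combination (-(ε * φ (g (Sum.inl default) (Sum.inr x)))) * hu
    · simp [Matrix.mul_apply, Fintype.sum_sum_type, schur, Matrix.one_apply, apply_ite φ]
      rw [f3, f1 x]
      linear_combination (ε * φ (g (Sum.inl default) (Sum.inr x)) * ui *
        g (Sum.inl default) (Sum.inr y)) * hu

theorem diagble_fromBlocks (φ : A →+* A) (u : A) (s : Matrix α α A) (hs : Diagble φ s) :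
    Diagble φ (Matrix.fromBlocks (Matrix.of fun (_ _ : β) => u) 0 0 s) := by
  obtain ⟨v, hv, d, hvd⟩ := hs
  refine ⟨Matrix.fromBlocks 1 0 0 v, ?_, Sum.elim (fun _ => u) d, ?_⟩
  · rw [Matrix.isUnit_iff_isUnit_det, Matrix.det_fromBlocks_zero₂₁, Matrix.det_one, one_mul]
    exact (Matrix.isUnit_iff_isUnit_det _).1 hv
  · have hw : ((Matrix.fromBlocks (1 : Matrix β β A) 0 0 v).map φ)ᵀ =
        Matrix.fromBlocks 1 0 0 (v.map φ)ᵀ := by
      rw [Matrix.fromBlocks_map, Matrix.fromBlocks_transpose]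
      simp
    have hU : (Matrix.of fun (_ _ : β) => u) = Matrix.diagonal (fun _ => u) := by
      ext x y
      simp [Subsingleton.elim x y]
    rw [hw, Matrix.fromBlocks_multiply, Matrix.fromBlocks_multiply]
    simp only [Matrix.one_mul, Matrix.mul_one, Matrix.zero_mul, Matrix.mul_zero, add_zero,
      zero_add]
    rw [hvd, hU, Matrix.fromBlocks_diagonal]

theorem isUnit_of_fromBlocks (P : Matrix β β A) (S : Matrix α α A)
    (h : IsUnit (Matrix.fromBlocks P 0 0 S)) : IsUnit S := by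
  rw [Matrix.isUnit_iff_isUnit_det, Matrix.det_fromBlocks_zero₂₁] at h
  rw [Matrix.isUnit_iff_isUnit_det]
  exact isUnit_of_mul_isUnit_right h

theorem herm_of_fromBlocks (φ : A →+* A) (ε : A) (P : Matrix β β A) (Q : Matrix β α A)
    (R : Matrix α β A) (S : Matrix α α A) (h : Herm φ ε (Matrix.fromBlocks P Q R S)) :
    Herm φ ε S := by
  unfold Herm at h ⊢
  ext a b
  have := congrFun (congrFun h (Sum.inr a)) (Sum.inr b)
  simpa using this

/-- The Schur complement: invertible, hermitian, and `g` is congruent to the block sum. -/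
theorem schur_spec (φ : A →+* A) (hφ : ∀ a, φ (φ a) = a) (ε : A) (hε : ε * ε = 1)
    (g : Matrix (β ⊕ α) (β ⊕ α) A) (hgu : IsUnit g) (hg : Herm φ ε g) (ui : A)
    (hui : g (Sum.inl default) (Sum.inl default) * ui = 1) :
    IsUnit (schur g ui) ∧ Herm φ ε (schur g ui) ∧
      IsUnit (Matrix.fromBlocks (Matrix.of fun (_ _ : β) => g (Sum.inl default) (Sum.inl default))
        0 0 (schur g ui)) ∧
      Herm φ ε (Matrix.fromBlocks (Matrix.of fun (_ _ : β) => g (Sum.inl default) (Sum.inl default))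
        0 0 (schur g ui)) ∧
      (Diagble φ (Matrix.fromBlocks (Matrix.of fun (_ _ : β) =>
        g (Sum.inl default) (Sum.inl default)) 0 0 (schur g ui)) → Diagble φ g) := by
  obtain ⟨w, hw, hwg⟩ := schur_step φ ε hε g hg ui hui
  have h1 : IsUnit ((w.map φ)ᵀ * g * w) := isUnit_congr φ g w hgu hw
  have h2 : Herm φ ε ((w.map φ)ᵀ * g * w) := herm_congr φ hφ ε g w hg
  rw [hwg] at h1 h2
  refine ⟨isUnit_of_fromBlocks _ _ h1, herm_of_fromBlocks φ ε _ _ _ _ h2, h1, h2, fun hd => ?_⟩
  apply diagble_congr φ g w hw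
  rw [hwg]
  exact hd

/-- One splitting step, general (cases (a), (b)). -/
theorem sum_step (φ : A →+* A) (hφ : ∀ a, φ (φ a) = a) (ε : A) (hε : ε * ε = 1)
    (g : Matrix (β ⊕ α) (β ⊕ α) A) (hgu : IsUnit g) (hg : Herm φ ε g)
    (hu : IsUnit (g (Sum.inl default) (Sum.inl default)))
    (IH : ∀ s : Matrix α α A, IsUnit s → Herm φ ε s → Diagble φ s) : Diagble φ g := by
  obtain ⟨ui, hui⟩ := hu.exists_right_inv
  obtain ⟨hsu, hsh, -, -, hsd⟩ := schur_spec φ hφ ε hε g hgu hg ui hui
  exact hsd (diagble_fromBlocks φ _ _ (IH _ hsu hsh))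

/-- One splitting step in the "skew modulo `M`" case (c). -/
theorem sum_step_c (φ : A →+* A) (hφ : ∀ a, φ (φ a) = a) (ε : A) (hε : ε * ε = 1)
    (M : Ideal A) [hM : M.IsPrime] (HU : ∀ z, φ z = ε * z → z ∉ M → IsUnit z)
    (hid : ∀ a, φ a - a ∈ M)
    (g : Matrix (β ⊕ α) (β ⊕ α) A) (hgu : IsUnit g) (hg : Herm φ ε g)
    (hu : IsUnit (g (Sum.inl default) (Sum.inl default)))
    (IH : ∀ s : Matrix α α A, IsUnit s → Herm φ ε s → (IsEmpty α ∨ ∃ a, IsUnit (s a a)) →
      Diagble φ s) : Diagble φ g := by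
  obtain ⟨ui, hui⟩ := hu.exists_right_inv
  obtain ⟨hsu, hsh, h2u, h2h, hsd⟩ := schur_spec φ hφ ε hε g hgu hg ui hui
  by_cases hQ : IsEmpty α ∨ ∃ a, IsUnit (schur g ui a a)
  · exact hsd (diagble_fromBlocks φ _ _ (IH _ hsu hsh hQ))
  · apply hsd
    push Not at hQ
    obtain ⟨hne, hnu⟩ := hQ
    obtain ⟨a₁⟩ := hne
    have hdiagM : ∀ a, schur g ui a a ∈ M := by
      intro a
      by_contra hcon
      exact hnu a (HU _ (herm_diag φ ε hε _ hsh a) hcon)
    obtain ⟨a₂, ha₂⟩ := exists_row_notMem M hM.ne_top (schur g ui) hsu a₁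
    have hne12 : a₂ ≠ a₁ := by
      rintro rfl
      exact ha₂ (hdiagM _)
    have hεM : ε ∉ M := by
      intro h
      have : (1 : A) ∈ M := by rw [← hε]; exact M.mul_mem_left _ h
      exact hM.ne_top ((Ideal.eq_top_iff_one M).2 this)
    have huM : g (Sum.inl default) (Sum.inl default) ∉ M := by
      intro h
      have : (1 : A) ∈ M := by rw [← hui]; exact M.mul_mem_right _ h
      exact hM.ne_top ((Ideal.eq_top_iff_one M).2 this)
    generalize hg₂ : (Matrix.fromBlocks (Matrix.of fun (_ _ : β) =>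
        g (Sum.inl default) (Sum.inl default)) 0 0 (schur g ui)) = g₂ at h2u h2h ⊢
    have hw₃ : IsUnit (Matrix.transvection (Sum.inr a₁) (Sum.inl default) (1 : A) :
        Matrix (β ⊕ α) (β ⊕ α) A) := isUnit_transvection _ _ (by simp) 1
    apply diagble_congr φ g₂ _ hw₃
    have h3u := isUnit_congr φ g₂ _ h2u hw₃
    have h3h := herm_congr φ hφ ε g₂
      (Matrix.transvection (Sum.inr a₁) (Sum.inl default) (1 : A)) h2h
    obtain ⟨g₃, hg₃⟩ : ∃ g₃ : Matrix (β ⊕ α) (β ⊕ α) A, g₃ =
        ((Matrix.transvection (Sum.inr a₁) (Sum.inl default) (1 : A)).map φ)ᵀ * g₂ *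
        Matrix.transvection (Sum.inr a₁) (Sum.inl default) (1 : A) := ⟨_, rfl⟩
    rw [← hg₃] at h3u h3h ⊢
    have e00 : g₃ (Sum.inl default) (Sum.inl default) =
        g (Sum.inl default) (Sum.inl default) + schur g ui a₁ a₁ := by
      rw [hg₃, transv_congr_apply, ← hg₂]
      simp
    have e0b : ∀ b, g₃ (Sum.inl default) (Sum.inr b) = schur g ui a₁ b := by
      intro b
      rw [hg₃, transv_congr_apply, ← hg₂]
      simp
    have ea0 : ∀ a, g₃ (Sum.inr a) (Sum.inl default) = schur g ui a a₁ := by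
      intro a
      rw [hg₃, transv_congr_apply, ← hg₂]
      simp
    have eab : ∀ a b, g₃ (Sum.inr a) (Sum.inr b) = schur g ui a b := by
      intro a b
      rw [hg₃, transv_congr_apply, ← hg₂]
      simp
    have hu' : IsUnit (g₃ (Sum.inl default) (Sum.inl default)) := by
      refine HU _ (herm_diag φ ε hε _ h3h _) ?_
      rw [e00]
      intro h
      exact huM ((Ideal.add_mem_iff_left M (hdiagM a₁)).1 h)
    obtain ⟨ui', hui'⟩ := hu'.exists_right_inv
    obtain ⟨hsu', hsh', -, -, hsd'⟩ := schur_spec φ hφ ε hε g₃ h3u h3h ui' hui'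
    apply hsd'
    apply diagble_fromBlocks
    apply IH _ hsu' hsh'
    right
    refine ⟨a₂, HU _ (herm_diag φ ε hε _ hsh' a₂) ?_⟩
    have hui'M : ui' ∉ M := by
      intro h
      have : (1 : A) ∈ M := by rw [← hui']; exact M.mul_mem_left _ h
      exact hM.ne_top ((Ideal.eq_top_iff_one M).2 this)
    have h21 : schur g ui a₂ a₁ ∉ M := by
      rw [herm_apply φ ε _ hsh a₂ a₁]
      intro h
      rcases hM.mem_or_mem h with h | h
      · exact hεM h
      · apply ha₂
        have := M.sub_mem h (hid (schur g ui a₁ a₂))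
        simpa using this
    show g₃ (Sum.inr a₂) (Sum.inr a₂) -
      g₃ (Sum.inr a₂) (Sum.inl default) * ui' * g₃ (Sum.inl default) (Sum.inr a₂) ∉ M
    rw [eab, ea0, e0b]
    intro h
    have h5 : schur g ui a₂ a₁ * ui' * schur g ui a₁ a₂ ∈ M := by
      have := M.sub_mem (hdiagM a₂) h
      simpa using this
    rcases hM.mem_or_mem h5 with h6 | h6
    · rcases hM.mem_or_mem h6 with h7 | h7
      · exact h21 h7
      · exact hui'M h7
    · exact ha₂ h6

end Schur

end Groth.Agent.Lib.Helper86.Herm
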