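import Mathlib

/-!
# Lüroth's theorem for subfields of `k(t₁,…,tₙ)` of transcendence degree one (infinite `k`)

We restrict to a generic line and apply Mathlib's `RatFunc.Luroth`.
-/

set_option autoImplicit false
set_option linter.unusedSectionVars false
set_option linter.style.haveILetI false

namespace Groth.Agent.Lib.Helper86.LurothMv

open Polynomial

universe u

section Line

variable {k : Type u} [Field k] {n : ℕ}

/-- Restriction of a polynomial in `n` variables to the line `a + t (c - a)`. -/
noncomputable def ev₀ (a c : Fin n → k) : MvPolynomial (Fin n) k →ₐ[k] k[X] :=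
  MvPolynomial.aeval (fun i => Polynomial.C (a i) + Polynomial.C (c i - a i) * Polynomial.X)

lemma eval_zero_ev₀ (a c : Fin n → k) (p : MvPolynomial (Fin n) k) :
    (ev₀ a c p).eval 0 = MvPolynomial.eval a p := by
  have h : ((Polynomial.aeval (0 : k)).comp (ev₀ a c)) = MvPolynomial.aeval a := by
    apply MvPolynomial.algHom_ext
    intro i
    simp [ev₀]
  have := DFunLike.congr_fun h p
  simpa [Polynomial.aeval_def, MvPolynomial.aeval_def] using this

lemma eval_one_ev₀ (a c : Fin n → k) (p : MvPolynomial (Fin n) k) :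
    (ev₀ a c p).eval 1 = MvPolynomial.eval c p := by
  have h : ((Polynomial.aeval (1 : k)).comp (ev₀ a c)) = MvPolynomial.aeval c := by
    apply MvPolynomial.algHom_ext
    intro i
    simp [ev₀]
  have := DFunLike.congr_fun h p
  simpa [Polynomial.aeval_def, MvPolynomial.aeval_def] using this

/-- Restriction to the line, landing in `k(t)`. -/
noncomputable def ev (a c : Fin n → k) : MvPolynomial (Fin n) k →ₐ[k] RatFunc k :=
  (IsScalarTower.toAlgHom k k[X] (RatFunc k)).comp (ev₀ a c)

lemma ev_apply (a c : Fin n → k) (p : MvPolynomial (Fin n) k) :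
    ev a c p = algebraMap k[X] (RatFunc k) (ev₀ a c p) := rfl

lemma ev_ne_zero_of_eval_ne_zero (a c : Fin n → k) (p : MvPolynomial (Fin n) k)
    (h : MvPolynomial.eval a p ≠ 0) : ev a c p ≠ 0 := by
  rw [ev_apply]
  intro h0
  have : ev₀ a c p = 0 := by
    apply RatFunc.algebraMap_injective k
    rw [h0, map_zero]
  apply h
  rw [← eval_zero_ev₀ a c, this, Polynomial.eval_zero]

end Line

section Main

variable {k : Type u} [Field k] [Infinite k] {K : Type u} [Field K] [Algebra k K] {n : ℕ}

local notation "PA" => MvPolynomial (Fin n) k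
local notation "PF" => FractionRing (MvPolynomial (Fin n) k)

/-- Key step: a `k`-embedding of `K` (f.g. of transcendence degree one) into `k(t₁,…,tₙ)` gives
a `k`-embedding into `k(t)`. -/
theorem exists_algHom_ratFunc (hfg : (⊤ : IntermediateField k K).FG)
    (x : K) (hx : Transcendental k x)
    (halg : Algebra.IsAlgebraic ↥(IntermediateField.adjoin k {x}) K)
    (φ : K →ₐ[k] PF) :
    Nonempty (K →ₐ[k] RatFunc k) := by
  classical
  obtain ⟨S, hS⟩ := hfg
  -- numerators and denominators
  have hnd : ∀ s : K, ∃ p q : PA, q ≠ 0 ∧ φ s * algebraMap PA PF q = algebraMap PA PF p := by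
    intro s
    obtain ⟨p, q, hq, h⟩ := IsFractionRing.div_surjective (A := PA) (φ s)
    refine ⟨p, q, nonZeroDivisors.ne_zero hq, ?_⟩
    rw [← h, div_mul_cancel₀]
    exact (map_ne_zero_iff _ (IsFractionRing.injective PA PF)).mpr (nonZeroDivisors.ne_zero hq)
  choose num den hden hnumden using hnd
  obtain ⟨S', hS'⟩ : ∃ S' : Finset K, S' = insert x S := ⟨_, rfl⟩
  -- a point where no denominators vanish
  have hD : (∏ s ∈ S', den s) ≠ 0 := Finset.prod_ne_zero_iff.mpr fun s _ => hden s
  obtain ⟨a, ha⟩ : ∃ a : Fin n → k, MvPolynomial.eval a (∏ s ∈ S', den s) ≠ 0 := by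
    by_contra hcon
    push Not at hcon
    exact hD (MvPolynomial.funext fun a => by rw [hcon a, map_zero])
  have ha' : ∀ s ∈ S', MvPolynomial.eval a (den s) ≠ 0 := by
    intro s hs
    rw [map_prod] at ha
    exact (Finset.prod_ne_zero_iff.mp ha) s hs
  have hxS' : x ∈ S' := by rw [hS']; exact Finset.mem_insert_self _ _
  -- a second point making `x` nonconstant on the line
  obtain ⟨H, hH⟩ : ∃ H : PA, H = num x * MvPolynomial.C (MvPolynomial.eval a (den x)) -
      MvPolynomial.C (MvPolynomial.eval a (num x)) * den x := ⟨_, rfl⟩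
  have hH0 : H ≠ 0 := by
    intro h0
    rw [hH, sub_eq_zero] at h0
    apply hx
    have hga : MvPolynomial.eval a (den x) ≠ 0 := ha' x hxS'
    have hdx : algebraMap PA PF (den x) ≠ 0 :=
      (map_ne_zero_iff _ (IsFractionRing.injective PA PF)).mpr (hden x)
    have h1 : φ x * algebraMap k PF (MvPolynomial.eval a (den x)) =
        algebraMap k PF (MvPolynomial.eval a (num x)) := by
      apply mul_right_cancel₀ hdx
      have := congrArg (algebraMap PA PF) h0
      rw [map_mul, map_mul, ← hnumden x] at this
      rw [IsScalarTower.algebraMap_apply k PA PF, IsScalarTower.algebraMap_apply k PA PF,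
        MvPolynomial.algebraMap_eq]
      linear_combination this
    have h2 : φ x = φ (algebraMap k K (MvPolynomial.eval a (num x) / MvPolynomial.eval a (den x))) := by
      rw [AlgHom.commutes, map_div₀, eq_div_iff, h1]
      exact (map_ne_zero_iff _ (algebraMap k PF).injective).mpr hga
    rw [φ.injective h2]
    exact isAlgebraic_algebraMap _
  obtain ⟨c, hc⟩ : ∃ c : Fin n → k, MvPolynomial.eval c H ≠ 0 := by
    by_contra hcon
    push Not at hcon
    exact hH0 (MvPolynomial.funext fun a => by rw [hcon a, map_zero])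
  -- the local ring of the line
  haveI hP : (RingHom.ker (ev a c)).IsPrime := RingHom.ker_isPrime _
  have hM : (RingHom.ker (ev a c)).primeCompl ≤ nonZeroDivisors PA :=
    Ideal.primeCompl_le_nonZeroDivisors _
  obtain ⟨O, hO⟩ : ∃ O : Subalgebra PA PF,
      O = Localization.subalgebra.ofField PF (RingHom.ker (ev a c)).primeCompl hM := ⟨_, rfl⟩
  haveI : IsLocalization (RingHom.ker (ev a c)).primeCompl O := by
    rw [hO]; infer_instance
  have hunit : ∀ y : (RingHom.ker (ev a c)).primeCompl, IsUnit (ev a c y) := by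
    intro y
    exact isUnit_iff_ne_zero.mpr (fun h => y.2 ((RingHom.mem_ker).mpr h))
  obtain ⟨ψ, hψ⟩ : ∃ ψ : O →ₐ[k] RatFunc k, ∀ p : PA, ψ (algebraMap PA O p) = ev a c p := by
    refine ⟨IsLocalization.liftAlgHom (M := (RingHom.ker (ev a c)).primeCompl) hunit, ?_⟩
    intro p
    rw [IsLocalization.liftAlgHom_apply, IsLocalization.lift_eq]
    rfl
  have hmemO : ∀ z : PF, z ∈ O ↔ ∃ (p s : PA) (_ : s ∈ (RingHom.ker (ev a c)).primeCompl),
      z = algebraMap PA PF p * (algebraMap PA PF s)⁻¹ := by
    intro z
    rw [hO]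
    rfl
  -- the subalgebra generated by the generators
  obtain ⟨K₀, hK₀⟩ : ∃ K₀ : Subalgebra k K, K₀ = Algebra.adjoin k (S' : Set K) := ⟨_, rfl⟩
  have hmem : ∀ y ∈ K₀, φ y ∈ O := by
    intro y hy
    rw [hK₀] at hy
    induction hy using Algebra.adjoin_induction with
    | mem s hs =>
      rw [hmemO]
      refine ⟨num s, den s, ?_, ?_⟩
      · intro hker
        exact ev_ne_zero_of_eval_ne_zero a c (den s) (ha' s hs) ((RingHom.mem_ker).mp hker)
      · rw [← hnumden s, mul_assoc, mul_inv_cancel₀, mul_one]
        exact (map_ne_zero_iff _ (IsFractionRing.injective PA PF)).mpr (hden s)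
    | algebraMap r =>
      rw [AlgHom.commutes, IsScalarTower.algebraMap_apply k PA PF]
      exact O.algebraMap_mem _
    | add y z _ _ hy hz => rw [map_add]; exact O.add_mem hy hz
    | mul y z _ _ hy hz => rw [map_mul]; exact O.mul_mem hy hz
  obtain ⟨φ₀, hφ₀⟩ : ∃ φ₀ : K₀ →ₐ[k] O, ∀ y : K₀, (φ₀ y : PF) = φ y := by
    refine ⟨{ toFun := fun y => ⟨φ y, hmem y y.2⟩
              map_one' := Subtype.ext (by simp)
              map_mul' := fun y z => Subtype.ext (by simp)
              map_zero' := Subtype.ext (by simp)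
              map_add' := fun y z => Subtype.ext (by simp)
              commutes' := fun r => Subtype.ext (by simp) }, fun y => rfl⟩
  obtain ⟨θ, hθ⟩ : ∃ θ : K₀ →ₐ[k] RatFunc k, θ = ψ.comp φ₀ := ⟨_, rfl⟩
  have hxK₀ : x ∈ K₀ := by
    rw [hK₀]; exact Algebra.subset_adjoin (by exact_mod_cast hxS')
  -- the image of `x` is non-constant
  have hθx : θ ⟨x, hxK₀⟩ * ev a c (den x) = ev a c (num x) := by
    have h1 : φ₀ ⟨x, hxK₀⟩ * algebraMap PA O (den x) = algebraMap PA O (num x) := by
      apply Subtype.ext
      rw [Subalgebra.coe_mul, hφ₀]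
      exact hnumden x
    have h2 := congrArg ψ h1
    rw [map_mul, hψ, hψ] at h2
    rw [hθ]
    exact h2
  have hθx_nc : ¬ ∃ c₀, θ ⟨x, hxK₀⟩ = RatFunc.C c₀ := by
    rintro ⟨c₀, hc₀⟩
    rw [hc₀, ev_apply, ev_apply, ← RatFunc.algebraMap_C, ← map_mul] at hθx
    have h3 := RatFunc.algebraMap_injective k hθx
    have e0 := congrArg (Polynomial.eval 0) h3
    have e1 := congrArg (Polynomial.eval 1) h3
    rw [Polynomial.eval_mul, Polynomial.eval_C, eval_zero_ev₀, eval_zero_ev₀] at e0
    rw [Polynomial.eval_mul, Polynomial.eval_C, eval_one_ev₀, eval_one_ev₀] at e1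
    apply hc
    rw [hH, map_sub, map_mul, map_mul, MvPolynomial.eval_C, MvPolynomial.eval_C, ← e0, ← e1]
    ring
  have hθx_tr : Transcendental k (θ ⟨x, hxK₀⟩) := RatFunc.transcendental_of_ne_C _ hθx_nc
  -- injectivity of `θ`
  have hθinj : Function.Injective θ := by
    rw [injective_iff_map_eq_zero]
    intro y hy
    by_contra hy0
    -- `y` is algebraic over `k[x]`
    have hyalg : IsAlgebraic (Algebra.adjoin k {x}) (y : K) := by
      open scoped IntermediateField.algebraAdjoinAdjoin in
      exact (IsFractionRing.isAlgebraic_iff (Algebra.adjoin k {x})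
        (IntermediateField.adjoin k {x}) K).mpr (halg.isAlgebraic (y : K))
    obtain ⟨p, hp0, hp⟩ := hyalg
    have hle : Algebra.adjoin k {x} ≤ K₀ := by
      rw [hK₀]
      exact Algebra.adjoin_mono (by
        intro z hz
        rw [Set.mem_singleton_iff] at hz
        rw [hz]
        exact_mod_cast hxS')
    have hroot : p.eval₂ (Subalgebra.inclusion hle).toRingHom y = 0 := by
      apply Subtype.ext
      have := Polynomial.hom_eval₂ p (Subalgebra.inclusion hle).toRingHom K₀.val.toRingHom y
      rw [ZeroMemClass.coe_zero]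
      change K₀.val.toRingHom _ = 0
      rw [this]
      exact hp
    have hI : y ∈ RingHom.ker θ.toRingHom := (RingHom.mem_ker).mpr hy
    have := Ideal.comap_ne_bot_of_root_mem (f := (Subalgebra.inclusion hle).toRingHom)
      (I := RingHom.ker θ.toRingHom) hy0 hI hp0 hroot
    apply this
    rw [eq_bot_iff]
    rintro ⟨r, hr⟩ hrker
    rw [Ideal.mem_comap, RingHom.mem_ker] at hrker
    rw [Ideal.mem_bot]
    rw [Algebra.adjoin_singleton_eq_range_aeval] at hr
    obtain ⟨q, hq⟩ := hr
    have hq' : (Subalgebra.inclusion hle) ⟨r, by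
        rw [Algebra.adjoin_singleton_eq_range_aeval]; exact ⟨q, hq⟩⟩ =
        Polynomial.aeval (⟨x, hxK₀⟩ : K₀) q := by
      apply Subtype.ext
      rw [Subalgebra.coe_inclusion]
      change r = K₀.val _
      rw [← Polynomial.aeval_algHom_apply]
      exact hq.symm
    have h4 : Polynomial.aeval (θ ⟨x, hxK₀⟩) q = 0 := by
      rw [Polynomial.aeval_algHom_apply, ← hq']
      exact hrker
    have hq0 : q = 0 := by
      by_contra hq0
      exact hθx_tr ⟨q, hq0, h4⟩
    apply Subtype.ext
    change r = 0
    have : (Polynomial.aeval x) q = r := hq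
    rw [← this, hq0, map_zero]
  -- `K` is the fraction field of `K₀`
  haveI : IsFractionRing K₀ K := by
    refine IsFractionRing.of_field K₀ K fun z => ?_
    have hz : z ∈ IntermediateField.adjoin k (S' : Set K) := by
      have : IntermediateField.adjoin k (S : Set K) ≤ IntermediateField.adjoin k (S' : Set K) :=
        IntermediateField.adjoin.mono _ _ _ (by
          rw [hS']; exact_mod_cast Finset.subset_insert x S)
      exact this (hS ▸ IntermediateField.mem_top)
    obtain ⟨r, hr, s, hs, h⟩ := IntermediateField.mem_adjoin_iff_div.mp hz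
    exact ⟨⟨r, hK₀ ▸ hr⟩, ⟨s, hK₀ ▸ hs⟩, h⟩
  exact ⟨IsFractionRing.liftAlgHom (K := K) hθinj⟩

/-- **Lüroth's theorem in several variables** over an infinite field: a finitely generated
subfield of transcendence degree one of `k(t₁,…,tₙ)` is purely transcendental. -/
theorem exists_generator (hfg : (⊤ : IntermediateField k K).FG)
    (x : K) (hx : Transcendental k x)
    (halg : Algebra.IsAlgebraic ↥(IntermediateField.adjoin k {x}) K)
    (φ : K →ₐ[k] PF) :
    ∃ t : K, Transcendental k t ∧ IntermediateField.adjoin k {t} = ⊤ := by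
  obtain ⟨θ⟩ := exists_algHom_ratFunc hfg x hx halg φ
  have hθinj : Function.Injective θ := θ.injective
  have hE : θ.fieldRange ≠ ⊥ := by
    intro h
    have hmem : θ x ∈ θ.fieldRange := ⟨x, rfl⟩
    rw [h, IntermediateField.mem_bot] at hmem
    obtain ⟨c, hc⟩ := hmem
    apply hx
    have : θ x = θ (algebraMap k K c) := by rw [AlgHom.commutes, hc]
    rw [hθinj this]
    exact isAlgebraic_algebraMap _
  have hgen := RatFunc.Luroth.eq_adjoin_generator (E := θ.fieldRange)
  have hmem : RatFunc.Luroth.generator θ.fieldRange ∈ θ.fieldRange :=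
    RatFunc.Luroth.generator_mem
  obtain ⟨t, ht⟩ := hmem
  replace ht : θ t = RatFunc.Luroth.generator θ.fieldRange := ht
  refine ⟨t, ?_, ?_⟩
  · have htr := RatFunc.Luroth.transcendental_generator hE
    rw [← ht] at htr
    intro halg
    exact htr ((isAlgebraic_algHom_iff θ hθinj).mpr halg)
  · apply IntermediateField.map_injective θ
    rw [IntermediateField.adjoin_map, Set.image_singleton, ← AlgHom.fieldRange_eq_map]
    change IntermediateField.adjoin k {θ t} = _
    rw [ht]
    exact hgen.symm

end Main

end Groth.Agent.Lib.Helper86.LurothMv
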