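import Mathlib
import Groth.Prelude.Def_W4c1stackycurvesGalP1

/-!
# Galois descent of Möbius transformations matching at most three points (helper86)
-/

set_option autoImplicit false

namespace Groth.Agent.Lib.Helper86.Mobius

open Matrix W4c1stackycurves

variable {K : Type*} [Field K]

/-- The action of `GL_2(K)` on the projective line. -/
noncomputable def act (A : GL (Fin 2) K) (p : Projectivization K (Fin 2 → K)) :
    Projectivization K (Fin 2 → K) :=
  (Matrix.GeneralLinearGroup.toLin A) • p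

lemma mulVec_ne_zero (A : GL (Fin 2) K) {v : Fin 2 → K} (hv : v ≠ 0) : A.1 *ᵥ v ≠ 0 := by
  intro h
  apply hv
  have h2 : (A⁻¹ : GL (Fin 2) K).1 *ᵥ (A.1 *ᵥ v) = v := by
    rw [Matrix.mulVec_mulVec, ← Units.val_mul, inv_mul_cancel, Units.val_one, Matrix.one_mulVec]
  rw [h, Matrix.mulVec_zero] at h2
  exact h2.symm

lemma act_mk (A : GL (Fin 2) K) {v : Fin 2 → K} (hv : v ≠ 0) :
    act A (Projectivization.mk K v hv) =
      Projectivization.mk K (A.1 *ᵥ v) (mulVec_ne_zero A hv) := by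
  unfold act
  rw [Projectivization.smul_mk]
  rfl

lemma act_one (p : Projectivization K (Fin 2 → K)) : act 1 p = p := by
  unfold act; rw [map_one, one_smul]

lemma act_mul (A B : GL (Fin 2) K) (p : Projectivization K (Fin 2 → K)) :
    act (A * B) p = act A (act B p) := by
  unfold act; rw [map_mul, mul_smul]

/-- scalar multiples act in the same way. -/
lemma act_eq_of_smul (A B : GL (Fin 2) K) (c : K) (h : B.1 = c • A.1)
    (p : Projectivization K (Fin 2 → K)) : act B p = act A p := by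
  induction p using Projectivization.ind with
  | h v hv =>
    rw [act_mk, act_mk, Projectivization.mk_eq_mk_iff']
    refine ⟨c, ?_⟩
    rw [h, Matrix.smul_mulVec]

section transitivity

/-- Normal form of three distinct points of the projective line. -/
lemma exists_normal_form (p₁ p₂ p₃ : Projectivization K (Fin 2 → K))
    (h12 : p₁ ≠ p₂) (h13 : p₁ ≠ p₃) (h23 : p₂ ≠ p₃) :
    ∃ (u₁ u₂ : Fin 2 → K) (h1 : u₁ ≠ 0) (h2 : u₂ ≠ 0) (h3 : u₁ + u₂ ≠ 0),
      LinearIndependent K ![u₁, u₂] ∧ p₁ = Projectivization.mk K u₁ h1 ∧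
      p₂ = Projectivization.mk K u₂ h2 ∧ p₃ = Projectivization.mk K (u₁ + u₂) h3 := by
  have hli : LinearIndependent K ![p₁.rep, p₂.rep] :=
    Projectivization.linearIndependent_pair_iff_ne.mpr h12
  obtain ⟨b, hb⟩ : ∃ b : Module.Basis (Fin 2) K (Fin 2 → K), ⇑b = ![p₁.rep, p₂.rep] :=
    ⟨basisOfLinearIndependentOfCardEqFinrank hli (by simp), by simp⟩
  have hrepr : p₃.rep = b.repr p₃.rep 0 • p₁.rep + b.repr p₃.rep 1 • p₂.rep := by
    have := (b.sum_repr p₃.rep).symm
    rw [Fin.sum_univ_two, hb] at this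
    simpa using this
  obtain ⟨α, hα⟩ : ∃ α, α = b.repr p₃.rep 0 := ⟨_, rfl⟩
  obtain ⟨β, hβ⟩ : ∃ β, β = b.repr p₃.rep 1 := ⟨_, rfl⟩
  rw [← hα, ← hβ] at hrepr
  have hα0 : α ≠ 0 := by
    intro h0
    apply h23
    rw [← Projectivization.mk_rep p₂, ← Projectivization.mk_rep p₃,
      Projectivization.mk_eq_mk_iff']
    refine ⟨β⁻¹, ?_⟩
    rw [hrepr, h0, zero_smul, zero_add, smul_smul, inv_mul_cancel₀, one_smul]
    intro hβ0
    apply p₃.rep_nonzero
    rw [hrepr, h0, hβ0, zero_smul, zero_smul, add_zero]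
  have hβ0 : β ≠ 0 := by
    intro h0
    apply h13
    rw [← Projectivization.mk_rep p₁, ← Projectivization.mk_rep p₃,
      Projectivization.mk_eq_mk_iff']
    refine ⟨α⁻¹, ?_⟩
    rw [hrepr, h0, zero_smul, add_zero, smul_smul, inv_mul_cancel₀ hα0, one_smul]
  have h1 : α • p₁.rep ≠ 0 := smul_ne_zero hα0 p₁.rep_nonzero
  have h2 : β • p₂.rep ≠ 0 := smul_ne_zero hβ0 p₂.rep_nonzero
  have h3 : α • p₁.rep + β • p₂.rep ≠ 0 := by rw [← hrepr]; exact p₃.rep_nonzero
  refine ⟨α • p₁.rep, β • p₂.rep, h1, h2, h3, ?_, ?_, ?_, ?_⟩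
  · rw [LinearIndependent.pair_iff] at hli ⊢
    intro s t hst
    rw [smul_smul, smul_smul] at hst
    obtain ⟨hs, ht⟩ := hli _ _ hst
    exact ⟨(mul_eq_zero.mp hs).resolve_right hα0, (mul_eq_zero.mp ht).resolve_right hβ0⟩
  · conv_lhs => rw [← Projectivization.mk_rep p₁]
    rw [Projectivization.mk_eq_mk_iff']
    exact ⟨α⁻¹, by rw [smul_smul, inv_mul_cancel₀ hα0, one_smul]⟩
  · conv_lhs => rw [← Projectivization.mk_rep p₂]
    rw [Projectivization.mk_eq_mk_iff']
    exact ⟨β⁻¹, by rw [smul_smul, inv_mul_cancel₀ hβ0, one_smul]⟩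
  · conv_lhs => rw [← Projectivization.mk_rep p₃]
    rw [Projectivization.mk_eq_mk_iff']
    exact ⟨1, by rw [one_smul, ← hrepr]⟩

/-- A matrix in `GL_2(K)` from a linear automorphism. -/
noncomputable def glOfEquiv (e : (Fin 2 → K) ≃ₗ[K] (Fin 2 → K)) : GL (Fin 2) K :=
  Matrix.GeneralLinearGroup.toLin.symm (LinearMap.GeneralLinearGroup.ofLinearEquiv e)

lemma glOfEquiv_mulVec (e : (Fin 2 → K) ≃ₗ[K] (Fin 2 → K)) (v : Fin 2 → K) :
    (glOfEquiv e).1 *ᵥ v = e v := by
  have h1 : Matrix.GeneralLinearGroup.toLin (glOfEquiv e) =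
      LinearMap.GeneralLinearGroup.ofLinearEquiv e := by
    unfold glOfEquiv
    rw [MulEquiv.apply_symm_apply]
  have h2 := Matrix.GeneralLinearGroup.toLin_apply (A := glOfEquiv e) v
  rw [h1] at h2
  simpa using h2.symm

/-- `GL_2(K)` is 3-transitive on the projective line. -/
theorem exists_act_eq (p₁ p₂ p₃ q₁ q₂ q₃ : Projectivization K (Fin 2 → K))
    (h12 : p₁ ≠ p₂) (h13 : p₁ ≠ p₃) (h23 : p₂ ≠ p₃)
    (k12 : q₁ ≠ q₂) (k13 : q₁ ≠ q₃) (k23 : q₂ ≠ q₃) :
    ∃ A : GL (Fin 2) K, act A p₁ = q₁ ∧ act A p₂ = q₂ ∧ act A p₃ = q₃ := by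
  obtain ⟨u₁, u₂, hu1, hu2, hu3, hu, rfl, rfl, rfl⟩ := exists_normal_form p₁ p₂ p₃ h12 h13 h23
  obtain ⟨w₁, w₂, hw1, hw2, hw3, hw, rfl, rfl, rfl⟩ := exists_normal_form q₁ q₂ q₃ k12 k13 k23
  obtain ⟨bu, hbu⟩ : ∃ b : Module.Basis (Fin 2) K (Fin 2 → K), ⇑b = ![u₁, u₂] :=
    ⟨basisOfLinearIndependentOfCardEqFinrank hu (by simp), by simp⟩
  obtain ⟨bw, hbw⟩ : ∃ b : Module.Basis (Fin 2) K (Fin 2 → K), ⇑b = ![w₁, w₂] :=
    ⟨basisOfLinearIndependentOfCardEqFinrank hw (by simp), by simp⟩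
  have e1 : bu.equiv bw (Equiv.refl _) u₁ = w₁ := by
    have := bu.equiv_apply 0 bw (Equiv.refl _)
    rw [hbu, hbw] at this
    simpa using this
  have e2 : bu.equiv bw (Equiv.refl _) u₂ = w₂ := by
    have := bu.equiv_apply 1 bw (Equiv.refl _)
    rw [hbu, hbw] at this
    simpa using this
  refine ⟨glOfEquiv (bu.equiv bw (Equiv.refl _)), ?_, ?_, ?_⟩
  · rw [act_mk]; congr 1; rw [glOfEquiv_mulVec, e1]
  · rw [act_mk]; congr 1; rw [glOfEquiv_mulVec, e2]
  · rw [act_mk]; congr 1; rw [glOfEquiv_mulVec, map_add, e1, e2]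

/-- The action on the projective line is sharply 3-transitive up to scalars. -/
theorem exists_smul_eq_of_act_eq (A B : GL (Fin 2) K)
    (p₁ p₂ p₃ : Projectivization K (Fin 2 → K))
    (h12 : p₁ ≠ p₂) (h13 : p₁ ≠ p₃) (h23 : p₂ ≠ p₃)
    (e1 : act A p₁ = act B p₁) (e2 : act A p₂ = act B p₂) (e3 : act A p₃ = act B p₃) :
    ∃ c : K, B.1 = c • A.1 := by
  obtain ⟨u₁, u₂, hu1, hu2, hu3, hu, rfl, rfl, rfl⟩ := exists_normal_form p₁ p₂ p₃ h12 h13 h23
  rw [act_mk, act_mk, eq_comm, Projectivization.mk_eq_mk_iff'] at e1 e2 e3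
  obtain ⟨a₁, h1⟩ := e1
  obtain ⟨a₂, h2⟩ := e2
  obtain ⟨a₃, h3⟩ := e3
  -- compare
  have hrel : (a₁ - a₃) • u₁ + (a₂ - a₃) • u₂ = 0 := by
    have h4 : A.1 *ᵥ ((a₁ - a₃) • u₁ + (a₂ - a₃) • u₂) = 0 := by
      rw [Matrix.mulVec_add, Matrix.mulVec_smul, Matrix.mulVec_smul, sub_smul, sub_smul, h1, h2]
      rw [Matrix.mulVec_add] at h3
      have : a₃ • (A.1 *ᵥ u₁) + a₃ • (A.1 *ᵥ u₂) = B.1 *ᵥ u₁ + B.1 *ᵥ u₂ := by
        rw [← smul_add, h3, Matrix.mulVec_add]
      rw [sub_add_sub_comm, this, sub_self]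
    by_contra hne
    exact mulVec_ne_zero A hne h4
  rw [LinearIndependent.pair_iff] at hu
  obtain ⟨hs, ht⟩ := hu _ _ hrel
  have ha1 : a₁ = a₃ := sub_eq_zero.mp hs
  have ha2 : a₂ = a₃ := sub_eq_zero.mp ht
  refine ⟨a₃, ?_⟩
  -- the two matrices agree on a basis
  have hu' : LinearIndependent K ![u₁, u₂] := LinearIndependent.pair_iff.mpr hu
  obtain ⟨bu, hbu⟩ : ∃ b : Module.Basis (Fin 2) K (Fin 2 → K), ⇑b = ![u₁, u₂] :=
    ⟨basisOfLinearIndependentOfCardEqFinrank hu' (by simp), by simp⟩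
  have hlin : Matrix.mulVecLin B.1 = Matrix.mulVecLin (a₃ • A.1) := by
    have h0 : ∀ v, v = u₁ ∨ v = u₂ → B.1 *ᵥ v = (a₃ • A.1) *ᵥ v := by
      rintro v (rfl | rfl)
      · rw [Matrix.smul_mulVec, ← h1, ha1]
      · rw [Matrix.smul_mulVec, ← h2, ha2]
    apply bu.ext
    intro i
    rw [hbu]
    fin_cases i
    · exact h0 _ (Or.inl rfl)
    · exact h0 _ (Or.inr rfl)
  apply Matrix.toLin'.injective
  rw [Matrix.toLin'_apply', Matrix.toLin'_apply']
  exact hlin

end transitivity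

section galois

variable {k : Type*} [Field k] [Algebra k K]

lemma galP_mk (σ : K ≃ₐ[k] K) {v : Fin 2 → K} (hv : v ≠ 0) :
    galP σ (Projectivization.mk K v hv) =
      Projectivization.mk K (fun i => σ (v i))
        (fun h => hv ((galVec_injective σ (Fin 2)) (by
          rw [map_zero]; exact h))) := by
  rfl

lemma galP_act (σ : K ≃ₐ[k] K) (A : GL (Fin 2) K) (p : Projectivization K (Fin 2 → K)) :
    galP σ (act A p) =
      act (Matrix.GeneralLinearGroup.map (σ : K →+* K) A) (galP σ p) := by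
  induction p using Projectivization.ind with
  | h v hv =>
    rw [act_mk, galP_mk, galP_mk, act_mk]
    congr 1
    funext i
    have := RingHom.map_mulVec (σ : K →+* K) A.1 v i
    simpa using this

lemma galP_one (p : Projectivization K (Fin 2 → K)) : galP (1 : K ≃ₐ[k] K) p = p := by
  induction p using Projectivization.ind with
  | h v hv => rw [galP_mk]; rfl

lemma galP_mul (σ τ : K ≃ₐ[k] K) (p : Projectivization K (Fin 2 → K)) :
    galP (σ * τ) p = galP σ (galP τ p) := by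
  induction p using Projectivization.ind with
  | h v hv => rw [galP_mk, galP_mk, galP_mk]; rfl

lemma galP_inv_galP (σ : K ≃ₐ[k] K) (p : Projectivization K (Fin 2 → K)) :
    galP σ (galP σ⁻¹ p) = p := by
  rw [← galP_mul, mul_inv_cancel, galP_one]

/-- The core case: three distinct points. -/
theorem exists_gl_of_three [FiniteDimensional k K] [IsGalois k K]
    (S : Set (Projectivization K (Fin 2 → K)))
    (p₁ p₂ p₃ : Projectivization K (Fin 2 → K)) (hSeq : S = {p₁, p₂, p₃})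
    (h12 : p₁ ≠ p₂) (h13 : p₁ ≠ p₃) (h23 : p₂ ≠ p₃)
    (f : Projectivization K (Fin 2 → K) → Projectivization K (Fin 2 → K))
    (hinj : Set.InjOn f S)
    (hstab : ∀ (σ : K ≃ₐ[k] K), ∀ x ∈ S, galP σ x ∈ S)
    (hf : ∀ (σ : K ≃ₐ[k] K), ∀ x ∈ S, f (galP σ x) = galP σ (f x)) :
    ∃ g : GL (Fin 2) k, ∀ x ∈ S,
      act (Matrix.GeneralLinearGroup.map (algebraMap k K) g) x = f x := by
  have hp1 : p₁ ∈ S := by rw [hSeq]; simp
  have hp2 : p₂ ∈ S := by rw [hSeq]; simp
  have hp3 : p₃ ∈ S := by rw [hSeq]; simp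
  obtain ⟨A, hA1, hA2, hA3⟩ := exists_act_eq p₁ p₂ p₃ (f p₁) (f p₂) (f p₃) h12 h13 h23
    (fun h => h12 (hinj hp1 hp2 h)) (fun h => h13 (hinj hp1 hp3 h))
    (fun h => h23 (hinj hp2 hp3 h))
  have hA : ∀ x ∈ S, act A x = f x := by
    intro x hx
    rw [hSeq] at hx
    rcases hx with rfl | rfl | rfl
    · exact hA1
    · exact hA2
    · exact hA3
  -- projective Galois invariance
  have hB : ∀ σ : K ≃ₐ[k] K, ∀ y ∈ S,
      act (Matrix.GeneralLinearGroup.map (σ : K →+* K) A) y = f y := by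
    intro σ y hy
    have hx : galP σ⁻¹ y ∈ S := hstab σ⁻¹ y hy
    have hy' : galP σ (galP σ⁻¹ y) = y := galP_inv_galP σ y
    rw [← hy', ← galP_act, hA _ hx, ← hf σ _ hx]
  have hc : ∀ σ : K ≃ₐ[k] K, ∃ c : K,
      (Matrix.GeneralLinearGroup.map (σ : K →+* K) A).1 = c • A.1 := by
    intro σ
    exact exists_smul_eq_of_act_eq A _ p₁ p₂ p₃ h12 h13 h23
      ((hA _ hp1).trans (hB σ _ hp1).symm) ((hA _ hp2).trans (hB σ _ hp2).symm)
      ((hA _ hp3).trans (hB σ _ hp3).symm)
  -- a nonzero entry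
  obtain ⟨i, j, hij⟩ : ∃ i j, A.1 i j ≠ 0 := by
    by_contra hne
    simp only [not_exists, not_not] at hne
    have hA0 : A.1 = 0 := by ext i j; exact hne i j
    have := A.isUnit
    have h1 : (A.1 : Matrix (Fin 2) (Fin 2) K) * (A⁻¹ : GL (Fin 2) K).1 = 1 := by
      rw [← Units.val_mul, mul_inv_cancel, Units.val_one]
    rw [hA0, zero_mul] at h1
    exact zero_ne_one h1
  obtain ⟨a, ha⟩ : ∃ a, a = A.1 i j := ⟨_, rfl⟩
  have ha0 : a ≠ 0 := by rw [ha]; exact hij
  -- the normalized matrix is Galois invariant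
  have hfix : ∀ (σ : K ≃ₐ[k] K) (i' j' : Fin 2),
      σ (a⁻¹ * A.1 i' j') = a⁻¹ * A.1 i' j' := by
    intro σ i' j'
    obtain ⟨c, hc⟩ := hc σ
    have h1 : ∀ i' j', σ (A.1 i' j') = c * A.1 i' j' := by
      intro i' j'
      have := congrFun (congrFun hc i') j'
      simpa using this
    have hσa : σ a = c * a := by rw [ha]; exact h1 i j
    have hc0 : c ≠ 0 := by
      intro h0
      rw [h0, zero_mul] at hσa
      exact ha0 ((map_eq_zero σ).mp hσa)
    rw [map_mul, map_inv₀, hσa, h1]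
    field_simp
  have hmem : ∀ i' j', ∃ m : k, algebraMap k K m = a⁻¹ * A.1 i' j' := by
    intro i' j'
    exact (IsGalois.mem_range_algebraMap_iff_fixed _).mpr (fun σ => hfix σ i' j')
  choose M₀ hM₀ using hmem
  have hmap : (Matrix.of M₀).map (algebraMap k K) = a⁻¹ • A.1 := by
    ext i' j'
    simp [hM₀]
  have hdet : (Matrix.of M₀).det ≠ 0 := by
    intro h0
    have h1 : ((Matrix.of M₀).map (algebraMap k K)).det = 0 := by
      have := (RingHom.map_det (algebraMap k K) (Matrix.of M₀)).symm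
      rw [RingHom.mapMatrix_apply] at this
      rw [this, h0, map_zero]
    rw [hmap, Matrix.det_smul] at h1
    have h2 : A.1.det ≠ 0 := by
      have := A.isUnit
      exact ((Matrix.isUnit_iff_isUnit_det _).mp this).ne_zero
    exact (mul_ne_zero (pow_ne_zero _ (inv_ne_zero ha0)) h2) h1
  refine ⟨Matrix.GeneralLinearGroup.mkOfDetNeZero (Matrix.of M₀) hdet, ?_⟩
  intro x hx
  rw [← hA x hx]
  apply act_eq_of_smul A _ a⁻¹
  rw [← hmap]
  rfl

/-- Three rational points. -/
lemma exists_rational_notMem (S : Set (Projectivization K (Fin 2 → K))) (hfin : S.Finite)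
    (h : S.ncard ≤ 2) :
    ∃ p, p ∉ S ∧ ∀ σ : K ≃ₐ[k] K, galP σ p = p := by
  have h10 : (![1, 0] : Fin 2 → K) ≠ 0 := fun h => one_ne_zero (congrFun h 0)
  have h01 : (![0, 1] : Fin 2 → K) ≠ 0 := fun h => one_ne_zero (congrFun h 1)
  have h11 : (![1, 1] : Fin 2 → K) ≠ 0 := fun h => one_ne_zero (congrFun h 0)
  have hfix : ∀ (v : Fin 2 → K) (hv : v ≠ 0), (∀ i, v i = 0 ∨ v i = 1) →
      ∀ σ : K ≃ₐ[k] K, galP σ (Projectivization.mk K v hv) = Projectivization.mk K v hv := by
    intro v hv h σ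
    rw [galP_mk]
    congr 1
    funext i
    rcases h i with h0 | h1
    · rw [h0, map_zero]
    · rw [h1, map_one]
  have d1 : Projectivization.mk K (![1, 0] : Fin 2 → K) h10 ≠ Projectivization.mk K ![0, 1] h01 := by
    rw [Ne, Projectivization.mk_eq_mk_iff']
    rintro ⟨a, ha⟩
    have := congrFun ha 0
    simp at this
  have d2 : Projectivization.mk K (![1, 0] : Fin 2 → K) h10 ≠ Projectivization.mk K ![1, 1] h11 := by
    rw [Ne, Projectivization.mk_eq_mk_iff']
    rintro ⟨a, ha⟩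
    have h0 := congrFun ha 0
    have h1 := congrFun ha 1
    simp at h0 h1
    rw [h1] at h0
    exact zero_ne_one h0
  have d3 : Projectivization.mk K (![0, 1] : Fin 2 → K) h01 ≠ Projectivization.mk K ![1, 1] h11 := by
    rw [Ne, Projectivization.mk_eq_mk_iff']
    rintro ⟨a, ha⟩
    have h0 := congrFun ha 0
    have h1 := congrFun ha 1
    simp at h0 h1
    rw [h0] at h1
    exact zero_ne_one h1
  by_contra hcon
  simp only [not_exists, not_and] at hcon
  have m1 : Projectivization.mk K (![1, 0] : Fin 2 → K) h10 ∈ S := by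
    by_contra hn
    exact hcon _ hn (hfix _ _ (fun i => by fin_cases i <;> simp))
  have m2 : Projectivization.mk K (![0, 1] : Fin 2 → K) h01 ∈ S := by
    by_contra hn
    exact hcon _ hn (hfix _ _ (fun i => by fin_cases i <;> simp))
  have m3 : Projectivization.mk K (![1, 1] : Fin 2 → K) h11 ∈ S := by
    by_contra hn
    exact hcon _ hn (hfix _ _ (fun i => by fin_cases i <;> simp))
  have hsub : ({Projectivization.mk K (![1, 0] : Fin 2 → K) h10,
      Projectivization.mk K ![0, 1] h01, Projectivization.mk K ![1, 1] h11} :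
      Set (Projectivization K (Fin 2 → K))) ⊆ S := by
    intro x hx
    rcases hx with rfl | rfl | rfl
    · exact m1
    · exact m2
    · exact m3
  have h3 := Set.ncard_le_ncard hsub hfin
  rw [Set.ncard_eq_three.mpr ⟨_, _, _, d1, d2, d3, rfl⟩] at h3
  omega

theorem exists_gl_of_ncard_add [FiniteDimensional k K] [IsGalois k K] :
    ∀ (d : ℕ) (S : Set (Projectivization K (Fin 2 → K))), S.Finite → S.ncard + d = 3 →
    ∀ (f : Projectivization K (Fin 2 → K) → Projectivization K (Fin 2 → K)),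
    Set.InjOn f S → (∀ (σ : K ≃ₐ[k] K), ∀ x ∈ S, galP σ x ∈ S) →
    (∀ (σ : K ≃ₐ[k] K), ∀ x ∈ S, f (galP σ x) = galP σ (f x)) →
    ∃ g : GL (Fin 2) k, ∀ x ∈ S,
      act (Matrix.GeneralLinearGroup.map (algebraMap k K) g) x = f x := by
  classical
  intro d
  induction d with
  | zero =>
    intro S hfin hcard f hinj hstab hf
    obtain ⟨x, y, z, hxy, hxz, hyz, hS⟩ := Set.ncard_eq_three.mp (by omega : S.ncard = 3)
    exact exists_gl_of_three S x y z hS hxy hxz hyz f hinj hstab hf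
  | succ d ih =>
    intro S hfin hcard f hinj hstab hf
    obtain ⟨p, hpS, hp⟩ := exists_rational_notMem (k := k) S hfin (by omega)
    have himg : (f '' S).ncard = S.ncard := Set.InjOn.ncard_image hinj
    obtain ⟨p', hp'S, hp'⟩ := exists_rational_notMem (k := k) (f '' S) (hfin.image f)
      (by omega)
    have hf1 : ∀ x ∈ S, Function.update f p p' x = f x := by
      intro x hx
      rw [Function.update_of_ne]
      rintro rfl
      exact hpS hx
    have hfp : Function.update f p p' p = p' := Function.update_self ..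
    obtain ⟨g, hg⟩ := ih (insert p S) (hfin.insert p)
      (by rw [Set.ncard_insert_of_notMem hpS hfin]; omega) (Function.update f p p')
      (by
        intro x hx y hy hxy
        rcases hx with rfl | hx <;> rcases hy with rfl | hy
        · rfl
        · rw [hfp, hf1 y hy] at hxy
          exact (hp'S ⟨y, hy, hxy.symm⟩).elim
        · rw [hfp, hf1 x hx] at hxy
          exact (hp'S ⟨x, hx, hxy⟩).elim
        · rw [hf1 x hx, hf1 y hy] at hxy
          exact hinj hx hy hxy)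
      (by
        intro σ x hx
        rcases hx with rfl | hx
        · rw [hp σ]; exact Set.mem_insert _ _
        · exact Set.mem_insert_of_mem _ (hstab σ x hx))
      (by
        intro σ x hx
        rcases hx with rfl | hx
        · rw [hp σ, hfp, hp' σ]
        · rw [hf1 _ (hstab σ x hx), hf1 x hx, hf σ x hx])
    exact ⟨g, fun x hx => (hg x (Set.mem_insert_of_mem _ hx)).trans (hf1 x hx)⟩

/-- **Galois descent of Möbius transformations**: a Galois-equivariant bijection between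
Galois-stable sets of at most three points of the projective line is induced by `GL_2(k)`. -/
theorem exists_gl_image_eq [FiniteDimensional k K] [IsGalois k K]
    (S S' : Set (Projectivization K (Fin 2 → K))) (hfin : S.Finite) (h3 : S.ncard ≤ 3)
    (hS : ∀ (σ : K ≃ₐ[k] K) (x : Projectivization K (Fin 2 → K)), x ∈ S → galP σ x ∈ S)
    (b : S ≃ S')
    (hb : ∀ (σ : K ≃ₐ[k] K) (x : S),
      (b ⟨galP σ x.1, hS σ x.1 x.2⟩ : Projectivization K (Fin 2 → K)) = galP σ (b x).1) :
    ∃ g : GL (Fin 2) k,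
      (fun x => act (Matrix.GeneralLinearGroup.map (algebraMap k K) g) x) '' S = S' := by
  classical
  obtain ⟨g, hg⟩ := exists_gl_of_ncard_add (k := k) (3 - S.ncard) S hfin (by omega)
    (fun x => if h : x ∈ S then (b ⟨x, h⟩ : Projectivization K (Fin 2 → K)) else x)
    (by
      intro x hx y hy hxy
      simp only [dif_pos hx, dif_pos hy] at hxy
      have := b.injective (Subtype.ext hxy)
      exact congrArg Subtype.val this)
    (fun σ x hx => hS σ x hx)
    (by
      intro σ x hx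
      simp only [dif_pos hx, dif_pos (hS σ x hx)]
      exact hb σ ⟨x, hx⟩)
  refine ⟨g, ?_⟩
  ext y
  constructor
  · rintro ⟨x, hx, rfl⟩
    change act _ x ∈ S'
    rw [hg x hx, dif_pos hx]
    exact (b ⟨x, hx⟩).2
  · intro hy
    refine ⟨(b.symm ⟨y, hy⟩).1, (b.symm ⟨y, hy⟩).2, ?_⟩
    change act _ _ = y
    rw [hg _ (b.symm ⟨y, hy⟩).2, dif_pos (b.symm ⟨y, hy⟩).2]
    simp

end galois

end Groth.Agent.Lib.Helper86.Mobius
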