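import Groth.Agent.Lib.Helper86.NoName1

/-!
# The no-name lemma, part 2: the degree count (helper86)
-/

set_option autoImplicit false

namespace Groth.Agent.Lib.Helper86.NoName

open IntermediateField

variable {k L : Type*} [Field k] [Field L] [Algebra k L]

variable (G : Subgroup (L ≃ₐ[k] L)) (K : IntermediateField k L)
  (hK : ∀ σ ∈ G, ∀ a ∈ K, σ a ∈ K)
  (hfaith : ∀ σ ∈ G, (∀ a ∈ K, σ a = a) → σ = 1)

/-- `K` as an intermediate field over `K ∩ L^G`. -/
abbrev Kext : IntermediateField ↥(K ⊓ fixedField G) L :=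
  extendScalars (inf_le_left : K ⊓ fixedField G ≤ K)

/-- The restricted action of `G` on `K`. -/
@[reducible] noncomputable def actKext : MulSemiringAction G (Kext G K) where
  smul σ a := ⟨σ.1 a.1, hK σ.1 σ.2 a.1 a.2⟩
  one_smul a := Subtype.ext (by change (1 : L ≃ₐ[k] L) a.1 = a.1; simp)
  mul_smul σ τ a := Subtype.ext (by change (σ.1 * τ.1) a.1 = σ.1 (τ.1 a.1); simp)
  smul_zero σ := Subtype.ext (by change σ.1 0 = 0; simp)
  smul_add σ a b := Subtype.ext (by change σ.1 (a.1 + b.1) = σ.1 a.1 + σ.1 b.1; simp)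
  smul_one σ := Subtype.ext (by change σ.1 1 = 1; simp)
  smul_mul σ a b := Subtype.ext (by change σ.1 (a.1 * b.1) = σ.1 a.1 * σ.1 b.1; simp)

include hfaith in
theorem isGaloisGroup_Kext :
    @IsGaloisGroup G ↥(K ⊓ fixedField G) (Kext G K) _ _ _ _ (actKext G K hK) := by
  letI := actKext G K hK
  refine ⟨⟨?_⟩, ⟨?_⟩, ⟨?_⟩⟩
  · intro σ τ h
    have h1 : ∀ a ∈ K, (τ.1⁻¹ * σ.1) a = a := by
      intro a ha
      have := congrArg (fun b : Kext G K => (b : L)) (h ⟨a, ha⟩)
      change σ.1 a = τ.1 a at this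
      rw [AlgEquiv.mul_apply, this]
      exact τ.1.symm_apply_apply a
    have h2 := hfaith (τ.1⁻¹ * σ.1) (G.mul_mem (G.inv_mem τ.2) σ.2) h1
    have h3 : σ.1 = τ.1 := by
      have := congrArg (fun g => τ.1 * g) h2
      simpa [mul_assoc] using this
    exact Subtype.ext h3
  · intro σ c a
    apply Subtype.ext
    change σ.1 ((c : L) * (a : L)) = (c : L) * σ.1 (a : L)
    rw [map_mul]
    congr 1
    exact (mem_fixedField_iff G _).mp c.2.2 σ.1 σ.2
  · intro b hb
    refine ⟨⟨b.1, ⟨b.2, ?_⟩⟩, rfl⟩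
    rw [SetLike.mem_coe, mem_fixedField_iff]
    intro σ hσ
    exact congrArg (fun b : Kext G K => (b : L)) (hb ⟨σ, hσ⟩)

include hK hfaith in
theorem rank_Kext [Finite G] :
    Module.rank ↥(K ⊓ fixedField G) (Kext G K) = (Nat.card G : Cardinal) ∧
      FiniteDimensional ↥(K ⊓ fixedField G) (Kext G K) := by
  letI := actKext G K hK
  haveI := isGaloisGroup_Kext G K hK hfaith
  have hfd : FiniteDimensional ↥(K ⊓ fixedField G) (Kext G K) :=
    IsGaloisGroup.finiteDimensional G ↥(K ⊓ fixedField G) (Kext G K)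
  refine ⟨?_, hfd⟩
  rw [← Module.finrank_eq_rank, ← IsGaloisGroup.card_eq_finrank G ↥(K ⊓ fixedField G) (Kext G K)]

theorem rank_fixedField [Finite G] :
    Module.rank ↥(fixedField G) L = (Nat.card G : Cardinal) := by
  haveI := Fintype.ofFinite G
  have h1 : Module.finrank ↥(fixedField G) L = Fintype.card G := FixedPoints.finrank_eq_card G L
  have h2 : FiniteDimensional ↥(fixedField G) L :=
    inferInstanceAs (FiniteDimensional (FixedPoints.subfield G L) L)
  rw [← Module.finrank_eq_rank, h1, Nat.card_eq_fintype_card]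

lemma cardinal_le_one_of_mul_le {a : Cardinal} {n : ℕ} (hn : n ≠ 0)
    (h : a * (n : Cardinal) ≤ (n : Cardinal)) : a ≤ 1 := by
  have hn0 : (n : Cardinal) ≠ 0 := by exact_mod_cast hn
  have ha : a ≤ (n : Cardinal) := le_trans (Cardinal.le_mul_right hn0) h
  obtain ⟨a', rfl⟩ := Cardinal.lt_aleph0.mp (lt_of_le_of_lt ha (Cardinal.natCast_lt_aleph0))
  have h' : a' * n ≤ n := by exact_mod_cast h
  have : a' ≤ 1 := by
    by_contra hlt
    have : 2 * n ≤ a' * n := Nat.mul_le_mul_right n (by omega)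
    omega
  exact_mod_cast this

include hK hfaith in
theorem restrictScalars_adjoin_eq_fixedField [Finite G] {m : ℕ} (t : Fin m → L)
    (htfix : ∀ j, ∀ σ ∈ G, σ (t j) = t j)
    (htop : K ⊔ adjoin k (Set.range t) = ⊤) :
    restrictScalars k (adjoin ↥(K ⊓ fixedField G) (Set.range t)) = fixedField G := by
  obtain ⟨Et, hEt⟩ : ∃ Et : IntermediateField ↥(K ⊓ fixedField G) L,
      Et = adjoin ↥(K ⊓ fixedField G) (Set.range t) := ⟨_, rfl⟩
  rw [← hEt]
  have h1 : restrictScalars k Et ≤ fixedField G := by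
    have : Et ≤ extendScalars (inf_le_right : K ⊓ fixedField G ≤ fixedField G) := by
      rw [hEt, adjoin_le_iff]
      rintro _ ⟨j, rfl⟩
      rw [SetLike.mem_coe, mem_extendScalars, mem_fixedField_iff]
      exact htfix j
    intro x hx
    exact this hx
  refine le_antisymm h1 ?_
  -- the rank bound
  obtain ⟨hrk, hfd⟩ := rank_Kext G K hK hfaith
  have halg : Algebra.IsAlgebraic ↥(K ⊓ fixedField G) (Kext G K) := Algebra.IsAlgebraic.of_finite _ _
  have h2 := adjoin_rank_le_of_isAlgebraic_right ↥Et (Kext G K)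
  have htower : IsScalarTower k ↥Et L := IsScalarTower.of_algebraMap_eq (fun x => rfl)
  have htop' : adjoin ↥Et ((Kext G K : IntermediateField ↥(K ⊓ fixedField G) L) : Set L) = ⊤ := by
    rw [← restrictScalars_eq_top_iff (K := k), eq_top_iff, ← htop, sup_le_iff]
    constructor
    · intro x hx
      rw [mem_restrictScalars]
      exact subset_adjoin _ _ hx
    · rw [adjoin_le_iff]
      rintro _ ⟨j, rfl⟩
      rw [SetLike.mem_coe, mem_restrictScalars]
      have hmem : t j ∈ Et := by rw [hEt]; exact subset_adjoin _ _ ⟨j, rfl⟩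
      exact (adjoin ↥Et ((Kext G K : IntermediateField ↥(K ⊓ fixedField G) L) : Set L)).algebraMap_mem
        ⟨t j, hmem⟩
  rw [htop', rank_top', hrk] at h2
  have h3 := rank_fixedField G
  have h4 := relrank_mul_rank_top h1
  have h5 : Module.rank ↥(restrictScalars k Et) L = Module.rank ↥Et L := rfl
  rw [h3, h5] at h4
  have h6 : relrank (restrictScalars k Et) (fixedField G) ≤ 1 := by
    refine cardinal_le_one_of_mul_le (n := Nat.card G) Nat.card_pos.ne' ?_
    rw [h4]; exact h2
  have h7 : relrank (restrictScalars k Et) (fixedField G) ≠ 0 := by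
    intro h0
    rw [h0, zero_mul] at h4
    have : Module.rank ↥Et L ≠ 0 := by
      rw [Ne, rank_zero_iff_forall_zero, not_forall]
      exact ⟨1, one_ne_zero⟩
    exact this h4.symm
  have h8 : relrank (restrictScalars k Et) (fixedField G) = 1 :=
    le_antisymm h6 (Cardinal.one_le_iff_ne_zero.mpr h7)
  exact relrank_eq_one_iff.mp h8

end Groth.Agent.Lib.Helper86.NoName
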