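import Groth.Agent.Lib.Helper86.NoName2
import Groth.Prelude.Def_W4c2brnrinvarInvFld

/-!
# The no-name lemma, part 3: general statement (helper86)
-/

set_option autoImplicit false

namespace Groth.Agent.Lib.Helper86.NoName

open IntermediateField

variable {k L : Type*} [Field k] [Field L] [Algebra k L]

variable (G : Subgroup (L ≃ₐ[k] L)) (K : IntermediateField k L)
  (hK : ∀ σ ∈ G, ∀ a ∈ K, σ a ∈ K)
  (hfaith : ∀ σ ∈ G, (∀ a ∈ K, σ a = a) → σ = 1)

include hK hfaith in
/-- **The no-name lemma** (general form inside a field `L`). -/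
theorem noName [Finite G] {m : ℕ} (y : Fin m → L) (hyK : AlgebraicIndependent K y)
    (hy : ∀ σ ∈ G, ∀ j, σ (y j) ∈ Submodule.span k (Set.range y))
    (htop : K ⊔ adjoin k (Set.range y) = ⊤) :
    ∃ t : Fin m → L, AlgebraicIndependent ↥(K ⊓ fixedField G) t ∧
      restrictScalars k (adjoin ↥(K ⊓ fixedField G) (Set.range t)) = fixedField G := by
  have hy' : ∀ σ ∈ G, ∀ j, σ (y j) ∈ Submodule.span K (Set.range y) := fun σ hσ j =>
    Submodule.span_subset_span k K _ (hy σ hσ j)
  obtain ⟨t, htfix, hty, hyt⟩ :=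
    exists_invariant_family G K hK hfaith y hyK.linearIndependent hy'
  have htK : AlgebraicIndependent K t := algebraicIndependent_of_mem_span y t hyK hty hyt
  refine ⟨t, ?_, ?_⟩
  · letI : Algebra ↥(K ⊓ fixedField G) K :=
      (IntermediateField.inclusion (inf_le_left : K ⊓ fixedField G ≤ K)).toRingHom.toAlgebra
    haveI : IsScalarTower ↥(K ⊓ fixedField G) K L := IsScalarTower.of_algebraMap_eq (fun _ => rfl)
    exact htK.restrictScalars (IntermediateField.inclusion_injective _)
  · apply restrictScalars_adjoin_eq_fixedField G K hK hfaith t htfix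
    rw [eq_top_iff, ← htop, sup_le_iff]
    refine ⟨le_sup_left, ?_⟩
    rw [adjoin_le_iff]
    rintro _ ⟨j, rfl⟩
    rw [SetLike.mem_coe]
    have hsub : ∀ z ∈ Submodule.span K (Set.range t), z ∈ K ⊔ adjoin k (Set.range t) := by
      intro z hz
      induction hz using Submodule.span_induction with
      | mem x hx =>
        obtain ⟨i, rfl⟩ := hx
        exact (le_sup_right : adjoin k (Set.range t) ≤ K ⊔ adjoin k (Set.range t))
          (subset_adjoin _ _ ⟨i, rfl⟩)
      | zero => exact zero_mem _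
      | add x z _ _ hx hz => exact add_mem hx hz
      | smul c x _ hx =>
        change (c : L) * x ∈ _
        exact mul_mem ((le_sup_left : K ≤ K ⊔ adjoin k (Set.range t)) c.2) hx
    exact hsub _ (hyt j)

section fld

variable (k : Type*) [Field k] (ι : Type*)

lemma fld_algebraicIndependent_X :
    AlgebraicIndependent k (fun i : ι => (InvFld.X i : InvFld.Fld ι k)) := by
  have h := (MvPolynomial.algebraicIndependent_X ι k).map'
    (f := IsScalarTower.toAlgHom k (MvPolynomial ι k) (InvFld.Fld ι k))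
    (IsFractionRing.injective (MvPolynomial ι k) (InvFld.Fld ι k))
  exact h

lemma fld_algebraMap_mem_adjoin (p : MvPolynomial ι k) :
    algebraMap (MvPolynomial ι k) (InvFld.Fld ι k) p ∈
      adjoin k (Set.range fun i : ι => (InvFld.X i : InvFld.Fld ι k)) := by
  induction p using MvPolynomial.induction_on with
  | C a =>
    have : algebraMap (MvPolynomial ι k) (InvFld.Fld ι k) (MvPolynomial.C a) =
        algebraMap k (InvFld.Fld ι k) a := by
      rw [← MvPolynomial.algebraMap_eq, ← IsScalarTower.algebraMap_apply]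
    rw [this]
    exact IntermediateField.algebraMap_mem _ a
  | add p q hp hq => rw [map_add]; exact add_mem hp hq
  | mul_X p i hp =>
    rw [map_mul]
    exact mul_mem hp (subset_adjoin _ _ ⟨i, rfl⟩)

lemma fld_adjoin_X_eq_top :
    adjoin k (Set.range fun i : ι => (InvFld.X i : InvFld.Fld ι k)) = ⊤ := by
  rw [eq_top_iff]
  intro z _
  obtain ⟨a, b, _, rfl⟩ := IsFractionRing.div_surjective (A := MvPolynomial ι k) z
  exact div_mem (fld_algebraMap_mem_adjoin k ι a) (fld_algebraMap_mem_adjoin k ι b)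

end fld

open scoped IntermediateField.algebraAdjoinAdjoin in
/-- the no-name lemma for `k(x, y)`. -/
theorem noName_fld (k : Type*) [Field k] (n m : ℕ)
    (G : Subgroup (InvFld.Fld (Fin n ⊕ Fin m) k ≃ₐ[k] InvFld.Fld (Fin n ⊕ Fin m) k)) [Finite G]
    (hx : ∀ σ ∈ G, ∀ i : Fin n, σ (InvFld.X (Sum.inl i)) ∈ Submodule.span k (Set.range
      fun j : Fin n => (InvFld.X (Sum.inl j) : InvFld.Fld (Fin n ⊕ Fin m) k)))
    (hy : ∀ σ ∈ G, ∀ i : Fin m, σ (InvFld.X (Sum.inr i)) ∈ Submodule.span k (Set.range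
      fun j : Fin m => (InvFld.X (Sum.inr j) : InvFld.Fld (Fin n ⊕ Fin m) k)))
    (hfaith : ∀ σ ∈ G, (∀ i : Fin n, σ (InvFld.X (Sum.inl i)) = InvFld.X (Sum.inl i)) → σ = 1) :
    ∃ t : Fin m → InvFld.Fld (Fin n ⊕ Fin m) k,
      AlgebraicIndependent (↥(adjoin k (Set.range fun j : Fin n =>
        (InvFld.X (Sum.inl j) : InvFld.Fld (Fin n ⊕ Fin m) k)) ⊓ fixedField G)) t ∧
      restrictScalars k (adjoin (↥(adjoin k (Set.range fun j : Fin n =>
        (InvFld.X (Sum.inl j) : InvFld.Fld (Fin n ⊕ Fin m) k)) ⊓ fixedField G)) (Set.range t)) =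
        fixedField G := by
  obtain ⟨x, hxdef⟩ : ∃ x : Fin n → InvFld.Fld (Fin n ⊕ Fin m) k,
      x = fun j : Fin n => (InvFld.X (Sum.inl j) : InvFld.Fld (Fin n ⊕ Fin m) k) := ⟨_, rfl⟩
  obtain ⟨y, hydef⟩ : ∃ y : Fin m → InvFld.Fld (Fin n ⊕ Fin m) k,
      y = fun j : Fin m => (InvFld.X (Sum.inr j) : InvFld.Fld (Fin n ⊕ Fin m) k) := ⟨_, rfl⟩
  rw [← hxdef] at hx ⊢
  rw [← hydef] at hy
  have hspan : ∀ z ∈ Submodule.span k (Set.range x), z ∈ adjoin k (Set.range x) := by
    intro z hz
    exact (Submodule.span_le (p := Subalgebra.toSubmodule (adjoin k (Set.range x)).toSubalgebra)).mpr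
      (subset_adjoin k _) hz
  have hK : ∀ σ ∈ G, ∀ a ∈ adjoin k (Set.range x), σ a ∈ adjoin k (Set.range x) := by
    intro σ hσ
    have : adjoin k (Set.range x) ≤ (adjoin k (Set.range x)).comap
        (σ : InvFld.Fld (Fin n ⊕ Fin m) k →ₐ[k] InvFld.Fld (Fin n ⊕ Fin m) k) := by
      rw [adjoin_le_iff]
      rintro _ ⟨i, rfl⟩
      change σ (x i) ∈ adjoin k (Set.range x)
      apply hspan
      have := hx σ hσ i
      rw [hxdef] at this ⊢
      exact this
    exact fun a ha => this ha
  have hfaith' : ∀ σ ∈ G, (∀ a ∈ adjoin k (Set.range x), σ a = a) → σ = 1 := by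
    intro σ hσ h
    refine hfaith σ hσ (fun i => ?_)
    have := h (x i) (subset_adjoin _ _ ⟨i, rfl⟩)
    rw [hxdef] at this
    exact this
  have hall := fld_algebraicIndependent_X k (Fin n ⊕ Fin m)
  have hswap : AlgebraicIndependent k (Sum.elim y x) := by
    have h := hall.comp Sum.swap Sum.swap_leftInverse.injective
    have he : (fun i : Fin n ⊕ Fin m => (InvFld.X i : InvFld.Fld (Fin n ⊕ Fin m) k)) ∘ Sum.swap =
        Sum.elim y x := by
      funext i
      cases i <;> simp [hxdef, hydef]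
    rwa [he] at h
  have hyK : AlgebraicIndependent ↥(adjoin k (Set.range x)) y :=
    (AlgebraicIndependent.sumElim_iff.mp hswap).2.extendScalars _
  have htop : adjoin k (Set.range x) ⊔ adjoin k (Set.range y) = ⊤ := by
    rw [eq_top_iff, ← fld_adjoin_X_eq_top k (Fin n ⊕ Fin m), adjoin_le_iff]
    rintro _ ⟨i, rfl⟩
    cases i with
    | inl i =>
      exact (le_sup_left : adjoin k (Set.range x) ≤ _) (subset_adjoin _ _ ⟨i, by rw [hxdef]⟩)
    | inr i =>
      exact (le_sup_right : adjoin k (Set.range y) ≤ _) (subset_adjoin _ _ ⟨i, by rw [hydef]⟩)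
  have hy' : ∀ σ ∈ G, ∀ j, σ (y j) ∈ Submodule.span k (Set.range y) := by
    intro σ hσ j
    have := hy σ hσ j
    rw [hydef]
    rw [hydef] at this
    exact this
  exact noName G (adjoin k (Set.range x)) hK hfaith' y hyK hy' htop

end Groth.Agent.Lib.Helper86.NoName
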