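import Groth.Agent.Lib.Helper86.NoName3

/-!
# Linear automorphisms of `k(x)` and the diagonal group on `k(x, y)` (helper86)
-/

set_option autoImplicit false

namespace Groth.Agent.Lib.Helper86.NoName

open IntermediateField

section lin

variable {k : Type*} [Field k] {ι : Type*} [Fintype ι] [DecidableEq ι]

/-- The linear substitution `X_i ↦ ∑ j, M i j • X_j` on a polynomial ring. -/
noncomputable def linHom (M : Matrix ι ι k) : MvPolynomial ι k →ₐ[k] MvPolynomial ι k :=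
  MvPolynomial.aeval (fun i => ∑ j, M i j • (MvPolynomial.X j : MvPolynomial ι k))

@[simp] lemma linHom_X (M : Matrix ι ι k) (i : ι) :
    linHom M (MvPolynomial.X i) = ∑ j, M i j • (MvPolynomial.X j : MvPolynomial ι k) := by
  simp [linHom]

lemma linHom_comp (M N : Matrix ι ι k) : (linHom N).comp (linHom M) = linHom (M * N) := by
  apply MvPolynomial.algHom_ext
  intro i
  simp only [AlgHom.comp_apply, linHom_X, map_sum, map_smul, Matrix.mul_apply, Finset.smul_sum,
    Finset.sum_smul]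
  rw [Finset.sum_comm]
  refine Finset.sum_congr rfl fun l _ => Finset.sum_congr rfl fun j _ => ?_
  rw [mul_smul]

lemma linHom_one : linHom (1 : Matrix ι ι k) = AlgHom.id k _ := by
  apply MvPolynomial.algHom_ext
  intro i
  simp [Matrix.one_apply]

/-- An automorphism of `k(x)` is linear if it maps each variable to a linear form. -/
def IsLin (σ : InvFld.Fld ι k ≃ₐ[k] InvFld.Fld ι k) : Prop :=
  ∀ i, σ (InvFld.X i) ∈ Submodule.span k (Set.range fun j : ι => (InvFld.X j : InvFld.Fld ι k))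

lemma IsLin.exists_matrix {σ : InvFld.Fld ι k ≃ₐ[k] InvFld.Fld ι k} (hσ : IsLin σ) :
    ∃ M : Matrix ι ι k, ∀ i, σ (InvFld.X i) = ∑ j, M i j • (InvFld.X j : InvFld.Fld ι k) := by
  have h : ∀ i, ∃ c : ι → k, ∑ j, c j • (InvFld.X j : InvFld.Fld ι k) = σ (InvFld.X i) :=
    fun i => (Submodule.mem_span_range_iff_exists_fun k).mp (hσ i)
  choose M hM using h
  exact ⟨Matrix.of M, fun i => (hM i).symm⟩

/-- The matrix of a linear automorphism. -/
noncomputable def matOf (σ : InvFld.Fld ι k ≃ₐ[k] InvFld.Fld ι k) (hσ : IsLin σ) : Matrix ι ι k :=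
  Classical.choose hσ.exists_matrix

lemma matOf_spec (σ : InvFld.Fld ι k ≃ₐ[k] InvFld.Fld ι k) (hσ : IsLin σ) (i : ι) :
    σ (InvFld.X i) = ∑ j, matOf σ hσ i j • (InvFld.X j : InvFld.Fld ι k) :=
  Classical.choose_spec hσ.exists_matrix i

lemma coeff_unique {a b : ι → k}
    (h : ∑ j, a j • (InvFld.X j : InvFld.Fld ι k) = ∑ j, b j • (InvFld.X j : InvFld.Fld ι k)) :
    a = b := by
  have hli := (fld_algebraicIndependent_X k ι).linearIndependent
  rw [Fintype.linearIndependent_iff] at hli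
  have h0 : ∑ j, (a j - b j) • (InvFld.X j : InvFld.Fld ι k) = 0 := by
    simp only [sub_smul, Finset.sum_sub_distrib, h, sub_self]
  funext j
  exact sub_eq_zero.mp (hli _ h0 j)

lemma matOf_unique (σ : InvFld.Fld ι k ≃ₐ[k] InvFld.Fld ι k) (hσ : IsLin σ) (M : Matrix ι ι k)
    (hM : ∀ i, σ (InvFld.X i) = ∑ j, M i j • (InvFld.X j : InvFld.Fld ι k)) :
    M = matOf σ hσ := by
  ext i j
  have := coeff_unique ((hM i).symm.trans (matOf_spec σ hσ i))
  exact congrFun this j

lemma isLin_one : IsLin (1 : InvFld.Fld ι k ≃ₐ[k] InvFld.Fld ι k) := fun i =>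
  Submodule.subset_span ⟨i, rfl⟩

lemma matOf_one : matOf (1 : InvFld.Fld ι k ≃ₐ[k] InvFld.Fld ι k) isLin_one = 1 := by
  symm
  apply matOf_unique
  intro i
  simp [Matrix.one_apply]

lemma matOf_mul (σ τ : InvFld.Fld ι k ≃ₐ[k] InvFld.Fld ι k) (hσ : IsLin σ) (hτ : IsLin τ)
    (hστ : IsLin (σ * τ)) : matOf (σ * τ) hστ = matOf τ hτ * matOf σ hσ := by
  symm
  apply matOf_unique
  intro i
  rw [AlgEquiv.mul_apply, matOf_spec τ hτ i, map_sum]
  simp only [map_smul, matOf_spec σ hσ, Finset.smul_sum, Matrix.mul_apply, Finset.sum_smul]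
  rw [Finset.sum_comm]
  refine Finset.sum_congr rfl fun l _ => Finset.sum_congr rfl fun j _ => ?_
  rw [mul_smul]

/-- compatibility of `linHom (matOf σ)` with `σ`. -/
lemma algebraMap_linHom_matOf (σ : InvFld.Fld ι k ≃ₐ[k] InvFld.Fld ι k) (hσ : IsLin σ)
    (p : MvPolynomial ι k) :
    algebraMap (MvPolynomial ι k) (InvFld.Fld ι k) (linHom (matOf σ hσ) p) =
      σ (algebraMap (MvPolynomial ι k) (InvFld.Fld ι k) p) := by
  have : (IsScalarTower.toAlgHom k (MvPolynomial ι k) (InvFld.Fld ι k)).comp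
      (linHom (matOf σ hσ)) =
      (σ : InvFld.Fld ι k →ₐ[k] InvFld.Fld ι k).comp
        (IsScalarTower.toAlgHom k (MvPolynomial ι k) (InvFld.Fld ι k)) := by
    apply MvPolynomial.algHom_ext
    intro i
    simp only [AlgHom.comp_apply, linHom_X, map_sum, map_smul, IsScalarTower.coe_toAlgHom',
      AlgEquiv.coe_toAlgHom]
    exact (matOf_spec σ hσ i).symm
  exact DFunLike.congr_fun this p

end lin

section diag

variable {k : Type*} [Field k] {n m : ℕ}
variable (G : Subgroup (InvFld.Fld (Fin n) k ≃ₐ[k] InvFld.Fld (Fin n) k))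
  (H : Subgroup (InvFld.Fld (Fin m) k ≃ₐ[k] InvFld.Fld (Fin m) k))
  (e : G ≃* H) (hG : ∀ σ ∈ G, IsLin σ) (hH : ∀ τ ∈ H, IsLin τ)

/-- The block matrix of `σ` acting on the `x`s and `e σ` acting on the `y`s. -/
noncomputable def blockMat (σ : G) : Matrix (Fin n ⊕ Fin m) (Fin n ⊕ Fin m) k :=
  Matrix.fromBlocks (matOf σ.1 (hG σ.1 σ.2)) 0 0 (matOf (e σ).1 (hH _ (e σ).2))

lemma blockMat_one : blockMat G H e hG hH 1 = 1 := by
  unfold blockMat
  have h1 : matOf (1 : G).1 (hG _ (1 : G).2) = 1 := matOf_one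
  have h2 : matOf (e 1).1 (hH _ (e 1).2) = 1 := by
    have : (e 1).1 = 1 := by rw [map_one]; rfl
    have h3 := matOf_unique (e 1).1 (hH _ (e 1).2) 1 (fun i => by rw [this]; simp [Matrix.one_apply])
    exact h3.symm
  rw [h1, h2, Matrix.fromBlocks_one]

lemma blockMat_mul (σ τ : G) :
    blockMat G H e hG hH (σ * τ) = blockMat G H e hG hH τ * blockMat G H e hG hH σ := by
  unfold blockMat
  rw [Matrix.fromBlocks_multiply]
  have h1 : matOf (σ * τ).1 (hG _ (σ * τ).2) =
      matOf τ.1 (hG _ τ.2) * matOf σ.1 (hG _ σ.2) :=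
    matOf_mul σ.1 τ.1 _ _ _
  have h2 : matOf (e (σ * τ)).1 (hH _ (e (σ * τ)).2) =
      matOf (e τ).1 (hH _ (e τ).2) * matOf (e σ).1 (hH _ (e σ).2) := by
    have h3 := matOf_mul (e σ).1 (e τ).1 (hH _ (e σ).2) (hH _ (e τ).2)
      (by rw [← Subgroup.coe_mul, ← map_mul]; exact hH _ (e (σ * τ)).2)
    rw [← h3]
    congr 1
    rw [map_mul]; rfl
  rw [h1, h2]
  simp

/-- The diagonal action on the polynomial ring. -/
noncomputable def polyHom :
    G →* (MvPolynomial (Fin n ⊕ Fin m) k →ₐ[k] MvPolynomial (Fin n ⊕ Fin m) k) where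
  toFun σ := linHom (blockMat G H e hG hH σ)
  map_one' := by rw [blockMat_one, linHom_one]; rfl
  map_mul' σ τ := by rw [blockMat_mul, ← linHom_comp]; rfl

/-- The diagonal action on `k(x, y)`. -/
noncomputable def diagHom :
    G →* (InvFld.Fld (Fin n ⊕ Fin m) k ≃ₐ[k] InvFld.Fld (Fin n ⊕ Fin m) k) :=
  (IsFractionRing.fieldEquivOfAlgEquivHom k (InvFld.Fld (Fin n ⊕ Fin m) k)).comp
    ((AlgEquiv.algHomUnitsEquiv k (MvPolynomial (Fin n ⊕ Fin m) k)).toMonoidHom.comp
      (polyHom G H e hG hH).toHomUnits)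

lemma diagHom_algebraMap (σ : G) (p : MvPolynomial (Fin n ⊕ Fin m) k) :
    diagHom G H e hG hH σ (algebraMap _ _ p) =
      algebraMap _ (InvFld.Fld (Fin n ⊕ Fin m) k) (linHom (blockMat G H e hG hH σ) p) := by
  unfold diagHom
  simp only [MonoidHom.coe_comp, Function.comp_apply, IsFractionRing.fieldEquivOfAlgEquivHom_apply,
    IsFractionRing.fieldEquivOfAlgEquiv_algebraMap]
  rfl

lemma diagHom_X_inl (σ : G) (i : Fin n) :
    diagHom G H e hG hH σ (InvFld.X (Sum.inl i)) =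
      ∑ j, matOf σ.1 (hG σ.1 σ.2) i j • (InvFld.X (Sum.inl j) : InvFld.Fld (Fin n ⊕ Fin m) k) := by
  change diagHom G H e hG hH σ (algebraMap _ _ (MvPolynomial.X (Sum.inl i))) = _
  rw [diagHom_algebraMap, linHom_X, Fintype.sum_sum_type]
  simp only [blockMat, Matrix.fromBlocks_apply₁₁, Matrix.fromBlocks_apply₁₂,
    Matrix.fromBlocks_apply₂₁, Matrix.fromBlocks_apply₂₂, Matrix.zero_apply, zero_smul,
    Finset.sum_const_zero, add_zero, zero_add, map_sum]
  refine Finset.sum_congr rfl fun j _ => ?_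
  exact map_smul (IsScalarTower.toAlgHom k (MvPolynomial (Fin n ⊕ Fin m) k)
    (InvFld.Fld (Fin n ⊕ Fin m) k)) _ _

lemma diagHom_X_inr (σ : G) (i : Fin m) :
    diagHom G H e hG hH σ (InvFld.X (Sum.inr i)) =
      ∑ j, matOf (e σ).1 (hH _ (e σ).2) i j •
        (InvFld.X (Sum.inr j) : InvFld.Fld (Fin n ⊕ Fin m) k) := by
  change diagHom G H e hG hH σ (algebraMap _ _ (MvPolynomial.X (Sum.inr i))) = _
  rw [diagHom_algebraMap, linHom_X, Fintype.sum_sum_type]
  simp only [blockMat, Matrix.fromBlocks_apply₁₁, Matrix.fromBlocks_apply₁₂,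
    Matrix.fromBlocks_apply₂₁, Matrix.fromBlocks_apply₂₂, Matrix.zero_apply, zero_smul,
    Finset.sum_const_zero, add_zero, zero_add, map_sum]
  refine Finset.sum_congr rfl fun j _ => ?_
  exact map_smul (IsScalarTower.toAlgHom k (MvPolynomial (Fin n ⊕ Fin m) k)
    (InvFld.Fld (Fin n ⊕ Fin m) k)) _ _

end diag

end Groth.Agent.Lib.Helper86.NoName
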