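import Groth.Agent.Lib.Helper86.NoName4

/-!
# Stable equivalence of fields of invariants of two faithful linear representations (helper86)
-/

set_option autoImplicit false

namespace Groth.Agent.Lib.Helper86.NoName

open IntermediateField

section emb

variable (k : Type*) [Field k] {ι κ : Type*} (f : ι → κ) (hf : Function.Injective f)

include hf in
lemma algebraicIndependent_X_comp :
    AlgebraicIndependent k (fun i : ι => (InvFld.X (f i) : InvFld.Fld κ k)) :=
  (fld_algebraicIndependent_X k κ).comp f hf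

/-- The embedding `k(x_i : i ∈ ι) → k(x_j : j ∈ κ)` induced by an injection `ι → κ`,
as an isomorphism onto the subfield generated by the `x_{f i}`. -/
noncomputable def embEquiv : InvFld.Fld ι k ≃ₐ[k]
    ↥(adjoin k (Set.range fun i : ι => (InvFld.X (f i) : InvFld.Fld κ k))) :=
  (algebraicIndependent_X_comp k f hf).aevalEquivField

/-- The embedding as an algebra map. -/
noncomputable def emb : InvFld.Fld ι k →ₐ[k] InvFld.Fld κ k :=
  (adjoin k (Set.range fun i : ι => (InvFld.X (f i) : InvFld.Fld κ k))).val.comp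
    (embEquiv k f hf : InvFld.Fld ι k →ₐ[k] _)

lemma emb_algebraMap (p : MvPolynomial ι k) :
    emb k f hf (algebraMap _ _ p) =
      MvPolynomial.aeval (fun i : ι => (InvFld.X (f i) : InvFld.Fld κ k)) p := by
  change ((embEquiv k f hf) (algebraMap _ _ p) : InvFld.Fld κ k) = _
  unfold embEquiv
  rw [AlgebraicIndependent.aevalEquivField_apply_coe, IsFractionRing.lift_algebraMap]
  rfl

lemma emb_X (i : ι) : emb k f hf (InvFld.X i) = InvFld.X (f i) := by
  change emb k f hf (algebraMap _ _ (MvPolynomial.X i)) = _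
  rw [emb_algebraMap, MvPolynomial.aeval_X]

lemma emb_mem (a : InvFld.Fld ι k) :
    emb k f hf a ∈ adjoin k (Set.range fun i : ι => (InvFld.X (f i) : InvFld.Fld κ k)) :=
  (embEquiv k f hf a).2

lemma exists_emb_eq {z : InvFld.Fld κ k}
    (hz : z ∈ adjoin k (Set.range fun i : ι => (InvFld.X (f i) : InvFld.Fld κ k))) :
    ∃ a, emb k f hf a = z :=
  ⟨(embEquiv k f hf).symm ⟨z, hz⟩, by
    change (((embEquiv k f hf) ((embEquiv k f hf).symm ⟨z, hz⟩)) : InvFld.Fld κ k) = z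
    rw [AlgEquiv.apply_symm_apply]⟩

lemma emb_injective : Function.Injective (emb k f hf) := (emb k f hf).toRingHom.injective

/-- Two algebra maps out of `k(x)` agreeing on the variables are equal. -/
lemma fld_algHom_ext {A : Type*} [Field A] [Algebra k A] (φ ψ : InvFld.Fld ι k →ₐ[k] A)
    (h : ∀ i, φ (InvFld.X i) = ψ (InvFld.X i)) : φ = ψ := by
  have h1 : φ.comp (IsScalarTower.toAlgHom k (MvPolynomial ι k) (InvFld.Fld ι k)) =
      ψ.comp (IsScalarTower.toAlgHom k (MvPolynomial ι k) (InvFld.Fld ι k)) := by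
    apply MvPolynomial.algHom_ext
    intro i
    exact h i
  have h2 : (φ : InvFld.Fld ι k →+* A) = (ψ : InvFld.Fld ι k →+* A) := by
    apply IsFractionRing.ringHom_ext (A := MvPolynomial ι k)
    intro p
    exact DFunLike.congr_fun h1 p
  refine AlgHom.ext fun a => ?_
  exact DFunLike.congr_fun h2 a

end emb

section transport

variable {k M L : Type*} [Field k] [Field M] [Field L] [Algebra k M] [Algebra k L]

/-- Transport of a fixed field along an equivariant embedding. -/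
theorem nonempty_fixedField_algEquiv (j : M →ₐ[k] L) (K : IntermediateField k L)
    (hjK : ∀ a, j a ∈ K) (hKj : ∀ z ∈ K, ∃ a, j a = z)
    (G : Subgroup (M ≃ₐ[k] M)) (Γ : Subgroup (L ≃ₐ[k] L))
    (h1 : ∀ σ ∈ G, ∃ g ∈ Γ, ∀ a, g (j a) = j (σ a))
    (h2 : ∀ g ∈ Γ, ∃ σ ∈ G, ∀ a, g (j a) = j (σ a)) :
    Nonempty (↥(fixedField G) ≃ₐ[k] ↥(K ⊓ fixedField Γ)) := by
  have hmem : ∀ a : ↥(fixedField G), (j.comp (fixedField G).val) a ∈
      (K ⊓ fixedField Γ).toSubalgebra := by
    intro a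
    refine ⟨hjK _, ?_⟩
    rw [SetLike.mem_coe, mem_fixedField_iff]
    intro g hg
    obtain ⟨σ, hσ, hσg⟩ := h2 g hg
    change g (j a.1) = j a.1
    rw [hσg, (mem_fixedField_iff G _).mp a.2 σ hσ]
  refine ⟨AlgEquiv.ofBijective ((j.comp (fixedField G).val).codRestrict _ hmem) ⟨?_, ?_⟩⟩
  · intro a b hab
    have := congrArg (fun z : ↥(K ⊓ fixedField Γ).toSubalgebra => (z : L)) hab
    change j a.1 = j b.1 at this
    exact Subtype.ext (j.toRingHom.injective this)
  · rintro ⟨z, hzK, hzΓ⟩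
    obtain ⟨a, rfl⟩ := hKj z hzK
    have ha : a ∈ fixedField G := by
      rw [mem_fixedField_iff]
      intro σ hσ
      obtain ⟨g, hg, hgσ⟩ := h1 σ hσ
      apply j.toRingHom.injective
      change j (σ a) = j a
      rw [← hgσ]
      exact (mem_fixedField_iff Γ _).mp hzΓ g hg
    exact ⟨⟨a, ha⟩, Subtype.ext rfl⟩

end transport

section pure

variable {k L : Type*} [Field k] [Field L] [Algebra k L]

/-- functoriality of `Fld ι -` in the coefficient field. -/
noncomputable def fldCongr {A B : Type*} [Field A] [Field B] [Algebra k A] [Algebra k B]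
    (ε : A ≃ₐ[k] B) (ι' : Type*) : InvFld.Fld ι' A ≃ₐ[k] InvFld.Fld ι' B :=
  IsFractionRing.algEquivOfAlgEquiv (MvPolynomial.mapAlgEquiv ι' ε)

theorem nonempty_fld_algEquiv_of_adjoin (F E : IntermediateField k L) {ι' : Type*} (t : ι' → L)
    (ht : AlgebraicIndependent ↥F t)
    (hE : restrictScalars k (adjoin ↥F (Set.range t)) = E) :
    Nonempty (InvFld.Fld ι' ↥F ≃ₐ[k] ↥E) := by
  have e1 : InvFld.Fld ι' ↥F ≃ₐ[k] ↥(adjoin ↥F (Set.range t)) :=
    ht.aevalEquivField.restrictScalars k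
  have e2 : ↥(adjoin ↥F (Set.range t)) ≃ₐ[k] ↥(restrictScalars k (adjoin ↥F (Set.range t))) :=
    { toFun := fun x => ⟨x.1, x.2⟩
      invFun := fun x => ⟨x.1, x.2⟩
      left_inv := fun _ => rfl
      right_inv := fun _ => rfl
      map_mul' := fun _ _ => rfl
      map_add' := fun _ _ => rfl
      commutes' := fun _ => rfl }
  exact ⟨(e1.trans e2).trans (IntermediateField.equivOfEq hE)⟩

end pure

section main

variable {k : Type*} [Field k] {n m : ℕ}
variable (G : Subgroup (InvFld.Fld (Fin n) k ≃ₐ[k] InvFld.Fld (Fin n) k))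
  (H : Subgroup (InvFld.Fld (Fin m) k ≃ₐ[k] InvFld.Fld (Fin m) k))
  (e : G ≃* H) (hG : ∀ σ ∈ G, IsLin σ) (hH : ∀ τ ∈ H, IsLin τ)

lemma diagHom_emb_inl (σ : G) (a : InvFld.Fld (Fin n) k) :
    diagHom G H e hG hH σ (emb k (Sum.inl : Fin n → Fin n ⊕ Fin m) Sum.inl_injective a) =
      emb k (Sum.inl : Fin n → Fin n ⊕ Fin m) Sum.inl_injective (σ.1 a) := by
  have : ((diagHom G H e hG hH σ : InvFld.Fld (Fin n ⊕ Fin m) k ≃ₐ[k] _) :
        InvFld.Fld (Fin n ⊕ Fin m) k →ₐ[k] _).comp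
      (emb k (Sum.inl : Fin n → Fin n ⊕ Fin m) Sum.inl_injective) =
      (emb k (Sum.inl : Fin n → Fin n ⊕ Fin m) Sum.inl_injective).comp
        (σ.1 : InvFld.Fld (Fin n) k →ₐ[k] InvFld.Fld (Fin n) k) := by
    apply fld_algHom_ext
    intro i
    simp only [AlgHom.comp_apply, AlgEquiv.coe_toAlgHom, emb_X, diagHom_X_inl,
      matOf_spec σ.1 (hG σ.1 σ.2) i, map_sum, map_smul]
  exact DFunLike.congr_fun this a

lemma diagHom_emb_inr (σ : G) (b : InvFld.Fld (Fin m) k) :
    diagHom G H e hG hH σ (emb k (Sum.inr : Fin m → Fin n ⊕ Fin m) Sum.inr_injective b) =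
      emb k (Sum.inr : Fin m → Fin n ⊕ Fin m) Sum.inr_injective ((e σ).1 b) := by
  have : ((diagHom G H e hG hH σ : InvFld.Fld (Fin n ⊕ Fin m) k ≃ₐ[k] _) :
        InvFld.Fld (Fin n ⊕ Fin m) k →ₐ[k] _).comp
      (emb k (Sum.inr : Fin m → Fin n ⊕ Fin m) Sum.inr_injective) =
      (emb k (Sum.inr : Fin m → Fin n ⊕ Fin m) Sum.inr_injective).comp
        ((e σ).1 : InvFld.Fld (Fin m) k →ₐ[k] InvFld.Fld (Fin m) k) := by
    apply fld_algHom_ext
    intro i
    simp only [AlgHom.comp_apply, AlgEquiv.coe_toAlgHom, emb_X, diagHom_X_inr,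
      matOf_spec (e σ).1 (hH _ (e σ).2) i, map_sum, map_smul]
  exact DFunLike.congr_fun this b

include e hG hH in
open scoped IntermediateField.algebraAdjoinAdjoin in
/-- Two faithful linear representations of the same finite group have stably equivalent
fields of invariants. -/
theorem nonempty_algEquiv_fld [Finite G] :
    Nonempty (InvFld.Fld (Fin m) ↥(fixedField G) ≃ₐ[k] InvFld.Fld (Fin n) ↥(fixedField H)) := by
  classical
  obtain ⟨Γ, hΓ⟩ : ∃ Γ : Subgroup (InvFld.Fld (Fin n ⊕ Fin m) k ≃ₐ[k]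
      InvFld.Fld (Fin n ⊕ Fin m) k), Γ = (diagHom G H e hG hH).range := ⟨_, rfl⟩
  have hΓmem : ∀ g, g ∈ Γ ↔ ∃ σ : G, diagHom G H e hG hH σ = g := by
    intro g; rw [hΓ]; exact MonoidHom.mem_range
  haveI : Finite Γ := by
    rw [hΓ]
    exact Finite.of_surjective _ (diagHom G H e hG hH).rangeRestrict_surjective
  obtain ⟨x, hxdef⟩ : ∃ x : Fin n → InvFld.Fld (Fin n ⊕ Fin m) k,
      x = fun i : Fin n => (InvFld.X (Sum.inl i) : InvFld.Fld (Fin n ⊕ Fin m) k) := ⟨_, rfl⟩
  obtain ⟨y, hydef⟩ : ∃ y : Fin m → InvFld.Fld (Fin n ⊕ Fin m) k,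
      y = fun j : Fin m => (InvFld.X (Sum.inr j) : InvFld.Fld (Fin n ⊕ Fin m) k) := ⟨_, rfl⟩
  have hxmem : ∀ a, emb k (Sum.inl : Fin n → Fin n ⊕ Fin m) Sum.inl_injective a ∈
      adjoin k (Set.range x) := by
    intro a; rw [hxdef]; exact emb_mem k _ _ a
  have hymem : ∀ b, emb k (Sum.inr : Fin m → Fin n ⊕ Fin m) Sum.inr_injective b ∈
      adjoin k (Set.range y) := by
    intro b; rw [hydef]; exact emb_mem k _ _ b
  have hxex : ∀ z ∈ adjoin k (Set.range x),
      ∃ a, emb k (Sum.inl : Fin n → Fin n ⊕ Fin m) Sum.inl_injective a = z := by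
    intro z hz; rw [hxdef] at hz; exact exists_emb_eq k _ _ hz
  have hyex : ∀ z ∈ adjoin k (Set.range y),
      ∃ b, emb k (Sum.inr : Fin m → Fin n ⊕ Fin m) Sum.inr_injective b = z := by
    intro z hz; rw [hydef] at hz; exact exists_emb_eq k _ _ hz
  -- hypotheses for `Kx`
  have hKx : ∀ g ∈ Γ, ∀ a ∈ adjoin k (Set.range x), g a ∈ adjoin k (Set.range x) := by
    intro g hg a ha
    obtain ⟨σ, rfl⟩ := (hΓmem g).mp hg
    obtain ⟨a', rfl⟩ := hxex a ha
    rw [diagHom_emb_inl]; exact hxmem _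
  have hKy : ∀ g ∈ Γ, ∀ a ∈ adjoin k (Set.range y), g a ∈ adjoin k (Set.range y) := by
    intro g hg a ha
    obtain ⟨σ, rfl⟩ := (hΓmem g).mp hg
    obtain ⟨a', rfl⟩ := hyex a ha
    rw [diagHom_emb_inr]; exact hymem _
  have hfx : ∀ g ∈ Γ, (∀ a ∈ adjoin k (Set.range x), g a = a) → g = 1 := by
    intro g hg h
    obtain ⟨σ, rfl⟩ := (hΓmem g).mp hg
    have hσ : σ = 1 := by
      apply Subtype.ext
      apply AlgEquiv.ext
      intro a'
      apply emb_injective k (Sum.inl : Fin n → Fin n ⊕ Fin m) Sum.inl_injective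
      rw [← diagHom_emb_inl]
      exact h _ (hxmem _)
    rw [hσ, map_one]
  have hfy : ∀ g ∈ Γ, (∀ a ∈ adjoin k (Set.range y), g a = a) → g = 1 := by
    intro g hg h
    obtain ⟨σ, rfl⟩ := (hΓmem g).mp hg
    have hσ : e σ = 1 := by
      apply Subtype.ext
      apply AlgEquiv.ext
      intro a'
      apply emb_injective k (Sum.inr : Fin m → Fin n ⊕ Fin m) Sum.inr_injective
      rw [← diagHom_emb_inr]
      exact h _ (hymem _)
    have hσ' : σ = 1 := by
      apply e.injective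
      rw [hσ, map_one]
    rw [hσ', map_one]
  have hall := fld_algebraicIndependent_X k (Fin n ⊕ Fin m)
  have hyKx : AlgebraicIndependent ↥(adjoin k (Set.range x)) y := by
    have h := hall.comp Sum.swap Sum.swap_leftInverse.injective
    have he : (fun i : Fin n ⊕ Fin m => (InvFld.X i : InvFld.Fld (Fin n ⊕ Fin m) k)) ∘ Sum.swap =
        Sum.elim y x := by
      funext i
      cases i <;> simp [hxdef, hydef]
    rw [he] at h
    exact (AlgebraicIndependent.sumElim_iff.mp h).2.extendScalars _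
  have hxKy : AlgebraicIndependent ↥(adjoin k (Set.range y)) x := by
    have he : (fun i : Fin n ⊕ Fin m => (InvFld.X i : InvFld.Fld (Fin n ⊕ Fin m) k)) =
        Sum.elim x y := by
      funext i
      cases i <;> simp [hxdef, hydef]
    rw [he] at hall
    exact (AlgebraicIndependent.sumElim_iff.mp hall).2.extendScalars _
  have hy : ∀ g ∈ Γ, ∀ j, g (y j) ∈ Submodule.span k (Set.range y) := by
    intro g hg j
    obtain ⟨σ, rfl⟩ := (hΓmem g).mp hg
    have : y j = InvFld.X (Sum.inr j) := by rw [hydef]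
    rw [this, diagHom_X_inr]
    refine Submodule.sum_mem _ fun l _ => Submodule.smul_mem _ _ (Submodule.subset_span ⟨l, ?_⟩)
    rw [hydef]
  have hx : ∀ g ∈ Γ, ∀ j, g (x j) ∈ Submodule.span k (Set.range x) := by
    intro g hg j
    obtain ⟨σ, rfl⟩ := (hΓmem g).mp hg
    have : x j = InvFld.X (Sum.inl j) := by rw [hxdef]
    rw [this, diagHom_X_inl]
    refine Submodule.sum_mem _ fun l _ => Submodule.smul_mem _ _ (Submodule.subset_span ⟨l, ?_⟩)
    rw [hxdef]
  have htop : adjoin k (Set.range x) ⊔ adjoin k (Set.range y) = ⊤ := by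
    rw [eq_top_iff, ← fld_adjoin_X_eq_top k (Fin n ⊕ Fin m), adjoin_le_iff]
    rintro _ ⟨i, rfl⟩
    cases i with
    | inl i =>
      exact (le_sup_left : adjoin k (Set.range x) ≤ _) (subset_adjoin _ _ ⟨i, by rw [hxdef]⟩)
    | inr i =>
      exact (le_sup_right : adjoin k (Set.range y) ≤ _) (subset_adjoin _ _ ⟨i, by rw [hydef]⟩)
  obtain ⟨t, ht, htE⟩ := noName Γ (adjoin k (Set.range x)) hKx hfx y hyKx hy htop
  obtain ⟨t', ht', htE'⟩ := noName Γ (adjoin k (Set.range y)) hKy hfy x hxKy hx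
    (by rw [sup_comm]; exact htop)
  obtain ⟨ε₁⟩ := nonempty_fixedField_algEquiv
    (emb k (Sum.inl : Fin n → Fin n ⊕ Fin m) Sum.inl_injective) (adjoin k (Set.range x))
    hxmem hxex G Γ
    (fun σ hσ => ⟨diagHom G H e hG hH ⟨σ, hσ⟩, (hΓmem _).mpr ⟨_, rfl⟩,
      fun a => diagHom_emb_inl G H e hG hH ⟨σ, hσ⟩ a⟩)
    (fun g hg => by
      obtain ⟨σ, rfl⟩ := (hΓmem g).mp hg
      exact ⟨σ.1, σ.2, fun a => diagHom_emb_inl G H e hG hH σ a⟩)
  obtain ⟨ε₂⟩ := nonempty_fixedField_algEquiv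
    (emb k (Sum.inr : Fin m → Fin n ⊕ Fin m) Sum.inr_injective) (adjoin k (Set.range y))
    hymem hyex H Γ
    (fun τ hτ => ⟨diagHom G H e hG hH (e.symm ⟨τ, hτ⟩), (hΓmem _).mpr ⟨_, rfl⟩,
      fun b => by
        rw [diagHom_emb_inr, e.apply_symm_apply]⟩)
    (fun g hg => by
      obtain ⟨σ, rfl⟩ := (hΓmem g).mp hg
      exact ⟨(e σ).1, (e σ).2, fun b => diagHom_emb_inr G H e hG hH σ b⟩)
  obtain ⟨φ₁⟩ := nonempty_fld_algEquiv_of_adjoin (adjoin k (Set.range x) ⊓ fixedField Γ)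
    (fixedField Γ) t ht htE
  obtain ⟨φ₂⟩ := nonempty_fld_algEquiv_of_adjoin (adjoin k (Set.range y) ⊓ fixedField Γ)
    (fixedField Γ) t' ht' htE'
  exact ⟨((fldCongr ε₁ (Fin m)).trans φ₁).trans ((fldCongr ε₂ (Fin n)).trans φ₂).symm⟩

end main

end Groth.Agent.Lib.Helper86.NoName
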