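import Groth.Agent.Lib.Helper86.NoName5

/-!
# Purely transcendental extensions: iterated rational function fields; invariants of the
symmetric group (helper86)
-/

set_option autoImplicit false

namespace Groth.Agent.Lib.Helper86.NoName

open IntermediateField

section pureP

variable {k : Type*} [Field k]

/-- A field isomorphic to a rational function field in finitely many variables is generated by
finitely many algebraically independent elements. -/
theorem exists_pure_of_algEquiv {A : Type*} [Field A] [Algebra k A] {ι : Type*} [Finite ι]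
    (ψ : A ≃ₐ[k] InvFld.Fld ι k) :
    ∃ (N : ℕ) (t : Fin N → A), AlgebraicIndependent k t ∧ adjoin k (Set.range t) = ⊤ := by
  haveI := Fintype.ofFinite ι
  obtain ⟨eqv⟩ : Nonempty (ι ≃ Fin (Fintype.card ι)) := ⟨Fintype.equivFin ι⟩
  refine ⟨Fintype.card ι, fun i => ψ.symm (InvFld.X (eqv.symm i)), ?_, ?_⟩
  · have h1 := (fld_algebraicIndependent_X k ι).comp _ eqv.symm.injective
    exact h1.map' (f := (ψ.symm : InvFld.Fld ι k →ₐ[k] A)) ψ.symm.injective
  · rw [eq_top_iff]
    intro a _
    have h1 : ψ a ∈ adjoin k (Set.range fun i : ι => (InvFld.X i : InvFld.Fld ι k)) := by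
      rw [fld_adjoin_X_eq_top]; trivial
    have h2 : a ∈ (adjoin k (Set.range fun i : ι => (InvFld.X i : InvFld.Fld ι k))).map
        (ψ.symm : InvFld.Fld ι k →ₐ[k] A) := ⟨ψ a, h1, by simp⟩
    rw [adjoin_map] at h2
    refine adjoin.mono k _ _ ?_ h2
    rintro _ ⟨_, ⟨i, rfl⟩, rfl⟩
    exact ⟨eqv i, by simp⟩

end pureP

section iter

variable (k : Type*) [Field k] (ι κ : Type*)

/-- the family of `ι ⊕ κ` variables in `Fld ι (Fld κ k)`. -/
noncomputable def iterVars : ι ⊕ κ → InvFld.Fld ι (InvFld.Fld κ k) :=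
  Sum.elim (fun i => InvFld.X i)
    (algebraMap (InvFld.Fld κ k) (InvFld.Fld ι (InvFld.Fld κ k)) ∘ fun j => InvFld.X j)

lemma algebraicIndependent_iterVars : AlgebraicIndependent k (iterVars k ι κ) :=
  (fld_algebraicIndependent_X k κ).sumElim_comp (fld_algebraicIndependent_X (InvFld.Fld κ k) ι)

lemma algebraMap_mem_adjoin_iterVars (c : InvFld.Fld κ k) :
    algebraMap (InvFld.Fld κ k) (InvFld.Fld ι (InvFld.Fld κ k)) c ∈
      adjoin k (Set.range (iterVars k ι κ)) := by
  have h1 : c ∈ adjoin k (Set.range fun j : κ => (InvFld.X j : InvFld.Fld κ k)) := by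
    rw [fld_adjoin_X_eq_top]; trivial
  have h2 : algebraMap (InvFld.Fld κ k) (InvFld.Fld ι (InvFld.Fld κ k)) c ∈
      (adjoin k (Set.range fun j : κ => (InvFld.X j : InvFld.Fld κ k))).map
        (IsScalarTower.toAlgHom k (InvFld.Fld κ k) (InvFld.Fld ι (InvFld.Fld κ k))) :=
    ⟨c, h1, rfl⟩
  rw [adjoin_map] at h2
  refine adjoin.mono k _ _ ?_ h2
  rintro _ ⟨_, ⟨j, rfl⟩, rfl⟩
  exact ⟨Sum.inr j, rfl⟩

lemma adjoin_iterVars_eq_top : adjoin k (Set.range (iterVars k ι κ)) = ⊤ := by
  rw [eq_top_iff]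
  intro z _
  have hpoly : ∀ p : MvPolynomial ι (InvFld.Fld κ k),
      algebraMap _ (InvFld.Fld ι (InvFld.Fld κ k)) p ∈ adjoin k (Set.range (iterVars k ι κ)) := by
    intro p
    induction p using MvPolynomial.induction_on with
    | C c =>
      have : algebraMap (MvPolynomial ι (InvFld.Fld κ k)) (InvFld.Fld ι (InvFld.Fld κ k))
          (MvPolynomial.C c) = algebraMap (InvFld.Fld κ k) _ c := by
        rw [← MvPolynomial.algebraMap_eq, ← IsScalarTower.algebraMap_apply]
      rw [this]
      exact algebraMap_mem_adjoin_iterVars k ι κ c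
    | add p q hp hq => rw [map_add]; exact add_mem hp hq
    | mul_X p i hp =>
      rw [map_mul]
      exact mul_mem hp (subset_adjoin _ _ ⟨Sum.inl i, rfl⟩)
  obtain ⟨a, b, _, rfl⟩ :=
    IsFractionRing.div_surjective (A := MvPolynomial ι (InvFld.Fld κ k)) z
  exact div_mem (hpoly a) (hpoly b)

/-- `k(y)(x) ≅ k(x, y)`. -/
noncomputable def iterEquiv : InvFld.Fld (ι ⊕ κ) k ≃ₐ[k] InvFld.Fld ι (InvFld.Fld κ k) :=
  ((algebraicIndependent_iterVars k ι κ).aevalEquivField.trans
    (IntermediateField.equivOfEq (adjoin_iterVars_eq_top k ι κ))).trans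
    IntermediateField.topEquiv

end iter

end Groth.Agent.Lib.Helper86.NoName
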