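import Groth.Agent.Lib.Helper86.NoName6

/-!
# The permutation representation of the symmetric group and its field of invariants (helper86)
-/

set_option autoImplicit false

namespace Groth.Agent.Lib.Helper86.NoName

open IntermediateField

section perm

variable (k : Type*) [Field k] (n : ℕ)

/-- The permutation action on the polynomial ring. -/
noncomputable def permPoly :
    Equiv.Perm (Fin n) →* (MvPolynomial (Fin n) k ≃ₐ[k] MvPolynomial (Fin n) k) where
  toFun σ := MvPolynomial.renameEquiv k σ
  map_one' := by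
    apply AlgEquiv.ext
    intro p
    change MvPolynomial.rename (1 : Equiv.Perm (Fin n)) p = p
    have : ((1 : Equiv.Perm (Fin n)) : Fin n → Fin n) = id := rfl
    rw [this, MvPolynomial.rename_id_apply]
  map_mul' σ τ := by
    apply AlgEquiv.ext
    intro p
    change MvPolynomial.rename (σ * τ : Equiv.Perm (Fin n)) p =
      MvPolynomial.rename σ (MvPolynomial.rename τ p)
    rw [MvPolynomial.rename_rename]
    rfl

/-- The permutation action on `k(y_1, …, y_n)`. -/
noncomputable def permFld :
    Equiv.Perm (Fin n) →* (InvFld.Fld (Fin n) k ≃ₐ[k] InvFld.Fld (Fin n) k) :=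
  (IsFractionRing.fieldEquivOfAlgEquivHom k (InvFld.Fld (Fin n) k)).comp (permPoly k n)

lemma permFld_algebraMap (σ : Equiv.Perm (Fin n)) (p : MvPolynomial (Fin n) k) :
    permFld k n σ (algebraMap _ _ p) =
      algebraMap _ (InvFld.Fld (Fin n) k) (MvPolynomial.rename σ p) := by
  unfold permFld
  simp only [MonoidHom.coe_comp, Function.comp_apply, IsFractionRing.fieldEquivOfAlgEquivHom_apply,
    IsFractionRing.fieldEquivOfAlgEquiv_algebraMap]
  rfl

lemma permFld_X (σ : Equiv.Perm (Fin n)) (i : Fin n) :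
    permFld k n σ (InvFld.X i) = InvFld.X (σ i) := by
  change permFld k n σ (algebraMap _ _ (MvPolynomial.X i)) = _
  rw [permFld_algebraMap, MvPolynomial.rename_X]

lemma permFld_injective : Function.Injective (permFld k n) := by
  intro σ τ h
  ext i
  have h1 : (InvFld.X (σ i) : InvFld.Fld (Fin n) k) = InvFld.X (τ i) := by
    rw [← permFld_X, ← permFld_X, h]
  have h2 := IsFractionRing.injective (MvPolynomial (Fin n) k) (InvFld.Fld (Fin n) k) h1
  exact congrArg Fin.val (MvPolynomial.X_injective h2)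

/-- The permutation group as a group of automorphisms of `k(y)`. -/
noncomputable def permGroup : Subgroup (InvFld.Fld (Fin n) k ≃ₐ[k] InvFld.Fld (Fin n) k) :=
  (permFld k n).range

lemma isLin_of_mem_permGroup (τ : InvFld.Fld (Fin n) k ≃ₐ[k] InvFld.Fld (Fin n) k)
    (hτ : τ ∈ permGroup k n) : IsLin τ := by
  obtain ⟨σ, rfl⟩ := hτ
  intro i
  rw [permFld_X]
  exact Submodule.subset_span ⟨σ i, rfl⟩

/-- `S_n ≅ permGroup`. -/
noncomputable def permGroupEquiv : Equiv.Perm (Fin n) ≃* permGroup k n :=
  MonoidHom.ofInjective (permFld_injective k n)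

/-- The elementary symmetric functions in `k(y)`. -/
noncomputable def esymmFld (i : Fin n) : InvFld.Fld (Fin n) k :=
  algebraMap (MvPolynomial (Fin n) k) (InvFld.Fld (Fin n) k) (MvPolynomial.esymm (Fin n) k (i + 1))

lemma aeval_esymmFld (q : MvPolynomial (Fin n) k) :
    MvPolynomial.aeval (esymmFld k n) q =
      algebraMap (MvPolynomial (Fin n) k) (InvFld.Fld (Fin n) k)
        (MvPolynomial.aeval (fun i : Fin n => MvPolynomial.esymm (Fin n) k (i + 1)) q) := by
  have : MvPolynomial.aeval (esymmFld k n) =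
      (IsScalarTower.toAlgHom k (MvPolynomial (Fin n) k) (InvFld.Fld (Fin n) k)).comp
        (MvPolynomial.aeval (fun i : Fin n => MvPolynomial.esymm (Fin n) k (i + 1))) := by
    apply MvPolynomial.algHom_ext
    intro i
    simp [esymmFld]
  rw [this]; rfl

lemma algebraicIndependent_esymmFld : AlgebraicIndependent k (esymmFld k n) := by
  intro p q h
  rw [aeval_esymmFld, aeval_esymmFld] at h
  have h1 := IsFractionRing.injective (MvPolynomial (Fin n) k) (InvFld.Fld (Fin n) k) h
  rw [← MvPolynomial.esymmAlgHom_apply, ← MvPolynomial.esymmAlgHom_apply] at h1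
  exact MvPolynomial.esymmAlgHom_fin_injective k le_rfl (Subtype.ext h1)

lemma exists_aeval_esymm_eq (a : MvPolynomial (Fin n) k) (ha : a.IsSymmetric) :
    ∃ q : MvPolynomial (Fin n) k,
      MvPolynomial.aeval (fun i : Fin n => MvPolynomial.esymm (Fin n) k (i + 1)) q = a := by
  obtain ⟨q, hq⟩ := (MvPolynomial.esymmAlgHom_fin_bijective k n).2 ⟨a, ha⟩
  refine ⟨q, ?_⟩
  rw [← MvPolynomial.esymmAlgHom_apply, hq]

theorem adjoin_esymmFld_eq_fixedField :
    adjoin k (Set.range (esymmFld k n)) = fixedField (permGroup k n) := by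
  classical
  apply le_antisymm
  · rw [adjoin_le_iff]
    rintro _ ⟨i, rfl⟩
    rw [SetLike.mem_coe, mem_fixedField_iff]
    rintro _ ⟨σ, rfl⟩
    rw [esymmFld, permFld_algebraMap, MvPolynomial.rename_esymm]
  · intro z hz
    rw [mem_fixedField_iff] at hz
    have hz' : ∀ σ : Equiv.Perm (Fin n), permFld k n σ z = z := fun σ => hz _ ⟨σ, rfl⟩
    obtain ⟨a, b, hb, rfl⟩ := IsFractionRing.div_surjective (A := MvPolynomial (Fin n) k) z
    have hb0 : b ≠ 0 := nonZeroDivisors.ne_zero hb
    obtain ⟨c, hc⟩ : ∃ c : MvPolynomial (Fin n) k,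
        c = ∏ σ ∈ (Finset.univ : Finset (Equiv.Perm (Fin n))).erase 1,
          MvPolynomial.rename σ b := ⟨_, rfl⟩
    obtain ⟨N, hN⟩ : ∃ N : MvPolynomial (Fin n) k,
        N = ∏ σ : Equiv.Perm (Fin n), MvPolynomial.rename σ b := ⟨_, rfl⟩
    have hNbc : N = b * c := by
      rw [hN, hc, ← Finset.mul_prod_erase Finset.univ _ (Finset.mem_univ (1 : Equiv.Perm (Fin n)))]
      congr 1
      have : ((1 : Equiv.Perm (Fin n)) : Fin n → Fin n) = id := rfl
      rw [this, MvPolynomial.rename_id_apply]
    have hren0 : ∀ σ : Equiv.Perm (Fin n), MvPolynomial.rename σ b ≠ 0 := by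
      intro σ h0
      apply hb0
      have := MvPolynomial.rename_injective _ σ.injective (h0.trans (map_zero _).symm)
      exact this
    have hc0 : c ≠ 0 := by
      rw [hc]; exact Finset.prod_ne_zero_iff.mpr fun σ _ => hren0 σ
    have hN0 : N ≠ 0 := by
      rw [hN]; exact Finset.prod_ne_zero_iff.mpr fun σ _ => hren0 σ
    have hNsymm : N.IsSymmetric := by
      intro τ
      rw [hN, map_prod]
      simp only [MvPolynomial.rename_rename]
      exact Fintype.prod_equiv (Equiv.mulLeft τ) _ _ (fun σ => rfl)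
    have hinj := IsFractionRing.injective (MvPolynomial (Fin n) k) (InvFld.Fld (Fin n) k)
    have hcne : algebraMap (MvPolynomial (Fin n) k) (InvFld.Fld (Fin n) k) c ≠ 0 := by
      rwa [Ne, map_eq_zero_iff _ hinj]
    have hbne : algebraMap (MvPolynomial (Fin n) k) (InvFld.Fld (Fin n) k) b ≠ 0 := by
      rwa [Ne, map_eq_zero_iff _ hinj]
    have hNne : algebraMap (MvPolynomial (Fin n) k) (InvFld.Fld (Fin n) k) N ≠ 0 := by
      rwa [Ne, map_eq_zero_iff _ hinj]
    have hz2 : algebraMap (MvPolynomial (Fin n) k) (InvFld.Fld (Fin n) k) a /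
        algebraMap (MvPolynomial (Fin n) k) (InvFld.Fld (Fin n) k) b =
        algebraMap _ _ (a * c) / algebraMap _ _ N := by
      rw [hNbc, map_mul, map_mul]
      field_simp
    have hacsymm : (a * c).IsSymmetric := by
      intro τ
      apply hinj
      rw [← permFld_algebraMap]
      have h1 : algebraMap (MvPolynomial (Fin n) k) (InvFld.Fld (Fin n) k) (a * c) =
          (algebraMap _ _ a / algebraMap _ _ b) * algebraMap _ _ N := by
        rw [hz2]; field_simp
      rw [h1, map_mul, hz' τ, permFld_algebraMap, hNsymm τ]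
    obtain ⟨q1, hq1⟩ := exists_aeval_esymm_eq k n _ hacsymm
    obtain ⟨q2, hq2⟩ := exists_aeval_esymm_eq k n _ hNsymm
    rw [hz2, mem_adjoin_range_iff]
    exact ⟨q1, q2, by rw [aeval_esymmFld, aeval_esymmFld, hq1, hq2]⟩

/-- The field of invariants of the permutation representation is a rational function field. -/
noncomputable def fixedFieldPermEquiv :
    ↥(fixedField (permGroup k n)) ≃ₐ[k] InvFld.Fld (Fin n) k :=
  (IntermediateField.equivOfEq (adjoin_esymmFld_eq_fixedField k n).symm).trans
    (algebraicIndependent_esymmFld k n).aevalEquivField.symm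

end perm

section symm

variable {k : Type*} [Field k]

/-- Fields of invariants of faithful linear representations of `S_n` are stably pure. -/
theorem stablyPure_of_mulEquiv_perm (n m : ℕ)
    (G : Subgroup (InvFld.Fld (Fin m) k ≃ₐ[k] InvFld.Fld (Fin m) k)) [Finite G]
    (e : G ≃* Equiv.Perm (Fin n)) (hG : ∀ σ ∈ G, IsLin σ) :
    ∃ (r N : ℕ) (t : Fin N → InvFld.Fld (Fin r) ↥(fixedField G)),
      AlgebraicIndependent k t ∧ adjoin k (Set.range t) = ⊤ := by
  obtain ⟨φ⟩ := nonempty_algEquiv_fld G (permGroup k n) (e.trans (permGroupEquiv k n)) hG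
    (isLin_of_mem_permGroup k n)
  obtain ⟨N, t, ht, htop⟩ := exists_pure_of_algEquiv
    ((φ.trans (fldCongr (fixedFieldPermEquiv k n) (Fin m))).trans (iterEquiv k (Fin m) (Fin n)).symm)
  exact ⟨n, N, t, ht, htop⟩

end symm

end Groth.Agent.Lib.Helper86.NoName
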