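import Mathlib.RingTheory.Etale.Kaehler
import Mathlib.RingTheory.Kaehler.Basic
import Mathlib.RingTheory.Unramified.Basic
import Mathlib.RingTheory.RingHom.Etale
import Mathlib.RingTheory.RingHom.QuasiFinite
import Mathlib.RingTheory.QuasiFinite.Basic
import Mathlib.RingTheory.Localization.Away.Basic
import Mathlib.RingTheory.Filtration

/-!
# The standard semistable node: abstract part (helper86)

`B` a `V`-algebra with elements `x y` and a "logarithmic" derivation `θ` with `θ x = x`, `θ y = -y`.
-/

set_option autoImplicit false
set_option linter.style.haveILetI false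
set_option linter.unusedSectionVars false

universe u

namespace Groth.Agent.Lib.Helper86.Node

open Polynomial KaehlerDifferential
open scoped TensorProduct

section Extension

variable {V A A' M : Type*} [CommRing V] [CommRing A] [CommRing A'] [Algebra V A] [Algebra V A']
  [Algebra A A'] [IsScalarTower V A A'] [Algebra.FormallyEtale A A']
  [AddCommGroup M] [Module V M] [Module A M] [Module A' M] [IsScalarTower V A M]
  [IsScalarTower V A' M] [IsScalarTower A A' M]

/-- derivations extend along formally étale algebras -/
theorem exists_derivation_extension (d : Derivation V A M) :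
    ∃ d' : Derivation V A' M, ∀ a : A, d' (algebraMap A A' a) = d a := by
  let ℓ' : A' ⊗[A] Ω[A⁄V] →ₗ[A'] M := d.liftKaehlerDifferential.liftBaseChange A'
  let e := tensorKaehlerEquivOfFormallyEtale V A A'
  refine ⟨(ℓ' ∘ₗ e.symm.toLinearMap).compDer (D V A'), fun a => ?_⟩
  show ℓ' (e.symm (D V A' (algebraMap A A' a))) = d a
  rw [tensorKaehlerEquivOfFormallyEtale_symm_D_algebraMap]
  show d.liftKaehlerDifferential.liftBaseChange A' _ = _
  rw [LinearMap.liftBaseChange_tmul, one_smul, Derivation.liftKaehlerDifferential_comp_D]

end Extension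

section StepA

variable {V S N : Type*} [CommRing V] [CommRing S] [Algebra V S] [AddCommGroup N] [Module V N]
  [Module S N] [IsScalarTower V S N]

/-- a `V`-derivation killing the image of `T` vanishes when `V[T] → S` is formally unramified -/
theorem derivation_eq_zero_of_formallyUnramified (s₀ : S)
    (h : (Polynomial.aeval s₀ : V[X] →ₐ[V] S).toRingHom.FormallyUnramified)
    (d : Derivation V S N) (hd : d s₀ = 0) (s : S) : d s = 0 := by
  letI : Algebra V[X] S := (Polynomial.aeval s₀ : V[X] →ₐ[V] S).toRingHom.toAlgebra
  haveI : Algebra.FormallyUnramified V[X] S := h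
  letI : Module V[X] N := Module.compHom N (Polynomial.aeval s₀ : V[X] →ₐ[V] S).toRingHom
  have hsm : ∀ (p : V[X]) (n : N), p • n = (Polynomial.aeval s₀ p : S) • n := fun p n => rfl
  have hsm' : ∀ (p : V[X]) (t : S), p • t = (Polynomial.aeval s₀ p : S) * t := fun p t => rfl
  haveI : IsScalarTower V[X] S N := ⟨fun p t n => by rw [hsm, hsm', mul_smul]⟩
  let D' : Derivation V[X] S N :=
    { toFun := d
      map_add' := d.map_add
      map_smul' := fun p t => by
        show d (p • t) = p • d t
        rw [hsm, hsm', Derivation.leibniz, Derivation.map_aeval, hd, smul_zero, smul_zero, add_zero]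
      map_one_eq_zero' := d.map_one_eq_zero
      leibniz' := d.leibniz }
  have h1 : d s = D'.liftKaehlerDifferential (D V[X] S s) :=
    (Derivation.liftKaehlerDifferential_comp_D D' s).symm
  rw [h1, Subsingleton.elim (D V[X] S s) 0, map_zero]

end StepA

section StepA'

variable {V B : Type*} [CommRing V] [CommRing B] [Algebra V B]

theorem isUnit_theta_of_formallyUnramified (x y : B) (ϖ : V) (hxy : x * y = algebraMap V B ϖ)
    (θ : Derivation V B B) (hθx : θ x = x) (f : B)
    (hf : ((algebraMap B (Localization.Away (algebraMap V B ϖ))).comp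
      (Polynomial.aeval f : V[X] →ₐ[V] B).toRingHom).FormallyUnramified) :
    IsUnit (algebraMap B (Localization.Away (algebraMap V B ϖ)) (θ f)) := by
  obtain ⟨θ', hθ'⟩ := exists_derivation_extension (A' := Localization.Away (algebraMap V B ϖ))
    ((Algebra.linearMap B (Localization.Away (algebraMap V B ϖ))).compDer θ)
  have hθ'' : ∀ b : B, θ' (algebraMap B _ b) = algebraMap B _ (θ b) := fun b => hθ' b
  have hφ : (algebraMap B (Localization.Away (algebraMap V B ϖ))).comp
      (Polynomial.aeval f : V[X] →ₐ[V] B).toRingHom =
      (Polynomial.aeval (algebraMap B (Localization.Away (algebraMap V B ϖ)) f) :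
        V[X] →ₐ[V] Localization.Away (algebraMap V B ϖ)).toRingHom := by
    apply Polynomial.ringHom_ext
    · intro v
      simp [← IsScalarTower.algebraMap_apply]
    · simp
  rw [hφ] at hf
  by_contra hnu
  obtain ⟨𝔪, h𝔪, hmem⟩ := exists_max_ideal_of_mem_nonunits hnu
  have hd := derivation_eq_zero_of_formallyUnramified (N := Localization.Away (algebraMap V B ϖ) ⧸ 𝔪)
    _ hf ((Ideal.Quotient.mkₐ (Localization.Away (algebraMap V B ϖ)) 𝔪).toLinearMap.compDer θ')
    (by
      show Ideal.Quotient.mk 𝔪 (θ' _) = 0
      rw [hθ'', Ideal.Quotient.eq_zero_iff_mem]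
      exact hmem)
    (algebraMap B _ x)
  have hx : algebraMap B (Localization.Away (algebraMap V B ϖ)) x ∈ 𝔪 := by
    rw [← Ideal.Quotient.eq_zero_iff_mem, ← hθx, ← hθ'']
    exact hd
  have hux : IsUnit (algebraMap B (Localization.Away (algebraMap V B ϖ)) x) := by
    have h1 : IsUnit (algebraMap B (Localization.Away (algebraMap V B ϖ)) (x * y)) := by
      rw [hxy]
      exact IsLocalization.Away.algebraMap_isUnit _
    rw [map_mul] at h1
    exact isUnit_of_mul_isUnit_left h1
  exact h𝔪.ne_top (Ideal.eq_top_of_isUnit_mem _ hx hux)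

end StepA'

end Groth.Agent.Lib.Helper86.Node
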