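import Groth.Agent.Lib.Helper86.Node1
import Mathlib.RingTheory.Filtration
import Mathlib.RingTheory.Ideal.Operations

/-!
# The standard semistable node: abstract part II (helper86)
-/

set_option autoImplicit false
set_option linter.style.haveILetI false
set_option linter.unusedSectionVars false

universe u

namespace Groth.Agent.Lib.Helper86.Node

open Polynomial KaehlerDifferential
open scoped TensorProduct

section StepB

variable {B : Type*} [CommRing B]

/-- an element of `(x, y)` which becomes a unit after inverting `ϖ = x y` is divisible by `x` or `y` -/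
theorem mem_span_of_isUnit_away (x y ϖ : B) (hxy : x * y = ϖ)
    (hreg : ∀ b : B, ϖ * b = 0 → b = 0)
    (hPx : (Ideal.span {x}).IsPrime) (hPy : (Ideal.span {y}).IsPrime)
    (hxy' : x ∉ Ideal.span {y})
    (g : B) (hg : g ∈ Ideal.span {x, y}) (hne : Ideal.span {x, y} ≠ (⊤ : Ideal B))
    (hu : IsUnit (algebraMap B (Localization.Away ϖ) g)) :
    g ∈ Ideal.span {x} ∨ g ∈ Ideal.span {y} := by
  subst hxy
  by_contra hcon
  push Not at hcon
  obtain ⟨hgx, hgy⟩ := hcon
  -- `g * b = (x * y) ^ N`
  obtain ⟨b, N, hb⟩ : ∃ (b : B) (N : ℕ), g * b = (x * y) ^ N := by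
    obtain ⟨c, hc⟩ := hu.exists_right_inv
    obtain ⟨b, ⟨_, m, rfl⟩, rfl⟩ := IsLocalization.exists_mk'_eq (Submonoid.powers (x * y)) c
    have h1 : algebraMap B (Localization.Away (x * y)) (g * b) = algebraMap B (Localization.Away (x * y)) ((x * y) ^ m) := by
      rw [map_mul]
      have := IsLocalization.mk'_spec (Localization.Away (x * y)) b (⟨(x * y) ^ m, m, rfl⟩ : Submonoid.powers (x * y))
      rw [← this, ← mul_assoc, hc, one_mul]
    obtain ⟨⟨_, k, rfl⟩, hk⟩ := (IsLocalization.eq_iff_exists (Submonoid.powers (x * y)) _).mp h1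
    refine ⟨(x * y) ^ k * b, k + m, ?_⟩
    simp only at hk
    rw [pow_add, ← hk]
    ring
  have key : ∀ (N : ℕ) (b : B), g * b = (x * y) ^ N → IsUnit g := by
    intro N
    induction N with
    | zero =>
      intro b hb
      rw [pow_zero] at hb
      exact IsUnit.of_mul_eq_one _ hb
    | succ N ih =>
      intro b hb
      have h1 : g * b ∈ Ideal.span {x} := by
        rw [hb, pow_succ, Ideal.mem_span_singleton]
        exact ⟨(x * y) ^ N * y, by ring⟩
      have h2 : g * b ∈ Ideal.span {y} := by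
        rw [hb, pow_succ, Ideal.mem_span_singleton]
        exact ⟨(x * y) ^ N * x, by ring⟩
      have hbx : b ∈ Ideal.span {x} := (hPx.mem_or_mem h1).resolve_left hgx
      have hby : b ∈ Ideal.span {y} := (hPy.mem_or_mem h2).resolve_left hgy
      obtain ⟨b₁, rfl⟩ := Ideal.mem_span_singleton.mp hbx
      have hb₁ : b₁ ∈ Ideal.span {y} := (hPy.mem_or_mem hby).resolve_left hxy'
      obtain ⟨b₂, rfl⟩ := Ideal.mem_span_singleton.mp hb₁
      apply ih b₂
      have h3 : (x * y) * (g * b₂ - (x * y) ^ N) = 0 := by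
        have : (x * y) * (g * b₂ - (x * y) ^ N) = g * (x * (y * b₂)) - (x * y) ^ (N + 1) := by
          rw [pow_succ]; ring
        rw [this, hb, sub_self]
      exact sub_eq_zero.mp (hreg _ h3)
  have hug := key N b hb
  exact hne (Ideal.eq_top_of_isUnit_mem _ hg hug)

end StepB

section StepC

variable {V B : Type*} [CommRing V] [CommRing B] [Algebra V B]

/-- vanishing of the differential on the component `x = 0` -/
theorem D_quotient_eq_zero (x y : B) (θ : Derivation V B B) (hθx : θ x = x) (hθy : θ y = -y)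
    (hPx : (Ideal.span {x}).IsPrime) (hyx : y ∉ Ideal.span {x}) (f b₁ b₂ : B)
    (hD : D V B f = b₁ • D V B x + b₂ • D V B y) (hg : θ f ∈ Ideal.span {x}) :
    D V (B ⧸ Ideal.span {x}) (Ideal.Quotient.mk _ f) = 0 := by
  have h1 : θ f = b₁ * x + b₂ * (-y) := by
    have := congrArg θ.liftKaehlerDifferential hD
    rw [map_add, map_smul, map_smul, Derivation.liftKaehlerDifferential_comp_D,
      Derivation.liftKaehlerDifferential_comp_D, Derivation.liftKaehlerDifferential_comp_D,
      hθx, hθy, smul_eq_mul, smul_eq_mul] at this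
    exact this
  have h2 : b₂ * y ∈ Ideal.span {x} := by
    have : b₂ * y = b₁ * x - θ f := by rw [h1]; ring
    rw [this]
    exact Ideal.sub_mem _ (Ideal.mul_mem_left _ _ (Ideal.mem_span_singleton_self x)) hg
  have h3 : b₂ ∈ Ideal.span {x} := (hPx.mem_or_mem h2).resolve_right hyx
  have h4 := congrArg (KaehlerDifferential.map V V B (B ⧸ Ideal.span {x})) hD
  rw [KaehlerDifferential.map_D, map_add, map_smul, map_smul, KaehlerDifferential.map_D,
    KaehlerDifferential.map_D] at h4
  rw [Ideal.Quotient.algebraMap_eq] at h4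
  rw [h4, ← algebraMap_smul (B ⧸ Ideal.span {x}) b₁, ← algebraMap_smul (B ⧸ Ideal.span {x}) b₂,
    Ideal.Quotient.algebraMap_eq, Ideal.Quotient.eq_zero_iff_mem.mpr h3,
    Ideal.Quotient.eq_zero_iff_mem.mpr (Ideal.mem_span_singleton_self x), zero_smul, map_zero,
    smul_zero, add_zero]

end StepC

section Krull

variable {V C : Type*} [CommRing V] [CommRing C] [Algebra V C] [IsDomain C] [IsNoetherianRing C]

/-- an element of `(yb)` killed by a derivation `θ` with `θ yb = -yb`, `θ C ⊆ (yb)` vanishes in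
"characteristic zero" -/
theorem eq_zero_of_theta_eq_zero (yb : C) (hy0 : yb ≠ 0) (hyt : Ideal.span {yb} ≠ (⊤ : Ideal C))
    (θ : Derivation V C C) (hθy : θ yb = -yb) (hθI : ∀ c, θ c ∈ Ideal.span {yb})
    (hn : ∀ n : ℕ, 0 < n → IsUnit (n : C)) (c : C) (hc : c ∈ Ideal.span {yb}) (hθc : θ c = 0) :
    c = 0 := by
  have key : ∀ (n : ℕ) (c : C), θ c = 0 → c ∈ Ideal.span {yb} → c ∈ Ideal.span {yb ^ (n + 1)} := by
    intro n
    induction n with
    | zero =>
      intro c _ hc
      simpa using hc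
    | succ n ih =>
      intro c hθc hc
      obtain ⟨c', rfl⟩ := Ideal.mem_span_singleton.mp (ih c hθc hc)
      have h1 : θ (yb ^ (n + 1) * c') = yb ^ (n + 1) * (θ c' - ((n + 1 : ℕ) : C) * c') := by
        rw [Derivation.leibniz, Derivation.leibniz_pow, hθy, Nat.add_sub_cancel, smul_eq_mul,
          smul_eq_mul, nsmul_eq_mul, smul_eq_mul, pow_succ]
        ring
      rw [h1] at hθc
      have h2 : θ c' = ((n + 1 : ℕ) : C) * c' :=
        sub_eq_zero.mp ((mul_eq_zero.mp hθc).resolve_left (pow_ne_zero _ hy0))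
      obtain ⟨e, he⟩ := Ideal.mem_span_singleton.mp (hθI c')
      obtain ⟨u, hu⟩ := hn (n + 1) (Nat.succ_pos n)
      rw [Ideal.mem_span_singleton]
      refine ⟨↑u⁻¹ * e, ?_⟩
      have h3 : c' = ↑u⁻¹ * (yb * e) := by
        rw [← he, h2, ← hu, ← mul_assoc, Units.inv_mul, one_mul]
      rw [h3]
      ring
  have hK := Ideal.iInf_pow_eq_bot_of_isDomain (Ideal.span {yb}) hyt
  have hmem : c ∈ (⨅ i : ℕ, Ideal.span {yb} ^ i) := by
    rw [Ideal.mem_iInf]
    intro i
    rw [Ideal.span_singleton_pow]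
    cases i with
    | zero => simp
    | succ i => exact key i c hθc hc
  rw [hK] at hmem
  exact hmem

end Krull

section StepD

variable {V B : Type*} [CommRing V] [CommRing B] [Algebra V B] [IsNoetherianRing B]

theorem not_quasiFinite_of_D_eq_zero (x y : B) (θ : Derivation V B B) (hθx : θ x = x)
    (hθy : θ y = -y) (hθI : ∀ b, θ b ∈ Ideal.span {x, y}) (hPx : (Ideal.span {x}).IsPrime)
    (hPxy : (Ideal.span {x, y}).IsPrime) (hyx : y ∉ Ideal.span {x})
    (hn : ∀ n : ℕ, 0 < n → IsUnit (n : B)) (f : B)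
    (hD : D V (B ⧸ Ideal.span {x}) (Ideal.Quotient.mk _ f) = 0) :
    ¬ (Polynomial.aeval f : V[X] →ₐ[V] B).toRingHom.QuasiFinite := by
  intro hqf
  letI : Algebra V[X] B := (Polynomial.aeval f : V[X] →ₐ[V] B).toRingHom.toAlgebra
  haveI : Algebra.QuasiFinite V[X] B := hqf
  have hsurj : Function.Surjective (Ideal.Quotient.mkₐ V (Ideal.span {x})) :=
    Ideal.Quotient.mkₐ_surjective V _
  have hker : ∀ b, Ideal.Quotient.mkₐ V (Ideal.span {x}) b = 0 →
      Ideal.Quotient.mkₐ V (Ideal.span {x}) (θ b) = 0 := by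
    intro b hb
    rw [Ideal.Quotient.mkₐ_eq_mk, Ideal.Quotient.eq_zero_iff_mem] at hb ⊢
    obtain ⟨b', rfl⟩ := Ideal.mem_span_singleton.mp hb
    rw [Derivation.leibniz, hθx, smul_eq_mul, smul_eq_mul, Ideal.mem_span_singleton]
    exact ⟨θ b' + b', by ring⟩
  obtain ⟨θ', hθ'⟩ : ∃ θ' : Derivation V (B ⧸ Ideal.span {x}) (B ⧸ Ideal.span {x}),
      ∀ b, θ' (Ideal.Quotient.mk _ b) = Ideal.Quotient.mk _ (θ b) :=
    ⟨Derivation.liftOfSurjective hsurj hker, fun b => Derivation.liftOfSurjective_apply hsurj hker b⟩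
  haveI := hPx
  haveI := hPxy
  have hle : Ideal.span {x} ≤ Ideal.span {x, y} := Ideal.span_mono (by simp)
  have hymem : y ∈ Ideal.span {x, y} := Ideal.subset_span (by simp)
  have hunder : (Ideal.span {x}).under V[X] = (Ideal.span {x, y}).under V[X] := by
    apply le_antisymm (Ideal.comap_mono hle)
    intro p hp
    have hp' : Polynomial.aeval f p ∈ Ideal.span {x, y} := hp
    show Polynomial.aeval f p ∈ Ideal.span {x}
    rw [← Ideal.Quotient.eq_zero_iff_mem]
    have hc : Ideal.Quotient.mk (Ideal.span {x}) (Polynomial.aeval f p) =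
        Polynomial.aeval (Ideal.Quotient.mk (Ideal.span {x}) f) p :=
      (Polynomial.aeval_algHom_apply (Ideal.Quotient.mkₐ V (Ideal.span {x})) f p).symm
    apply eq_zero_of_theta_eq_zero (V := V) (Ideal.Quotient.mk (Ideal.span {x}) y) ?_ ?_ θ' ?_ ?_ ?_ _ ?_ ?_
    · rwa [Ne, Ideal.Quotient.eq_zero_iff_mem]
    · intro htop
      have h1 : (1 : B ⧸ Ideal.span {x}) ∈ Ideal.span {Ideal.Quotient.mk (Ideal.span {x}) y} := by
        rw [htop]; trivial
      obtain ⟨e, he⟩ := Ideal.mem_span_singleton.mp h1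
      obtain ⟨e, rfl⟩ := Ideal.Quotient.mk_surjective e
      rw [← map_mul, ← map_one (Ideal.Quotient.mk (Ideal.span {x})), Ideal.Quotient.eq,
        Ideal.mem_span_singleton] at he
      obtain ⟨a, ha⟩ := he
      apply hPxy.ne_top
      rw [Ideal.eq_top_iff_one]
      have : (1 : B) = x * a + y * e := by linear_combination ha
      rw [this]
      exact Ideal.add_mem _ (Ideal.mul_mem_right _ _ (Ideal.subset_span (by simp)))
        (Ideal.mul_mem_right _ _ hymem)
    · rw [hθ', hθy, map_neg]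
    · intro c
      obtain ⟨c, rfl⟩ := Ideal.Quotient.mk_surjective c
      rw [hθ']
      obtain ⟨a, b, hab⟩ := Ideal.mem_span_pair.mp (hθI c)
      rw [← hab, map_add, map_mul, map_mul, Ideal.Quotient.eq_zero_iff_mem.mpr
        (Ideal.mem_span_singleton_self x), mul_zero, zero_add, Ideal.mem_span_singleton]
      exact ⟨_, mul_comm _ _⟩
    · intro n hn0
      have := (hn n hn0).map (Ideal.Quotient.mk (Ideal.span {x}))
      rwa [map_natCast] at this
    · obtain ⟨a, b, hab⟩ := Ideal.mem_span_pair.mp hp'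
      rw [← hab, map_add, map_mul, map_mul, Ideal.Quotient.eq_zero_iff_mem.mpr
        (Ideal.mem_span_singleton_self x), mul_zero, zero_add, Ideal.mem_span_singleton]
      exact ⟨_, mul_comm _ _⟩
    · have h1 : θ' (Ideal.Quotient.mk (Ideal.span {x}) (Polynomial.aeval f p)) =
          θ'.liftKaehlerDifferential (D V _ (Ideal.Quotient.mk (Ideal.span {x})
            (Polynomial.aeval f p))) :=
        (Derivation.liftKaehlerDifferential_comp_D θ' _).symm
      rw [h1, hc, Derivation.map_aeval, hD, smul_zero, map_zero]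
  have heq := Algebra.QuasiFinite.eq_of_le_of_under_eq (R := V[X]) _ _ hle hunder
  apply hyx
  rw [heq]
  exact hymem

end StepD

end Groth.Agent.Lib.Helper86.Node
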