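import Groth.Agent.Lib.Helper86.Node2
import Mathlib.RingTheory.DiscreteValuationRing.Basic
import Mathlib.RingTheory.Polynomial.Basic
import Mathlib.RingTheory.LocalRing.ResidueField.Basic

/-!
# The standard semistable node: abstract characterisation of the ring `Q = V[x,y]/(xy - ϖ)` (helper86)
-/

set_option autoImplicit false
set_option linter.style.haveILetI false
set_option linter.unusedSectionVars false

universe u

namespace Groth.Agent.Lib.Helper86.Node

open Polynomial KaehlerDifferential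

/-- the properties of `Q = V[x₀, x₁]/(x₀ x₁ - ϖ)` that we use -/
structure IsNodeRing (V : Type u) [CommRing V] (ϖ : V) (Q : Type u) [CommRing Q] [Algebra V Q]
    (x : Fin 2 → Q) : Prop where
  rel : x 0 * x 1 = algebraMap V Q ϖ
  lift : ∀ (S : Type u) [CommRing S] [Algebra V S] (a : Fin 2 → S),
    a 0 * a 1 = algebraMap V S ϖ → ∃ φ : Q →ₐ[V] S, ∀ i, φ (x i) = a i
  adjoin : Algebra.adjoin V (Set.range x) = ⊤
  reg : ∀ q : Q, algebraMap V Q ϖ * q = 0 → q = 0
  deriv : ∃ θ : Derivation V Q Q, θ (x 0) = x 0 ∧ θ (x 1) = -x 1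

section QLevel

variable {V : Type u} [CommRing V] [IsDomain V] [IsDiscreteValuationRing V] {ϖ : V}
  {Q : Type u} [CommRing Q] [Algebra V Q] {x : Fin 2 → Q} (hQ : IsNodeRing V ϖ Q x)
include hQ

theorem IsNodeRing.ringHom_ext {S : Type*} [CommRing S] {f g : Q →+* S}
    (h1 : ∀ v : V, f (algebraMap V Q v) = g (algebraMap V Q v)) (h2 : ∀ i, f (x i) = g (x i)) :
    f = g := by
  ext q
  have hq : q ∈ Algebra.adjoin V (Set.range x) := by rw [hQ.adjoin]; trivial
  induction hq using Algebra.adjoin_induction with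
  | mem y hy =>
    obtain ⟨i, rfl⟩ := hy
    exact h2 i
  | algebraMap v => exact h1 v
  | add a b _ _ ha hb => rw [map_add, map_add, ha, hb]
  | mul a b _ _ ha hb => rw [map_mul, map_mul, ha, hb]

/-- induction principle -/
theorem IsNodeRing.induction (S : Subalgebra V Q) (h : ∀ i, x i ∈ S) (q : Q) : q ∈ S := by
  have hle : Algebra.adjoin V (Set.range x) ≤ S := Algebra.adjoin_le (by
    rintro _ ⟨i, rfl⟩
    exact h i)
  rw [hQ.adjoin] at hle
  exact hle trivial

variable (hϖ : Irreducible ϖ)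
include hϖ

omit hQ in
theorem residue_ϖ : IsLocalRing.residue V ϖ = 0 := by
  rw [IsLocalRing.residue_eq_zero_iff]
  exact (IsLocalRing.mem_maximalIdeal _).mpr hϖ.not_isUnit

theorem IsNodeRing.exists_phi (a : Fin 2 → (IsLocalRing.ResidueField V)[X]) (ha : a 0 * a 1 = 0) :
    ∃ φ : Q →ₐ[V] (IsLocalRing.ResidueField V)[X], ∀ i, φ (x i) = a i := by
  apply hQ.lift
  rw [ha, Polynomial.algebraMap_apply]
  show 0 = Polynomial.C (IsLocalRing.residue V ϖ)
  rw [residue_ϖ hϖ, map_zero]

/-- the map from the residue field to a quotient of `Q` killing `x y` -/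
noncomputable def IsNodeRing.kToQuot (J : Ideal Q) (hJ : x 0 * x 1 ∈ J) :
    IsLocalRing.ResidueField V →+* Q ⧸ J :=
  Ideal.Quotient.lift (IsLocalRing.maximalIdeal V)
    ((Ideal.Quotient.mk J).comp (algebraMap V Q)) (by
    intro v hv
    rw [hϖ.maximalIdeal_eq, Ideal.mem_span_singleton] at hv
    obtain ⟨w, rfl⟩ := hv
    rw [RingHom.comp_apply, map_mul, ← hQ.rel, map_mul (Ideal.Quotient.mk J),
      Ideal.Quotient.eq_zero_iff_mem.mpr hJ, zero_mul])

theorem IsNodeRing.kToQuot_residue (J : Ideal Q) (hJ : x 0 * x 1 ∈ J) (v : V) :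
    hQ.kToQuot hϖ J hJ (IsLocalRing.residue V v) = Ideal.Quotient.mk J (algebraMap V Q v) := rfl

/-- the generic "section" argument -/
theorem IsNodeRing.mem_of_phi_eq_zero (a : Fin 2 → (IsLocalRing.ResidueField V)[X])
    (φ : Q →ₐ[V] (IsLocalRing.ResidueField V)[X]) (hφ : ∀ i, φ (x i) = a i)
    (J : Ideal Q) (hJ : x 0 * x 1 ∈ J) (t : Q ⧸ J)
    (ht : ∀ i, Polynomial.eval₂ (hQ.kToQuot hϖ J hJ) t (a i) = Ideal.Quotient.mk J (x i))
    (q : Q) (hq : φ q = 0) : q ∈ J := by
  have hcomp : (Polynomial.eval₂RingHom (hQ.kToQuot hϖ J hJ) t).comp (φ : Q →+* (IsLocalRing.ResidueField V)[X]) =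
      Ideal.Quotient.mk J := by
    apply hQ.ringHom_ext
    · intro v
      rw [RingHom.comp_apply, RingHom.coe_coe, AlgHom.commutes, Polynomial.algebraMap_apply,
        Polynomial.coe_eval₂RingHom, Polynomial.eval₂_C]
      rfl
    · intro i
      rw [RingHom.comp_apply, RingHom.coe_coe, hφ, Polynomial.coe_eval₂RingHom, ht i]
  rw [← Ideal.Quotient.eq_zero_iff_mem, ← hcomp, RingHom.comp_apply, RingHom.coe_coe, hq, map_zero]

theorem IsNodeRing.isPrime_span_singleton (i j : Fin 2) (hij : i ≠ j) :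
    (Ideal.span {x i}).IsPrime ∧ x j ∉ Ideal.span {x i} := by
  obtain ⟨a, ha⟩ : ∃ a : Fin 2 → (IsLocalRing.ResidueField V)[X],
      a = fun l => if l = i then 0 else Polynomial.X := ⟨_, rfl⟩
  have ha0 : a 0 * a 1 = 0 := by
    rw [ha]
    fin_cases i <;> simp
  have hai : a i = 0 := by rw [ha]; simp
  have haj : a j = Polynomial.X := by rw [ha]; simp [hij.symm]
  obtain ⟨φ, hφ⟩ := hQ.exists_phi hϖ a ha0
  have hJ : x 0 * x 1 ∈ Ideal.span {x i} := by
    rw [Ideal.mem_span_singleton]
    fin_cases i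
    · exact Dvd.intro _ rfl
    · exact Dvd.intro_left _ rfl
  have hker : RingHom.ker (φ : Q →+* (IsLocalRing.ResidueField V)[X]) = Ideal.span {x i} := by
    apply le_antisymm
    · intro q hq
      refine hQ.mem_of_phi_eq_zero hϖ a φ hφ _ hJ (Ideal.Quotient.mk _ (x j)) ?_ q hq
      intro l
      by_cases hl : l = i
      · subst hl
        rw [hai, Polynomial.eval₂_zero, eq_comm, Ideal.Quotient.eq_zero_iff_mem]
        exact Ideal.mem_span_singleton_self _
      · have hlj : l = j := by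
          fin_cases l <;> fin_cases i <;> fin_cases j <;> simp_all
        subst hlj
        rw [haj, Polynomial.eval₂_X]
    · rw [Ideal.span_le]
      rintro _ rfl
      show (φ : Q →+* (IsLocalRing.ResidueField V)[X]) (x i) = 0
      rw [RingHom.coe_coe, hφ, hai]
  constructor
  · rw [← hker]
    exact RingHom.ker_isPrime _
  · rw [← hker]
    show ¬ ((φ : Q →+* (IsLocalRing.ResidueField V)[X]) (x j) = 0)
    rw [RingHom.coe_coe, hφ, haj]
    exact Polynomial.X_ne_zero

theorem IsNodeRing.isPrime_span_pair : (Ideal.span {x 0, x 1}).IsPrime := by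
  obtain ⟨φ, hφ⟩ := hQ.exists_phi hϖ (fun _ => 0) (by simp)
  have hJ : x 0 * x 1 ∈ Ideal.span {x 0, x 1} :=
    Ideal.mul_mem_right _ _ (Ideal.subset_span (by simp))
  have hker : RingHom.ker (φ : Q →+* (IsLocalRing.ResidueField V)[X]) = Ideal.span {x 0, x 1} := by
    apply le_antisymm
    · intro q hq
      refine hQ.mem_of_phi_eq_zero hϖ _ φ hφ _ hJ 0 ?_ q hq
      intro l
      rw [Polynomial.eval₂_zero, eq_comm, Ideal.Quotient.eq_zero_iff_mem]
      apply Ideal.subset_span
      fin_cases l <;> simp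
    · rw [Ideal.span_le]
      intro y hy
      show (φ : Q →+* (IsLocalRing.ResidueField V)[X]) y = 0
      rcases hy with rfl | rfl
      · rw [RingHom.coe_coe, hφ]
      · rw [RingHom.coe_coe, hφ]
  rw [← hker]
  exact RingHom.ker_isPrime _

end QLevel

end Groth.Agent.Lib.Helper86.Node
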