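import Groth.Agent.Lib.Helper86.Node3
import Mathlib.RingTheory.Localization.Ideal
import Mathlib.RingTheory.Localization.Away.Basic

/-!
# The standard semistable node: the localization `B = Q[1/h]` (helper86)
-/

set_option autoImplicit false
set_option linter.style.haveILetI false
set_option linter.unusedSectionVars false

universe u

namespace Groth.Agent.Lib.Helper86.Node

open Polynomial KaehlerDifferential

section BLevel

variable {V : Type u} [CommRing V] [IsDomain V] [IsDiscreteValuationRing V] {ϖ : V}
  {Q : Type u} [CommRing Q] [Algebra V Q] {x : Fin 2 → Q} (hQ : IsNodeRing V ϖ Q x)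
  (hϖ : Irreducible ϖ) (h : Q) (hh : h ∉ Ideal.span {x 0, x 1})
include hQ hϖ hh

theorem IsNodeRing.disjoint_powers (J : Ideal Q) (hJ : J ≤ Ideal.span {x 0, x 1}) :
    Disjoint (Submonoid.powers h : Set Q) (J : Set Q) := by
  haveI := hQ.isPrime_span_pair hϖ
  rw [Set.disjoint_left]
  rintro _ ⟨n, rfl⟩ hn
  exact hh (Ideal.IsPrime.mem_of_pow_mem inferInstance n (hJ hn))

theorem IsNodeRing.isPrime_span_singleton_away (i j : Fin 2) (hij : i ≠ j) :
    (Ideal.span {algebraMap Q (Localization.Away h) (x i)}).IsPrime ∧
      algebraMap Q (Localization.Away h) (x j) ∉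
        Ideal.span {algebraMap Q (Localization.Away h) (x i)} := by
  obtain ⟨hp, hnot⟩ := hQ.isPrime_span_singleton hϖ i j hij
  have hle : Ideal.span {x i} ≤ Ideal.span {x 0, x 1} := by
    rw [Ideal.span_le]
    rintro _ rfl
    apply Ideal.subset_span
    fin_cases i <;> simp
  have hd := hQ.disjoint_powers hϖ h hh _ hle
  have hmap : Ideal.map (algebraMap Q (Localization.Away h)) (Ideal.span {x i}) =
      Ideal.span {algebraMap Q (Localization.Away h) (x i)} := by
    rw [Ideal.map_span, Set.image_singleton]
  constructor
  · rw [← hmap]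
    exact IsLocalization.isPrime_of_isPrime_disjoint (Submonoid.powers h) _ _ hp hd
  · intro hmem
    rw [← hmap] at hmem
    have h1 : x j ∈ Ideal.under Q
        (Ideal.map (algebraMap Q (Localization.Away h)) (Ideal.span {x i})) := hmem
    rw [IsLocalization.under_map_of_isPrime_disjoint (Submonoid.powers h) _ hp hd] at h1
    exact hnot h1

theorem IsNodeRing.isPrime_span_pair_away :
    (Ideal.span {algebraMap Q (Localization.Away h) (x 0),
      algebraMap Q (Localization.Away h) (x 1)}).IsPrime := by
  have hp := hQ.isPrime_span_pair hϖ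
  have hd := hQ.disjoint_powers hϖ h hh _ le_rfl
  have hmap : Ideal.map (algebraMap Q (Localization.Away h)) (Ideal.span {x 0, x 1}) =
      Ideal.span {algebraMap Q (Localization.Away h) (x 0),
        algebraMap Q (Localization.Away h) (x 1)} := by
    rw [Ideal.map_span, Set.image_pair]
  rw [← hmap]
  exact IsLocalization.isPrime_of_isPrime_disjoint (Submonoid.powers h) _ _ hp hd

omit hϖ hh in
theorem IsNodeRing.reg_away (b : Localization.Away h)
    (hb : algebraMap V (Localization.Away h) ϖ * b = 0) : b = 0 := by
  obtain ⟨q, s, rfl⟩ := IsLocalization.exists_mk'_eq (Submonoid.powers h) b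
  rw [IsScalarTower.algebraMap_apply V Q (Localization.Away h), ← IsLocalization.mk'_one
    (M := Submonoid.powers h) (Localization.Away h), ← IsLocalization.mk'_mul, one_mul,
    IsLocalization.mk'_eq_zero_iff] at hb
  obtain ⟨m, hm⟩ := hb
  rw [IsLocalization.mk'_eq_zero_iff]
  refine ⟨m, hQ.reg _ ?_⟩
  rw [← hm]
  ring

omit hϖ hh in
/-- induction principle for `B` -/
theorem IsNodeRing.induction_away (S : Subalgebra V (Localization.Away h))
    (hx : ∀ i, algebraMap Q (Localization.Away h) (x i) ∈ S)
    (hinv : ∀ b u : Localization.Away h, IsUnit u → u ∈ S → b * u ∈ S → b ∈ S)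
    (b : Localization.Away h) : b ∈ S := by
  have h1 : ∀ q : Q, algebraMap Q (Localization.Away h) q ∈ S := by
    intro q
    exact hQ.induction (S.comap (IsScalarTower.toAlgHom V Q (Localization.Away h))) hx q
  obtain ⟨q, s, rfl⟩ := IsLocalization.exists_mk'_eq (Submonoid.powers h) b
  apply hinv _ (algebraMap Q (Localization.Away h) s) (IsLocalization.map_units _ s) (h1 _)
  rw [IsLocalization.mk'_spec]
  exact h1 q

omit hϖ hh in
theorem IsNodeRing.exists_theta_away :
    ∃ θ : Derivation V (Localization.Away h) (Localization.Away h),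
      θ (algebraMap Q (Localization.Away h) (x 0)) = algebraMap Q (Localization.Away h) (x 0) ∧
      θ (algebraMap Q (Localization.Away h) (x 1)) = -algebraMap Q (Localization.Away h) (x 1) ∧
      ∀ b, θ b ∈ Ideal.span {algebraMap Q (Localization.Away h) (x 0),
        algebraMap Q (Localization.Away h) (x 1)} := by
  obtain ⟨θQ, h0, h1⟩ := hQ.deriv
  obtain ⟨θ, hθ⟩ := exists_derivation_extension (A' := Localization.Away h)
    ((Algebra.linearMap Q (Localization.Away h)).compDer θQ)
  have hθ' : ∀ q : Q, θ (algebraMap Q _ q) = algebraMap Q _ (θQ q) := fun q => hθ q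
  have hθ0 : θ (algebraMap Q (Localization.Away h) (x 0)) =
      algebraMap Q (Localization.Away h) (x 0) := by rw [hθ', h0]
  have hθ1 : θ (algebraMap Q (Localization.Away h) (x 1)) =
      -algebraMap Q (Localization.Away h) (x 1) := by rw [hθ', h1, map_neg]
  refine ⟨θ, hθ0, hθ1, ?_⟩
  obtain ⟨I, hI⟩ : ∃ I : Ideal (Localization.Away h),
      I = Ideal.span {algebraMap Q (Localization.Away h) (x 0),
        algebraMap Q (Localization.Away h) (x 1)} := ⟨_, rfl⟩
  rw [← hI]
  let S : Subalgebra V (Localization.Away h) :=
    { carrier := {b | θ b ∈ I}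
      mul_mem' := fun {a b} ha hb => by
        show θ (a * b) ∈ I
        rw [Derivation.leibniz, smul_eq_mul, smul_eq_mul]
        exact Ideal.add_mem _ (Ideal.mul_mem_left _ _ hb) (Ideal.mul_mem_left _ _ ha)
      add_mem' := fun {a b} ha hb => by
        show θ (a + b) ∈ I
        rw [map_add]
        exact Ideal.add_mem _ ha hb
      algebraMap_mem' := fun v => by
        show θ (algebraMap V _ v) ∈ I
        rw [Derivation.map_algebraMap]
        exact Ideal.zero_mem _ }
  refine hQ.induction_away h S ?_ ?_
  · intro i
    show θ _ ∈ I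
    rw [hI]
    fin_cases i
    · show θ (algebraMap Q (Localization.Away h) (x 0)) ∈ _
      rw [hθ0]
      exact Ideal.subset_span (by simp)
    · show θ (algebraMap Q (Localization.Away h) (x 1)) ∈ _
      rw [hθ1]
      exact neg_mem (Ideal.subset_span (by simp))
  · intro b u hu huS hbu
    have h2 : θ (b * u) ∈ I := hbu
    have h3 : θ u ∈ I := huS
    rw [Derivation.leibniz, smul_eq_mul, smul_eq_mul] at h2
    have h4 : u * θ b ∈ I := by
      have := Ideal.sub_mem _ h2 (Ideal.mul_mem_left _ b h3)
      rwa [add_sub_cancel_left] at this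
    show θ b ∈ I
    obtain ⟨u', rfl⟩ := hu
    have := Ideal.mul_mem_left I (↑u'⁻¹) h4
    rwa [← mul_assoc, Units.inv_mul, one_mul] at this

omit hϖ hh in
theorem IsNodeRing.exists_D_eq_away (b : Localization.Away h) :
    ∃ b₁ b₂ : Localization.Away h, D V (Localization.Away h) b =
      b₁ • D V _ (algebraMap Q (Localization.Away h) (x 0)) +
      b₂ • D V _ (algebraMap Q (Localization.Away h) (x 1)) := by
  obtain ⟨N, hN⟩ : ∃ N : Submodule (Localization.Away h) (Ω[Localization.Away h⁄V]),
      N = Submodule.span _ {D V _ (algebraMap Q (Localization.Away h) (x 0)),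
        D V _ (algebraMap Q (Localization.Away h) (x 1))} := ⟨_, rfl⟩
  suffices hmem : D V (Localization.Away h) b ∈ N by
    rw [hN, Submodule.mem_span_pair] at hmem
    obtain ⟨b₁, b₂, hb⟩ := hmem
    exact ⟨b₁, b₂, hb.symm⟩
  let S : Subalgebra V (Localization.Away h) :=
    { carrier := {b | D V (Localization.Away h) b ∈ N}
      mul_mem' := fun {a b} ha hb => by
        show D V (Localization.Away h) (a * b) ∈ N
        rw [Derivation.leibniz]
        exact Submodule.add_mem _ (Submodule.smul_mem _ _ hb) (Submodule.smul_mem _ _ ha)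
      add_mem' := fun {a b} ha hb => by
        show D V (Localization.Away h) (a + b) ∈ N
        rw [map_add]
        exact Submodule.add_mem _ ha hb
      algebraMap_mem' := fun v => by
        show D V (Localization.Away h) (algebraMap V _ v) ∈ N
        rw [Derivation.map_algebraMap]
        exact Submodule.zero_mem _ }
  refine hQ.induction_away h S ?_ ?_ b
  · intro i
    show D V (Localization.Away h) _ ∈ N
    rw [hN]
    apply Submodule.subset_span
    fin_cases i <;> simp
  · intro b u hu huS hbu
    have h2 : D V (Localization.Away h) (b * u) ∈ N := hbu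
    have h3 : D V (Localization.Away h) u ∈ N := huS
    rw [Derivation.leibniz] at h2
    have h4 : u • D V (Localization.Away h) b ∈ N := by
      have := Submodule.sub_mem _ h2 (Submodule.smul_mem _ b h3)
      rwa [add_sub_cancel_left] at this
    show D V (Localization.Away h) b ∈ N
    obtain ⟨u', rfl⟩ := hu
    have := Submodule.smul_mem N (↑u'⁻¹ : Localization.Away h) h4
    rwa [smul_smul, Units.inv_mul, one_smul] at this

end BLevel

end Groth.Agent.Lib.Helper86.Node
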