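import Groth.Agent.Lib.Helper86.Node4

/-!
# The standard semistable node: main theorem over an abstract node ring (helper86)
-/

set_option autoImplicit false
set_option linter.style.haveILetI false
set_option linter.unusedSectionVars false

universe u

namespace Groth.Agent.Lib.Helper86.Node

open Polynomial KaehlerDifferential

section Main

variable {V : Type u} [CommRing V] [IsDomain V] [IsDiscreteValuationRing V] {ϖ : V}
  {Q : Type u} [CommRing Q] [Algebra V Q] [IsNoetherianRing Q] {x : Fin 2 → Q}
  (hQ : IsNodeRing V ϖ Q x)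
  (hϖ : Irreducible ϖ) (h : Q) (hh : h ∉ Ideal.span {x 0, x 1})
include hQ hϖ hh

theorem IsNodeRing.main (f : Localization.Away h)
    (hf : ((algebraMap (Localization.Away h)
        (Localization.Away (algebraMap V (Localization.Away h) ϖ))).comp
          (Polynomial.aeval f : V[X] →ₐ[V] Localization.Away h).toRingHom).Etale) :
    (D V (Localization.Away h ⧸ Ideal.span {algebraMap Q (Localization.Away h) (x 0)})
        (Ideal.Quotient.mk _ f) = 0 ∨
     D V (Localization.Away h ⧸ Ideal.span {algebraMap Q (Localization.Away h) (x 1)})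
        (Ideal.Quotient.mk _ f) = 0) ∧
    (CharZero (IsLocalRing.ResidueField V) →
      ¬ (Polynomial.aeval f : V[X] →ₐ[V] Localization.Away h).toRingHom.QuasiFinite) := by
  have hrel : algebraMap Q (Localization.Away h) (x 0) * algebraMap Q (Localization.Away h) (x 1) =
      algebraMap V (Localization.Away h) ϖ := by
    rw [← map_mul, hQ.rel, ← IsScalarTower.algebraMap_apply]
  obtain ⟨θ, hθ0, hθ1, hθI⟩ := hQ.exists_theta_away h
  obtain ⟨hP0, hn10⟩ := hQ.isPrime_span_singleton_away hϖ h hh 0 1 (by decide)
  obtain ⟨hP1, hn01⟩ := hQ.isPrime_span_singleton_away hϖ h hh 1 0 (by decide)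
  have hPpair := hQ.isPrime_span_pair_away hϖ h hh
  obtain ⟨b₁, b₂, hD⟩ := hQ.exists_D_eq_away h f
  generalize algebraMap Q (Localization.Away h) (x 0) = X0 at *
  generalize algebraMap Q (Localization.Away h) (x 1) = X1 at *
  have hfu : ((algebraMap (Localization.Away h)
        (Localization.Away (algebraMap V (Localization.Away h) ϖ))).comp
          (Polynomial.aeval f : V[X] →ₐ[V] Localization.Away h).toRingHom).FormallyUnramified := by
    letI := ((algebraMap (Localization.Away h)
        (Localization.Away (algebraMap V (Localization.Away h) ϖ))).comp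
          (Polynomial.aeval f : V[X] →ₐ[V] Localization.Away h).toRingHom).toAlgebra
    haveI : Algebra.Etale V[X] (Localization.Away (algebraMap V (Localization.Away h) ϖ)) := hf
    exact (inferInstance : Algebra.FormallyUnramified V[X]
      (Localization.Away (algebraMap V (Localization.Away h) ϖ)))
  have hu := isUnit_theta_of_formallyUnramified X0 X1 ϖ hrel θ hθ0 f hfu
  have hmem := mem_span_of_isUnit_away X0 X1 (algebraMap V (Localization.Away h) ϖ) hrel
    (hQ.reg_away h) hP0 hP1 hn01 (θ f) (hθI f) hPpair.ne_top hu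
  have hfirst : D V (Localization.Away h ⧸ Ideal.span {X0}) (Ideal.Quotient.mk _ f) = 0 ∨
      D V (Localization.Away h ⧸ Ideal.span {X1}) (Ideal.Quotient.mk _ f) = 0 := by
    rcases hmem with hm | hm
    · exact Or.inl (D_quotient_eq_zero X0 X1 θ hθ0 hθ1 hP0 hn10 f b₁ b₂ hD hm)
    · refine Or.inr (D_quotient_eq_zero X1 X0 (-θ) ?_ ?_ hP1 hn01 f b₂ b₁ ?_ ?_)
      · rw [Derivation.neg_apply, hθ1, neg_neg]
      · rw [Derivation.neg_apply, hθ0]
      · rw [hD, add_comm]
      · rw [Derivation.neg_apply]
        exact neg_mem hm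
  refine ⟨hfirst, fun hchar => ?_⟩
  have hn : ∀ n : ℕ, 0 < n → IsUnit (n : Localization.Away h) := by
    intro n hn0
    have h1 : IsUnit (n : V) := by
      by_contra hnu
      have h2 : (n : V) ∈ IsLocalRing.maximalIdeal V := (IsLocalRing.mem_maximalIdeal _).mpr hnu
      rw [← IsLocalRing.residue_eq_zero_iff, map_natCast, Nat.cast_eq_zero] at h2
      omega
    have := h1.map (algebraMap V (Localization.Away h))
    rwa [map_natCast] at this
  rcases hfirst with h0 | h0
  · exact not_quasiFinite_of_D_eq_zero X0 X1 θ hθ0 hθ1 hθI hP0 hPpair hn10 hn f h0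
  · refine not_quasiFinite_of_D_eq_zero X1 X0 (-θ) ?_ ?_ ?_ hP1 ?_ hn01 hn f h0
    · rw [Derivation.neg_apply, hθ1, neg_neg]
    · rw [Derivation.neg_apply, hθ0]
    · intro b
      rw [Derivation.neg_apply, Set.pair_comm]
      exact neg_mem (hθI b)
    · rw [Set.pair_comm]
      exact hPpair

end Main

end Groth.Agent.Lib.Helper86.Node
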