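import Groth.Agent.Lib.Helper86.Node5
import Mathlib.Algebra.MvPolynomial.Derivation

/-!
# The standard semistable node: the concrete ring `V[x,y]/(xy - ϖ)` is a node ring (helper86)
-/

set_option autoImplicit false
set_option linter.style.haveILetI false
set_option linter.unusedSectionVars false

universe u

namespace Groth.Agent.Lib.Helper86.Node

open Polynomial KaehlerDifferential

section Concrete

variable (V : Type u) [CommRing V] [IsDomain V] [IsDiscreteValuationRing V] (ϖ : V)
  (hϖ : Irreducible ϖ)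

theorem theta0_gpoly :
    MvPolynomial.mkDerivation V (![MvPolynomial.X 0, -MvPolynomial.X 1] :
      Fin 2 → MvPolynomial (Fin 2) V)
      (MvPolynomial.X 0 * MvPolynomial.X 1 - MvPolynomial.C ϖ : MvPolynomial (Fin 2) V) = 0 := by
  rw [map_sub, Derivation.leibniz, MvPolynomial.mkDerivation_X, MvPolynomial.mkDerivation_X,
    ← MvPolynomial.algebraMap_eq, Derivation.map_algebraMap]
  simp only [Matrix.cons_val_zero, Matrix.cons_val_one, smul_eq_mul]
  ring

include hϖ in
theorem isNodeRing_concrete :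
    IsNodeRing V ϖ (MvPolynomial (Fin 2) V ⧸ Ideal.span
      {(MvPolynomial.X 0 * MvPolynomial.X 1 - MvPolynomial.C ϖ : MvPolynomial (Fin 2) V)})
      (fun i => Ideal.Quotient.mk _ (MvPolynomial.X i)) := by
  obtain ⟨g, hg⟩ : ∃ g : MvPolynomial (Fin 2) V,
      g = MvPolynomial.X 0 * MvPolynomial.X 1 - MvPolynomial.C ϖ := ⟨_, rfl⟩
  rw [← hg]
  refine ⟨?_, ?_, ?_, ?_, ?_⟩
  · -- rel
    show Ideal.Quotient.mk _ _ * Ideal.Quotient.mk _ _ =
      Ideal.Quotient.mk _ (algebraMap V (MvPolynomial (Fin 2) V) ϖ)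
    rw [MvPolynomial.algebraMap_eq, ← map_mul, Ideal.Quotient.eq, Ideal.mem_span_singleton, hg]
  · -- lift
    intro S _ _ a ha
    have hker : ∀ p ∈ Ideal.span {g}, MvPolynomial.aeval a p = 0 := by
      intro p hp
      obtain ⟨r, rfl⟩ := Ideal.mem_span_singleton.mp hp
      rw [map_mul, hg, map_sub, map_mul, MvPolynomial.aeval_X, MvPolynomial.aeval_X,
        MvPolynomial.aeval_C, ha, sub_self, zero_mul]
    refine ⟨Ideal.Quotient.liftₐ (Ideal.span {g}) (MvPolynomial.aeval a) hker, fun i => ?_⟩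
    show Ideal.Quotient.liftₐ (Ideal.span {g}) (MvPolynomial.aeval a) hker
      (Ideal.Quotient.mk _ (MvPolynomial.X i)) = a i
    change (MvPolynomial.aeval a) (MvPolynomial.X i) = a i
    rw [MvPolynomial.aeval_X]
  · -- adjoin
    have h1 : Set.range (fun i : Fin 2 => Ideal.Quotient.mk (Ideal.span {g}) (MvPolynomial.X i)) =
        (Ideal.Quotient.mkₐ V (Ideal.span {g})) '' Set.range (MvPolynomial.X : Fin 2 → _) := by
      rw [← Set.range_comp]
      rfl
    rw [h1, ← AlgHom.map_adjoin, MvPolynomial.adjoin_range_X, Algebra.map_top,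
      AlgHom.range_eq_top]
    exact Ideal.Quotient.mkₐ_surjective V _
  · -- reg
    intro q hq
    obtain ⟨p, rfl⟩ := Ideal.Quotient.mk_surjective q
    have hq' : Ideal.Quotient.mk (Ideal.span {g}) (MvPolynomial.C ϖ * p) = 0 := by
      rw [map_mul, ← MvPolynomial.algebraMap_eq]
      exact hq
    rw [Ideal.Quotient.eq_zero_iff_mem, Ideal.mem_span_singleton] at hq'
    obtain ⟨r, hr⟩ := hq'
    have hprime : Prime (MvPolynomial.C ϖ : MvPolynomial (Fin 2) V) :=
      (MvPolynomial.prime_C_iff (Fin 2)).mpr hϖ.prime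
    have hndvd : ¬ (MvPolynomial.C ϖ : MvPolynomial (Fin 2) V) ∣ g := by
      rintro ⟨t, ht⟩
      have h2 := congrArg (MvPolynomial.map (IsLocalRing.residue V)) ht
      rw [hg, map_mul, MvPolynomial.map_C, residue_ϖ hϖ, map_zero, zero_mul, map_sub, map_mul,
        MvPolynomial.map_X, MvPolynomial.map_X, MvPolynomial.map_C, residue_ϖ hϖ, map_zero,
        sub_zero] at h2
      exact mul_ne_zero (MvPolynomial.X_ne_zero 0) (MvPolynomial.X_ne_zero 1) h2
    have hdvd : (MvPolynomial.C ϖ : MvPolynomial (Fin 2) V) ∣ r :=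
      (hprime.dvd_or_dvd ⟨p, hr.symm⟩).resolve_left hndvd
    obtain ⟨r', rfl⟩ := hdvd
    have hC0 : (MvPolynomial.C ϖ : MvPolynomial (Fin 2) V) ≠ 0 := by
      rw [Ne, MvPolynomial.C_eq_zero]
      exact hϖ.ne_zero
    have h3 : p = g * r' := by
      apply mul_left_cancel₀ hC0
      rw [hr]
      ring
    rw [h3, Ideal.Quotient.eq_zero_iff_mem, Ideal.mem_span_singleton]
    exact Dvd.intro _ rfl
  · -- deriv
    have hsurj : Function.Surjective (Ideal.Quotient.mkₐ V (Ideal.span {g})) :=
      Ideal.Quotient.mkₐ_surjective V _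
    have hd : ∀ p, Ideal.Quotient.mkₐ V (Ideal.span {g}) p = 0 →
        Ideal.Quotient.mkₐ V (Ideal.span {g})
          (MvPolynomial.mkDerivation V (![MvPolynomial.X 0, -MvPolynomial.X 1] :
            Fin 2 → MvPolynomial (Fin 2) V) p) = 0 := by
      intro p hp
      rw [Ideal.Quotient.mkₐ_eq_mk, Ideal.Quotient.eq_zero_iff_mem] at hp ⊢
      obtain ⟨r, rfl⟩ := Ideal.mem_span_singleton.mp hp
      rw [Derivation.leibniz, hg, theta0_gpoly, smul_zero, add_zero, smul_eq_mul, ← hg]
      exact Ideal.mul_mem_right _ _ (Ideal.mem_span_singleton_self g)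
    refine ⟨Derivation.liftOfSurjective hsurj hd, ?_, ?_⟩
    · have := Derivation.liftOfSurjective_apply hsurj hd (MvPolynomial.X 0)
      rw [MvPolynomial.mkDerivation_X] at this
      exact this
    · have := Derivation.liftOfSurjective_apply hsurj hd (MvPolynomial.X 1)
      rw [MvPolynomial.mkDerivation_X] at this
      simp only [Matrix.cons_val_one, Matrix.cons_val_zero, map_neg] at this
      exact this

end Concrete

end Groth.Agent.Lib.Helper86.Node
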