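import Mathlib
import Groth.Prelude.Def_FlatCA

set_option autoImplicit false
set_option linter.style.haveILetI false

open scoped TensorProduct

namespace Groth.Agent.Lib.Helper86.PureProj

universe u

attribute [local instance] Algebra.TensorProduct.rightAlgebra

variable {A' : Type u} (B' N' : Type u) [CommRing A'] [CommRing B'] [Algebra A' B'] [AddCommGroup N']
  [Module B' N'] [Module A' N'] [IsScalarTower A' B' N']
  (t' : Ideal A') [t'.IsPrime]

/-- The fibre module as a fibre of the `A'`-module. -/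
noncomputable def psi : (t'.Fiber B') ⊗[B'] N' ≃ₗ[t'.ResidueField] t'.ResidueField ⊗[A'] N' :=
  Algebra.IsPushout.cancelBaseChange A' t'.ResidueField B' (t'.Fiber B') N'

theorem psi_symm_tmul (k : t'.ResidueField) (y : N') :
    (psi B' N' t').symm (k ⊗ₜ[A'] y) =
      ((algebraMap t'.ResidueField (t'.Fiber B') k) ⊗ₜ[B'] y : (t'.Fiber B') ⊗[B'] N') :=
  Algebra.IsPushout.cancelBaseChange_symm_tmul A' t'.ResidueField B' (t'.Fiber B') N' k y

/-- Compatibility with the action of `B'`. -/
theorem psi_symm_lTensor (b : B') (w : t'.ResidueField ⊗[A'] N') :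
    (psi B' N' t').symm (LinearMap.lTensor t'.ResidueField
      ((Algebra.lsmul A' A' N' b : N' →ₗ[A'] N')) w) =
      (algebraMap B' (t'.Fiber B') b) • (psi B' N' t').symm w := by
  induction w with
  | zero => simp
  | add x y hx hy => rw [map_add, map_add, hx, hy, map_add, smul_add]
  | tmul k y =>
    rw [LinearMap.lTensor_tmul, psi_symm_tmul, psi_symm_tmul]
    change (algebraMap t'.ResidueField (t'.Fiber B') k) ⊗ₜ[B'] (b • y) = _
    rw [← TensorProduct.smul_tmul, TensorProduct.smul_tmul' (algebraMap B' (t'.Fiber B') b),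
      Algebra.smul_def b, smul_eq_mul]


/-- Cayley–Hamilton form of Nakayama. -/
theorem exists_smul_eq_zero {M : Type*} [AddCommGroup M] [Module A' M] (t : Ideal A') [ht : t.IsPrime]
    (𝔠 : Submodule A' M) (hfg : 𝔠.FG) (s : A') (hs : s ∉ t)
    (h : ∀ z ∈ 𝔠, s • z ∈ t • 𝔠) : ∃ d, d ∉ t ∧ ∀ z ∈ 𝔠, d • z = 0 := by
  haveI : Module.Finite A' 𝔠 := Module.Finite.iff_fg.2 hfg
  let f : Module.End A' 𝔠 := s • LinearMap.id
  have hI : LinearMap.range f ≤ t • (⊤ : Submodule A' 𝔠) := by
    rintro _ ⟨z, rfl⟩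
    have h1 : s • (z : M) ∈ t • 𝔠 := h z z.2
    have h2 : (t • (⊤ : Submodule A' 𝔠)).map 𝔠.subtype = t • 𝔠 := by
      rw [Submodule.map_smul'', Submodule.map_top, Submodule.range_subtype]
    rw [← h2] at h1
    obtain ⟨z', hz', hzz⟩ := h1
    have : z' = f z := by
      apply Subtype.ext
      rw [← Submodule.subtype_apply, hzz]
      rfl
    rw [← this]; exact hz'
  obtain ⟨p, hmon, -, hcoeff, hp⟩ :=
    LinearMap.exists_monic_and_natDegree_eq_and_coeff_mem_pow_and_aeval_eq_zero A' f t hI
  have hf : f = algebraMap A' (Module.End A' 𝔠) s := by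
    rw [Algebra.algebraMap_eq_smul_one]; rfl
  rw [hf, Polynomial.aeval_algebraMap_apply] at hp
  refine ⟨Polynomial.aeval s p, ?_, ?_⟩
  · rw [Polynomial.coe_aeval_eq_eval, Polynomial.eval_eq_sum_range, Finset.sum_range_succ,
      hmon.coeff_natDegree, one_mul]
    intro hmem
    have h3 : ∑ i ∈ Finset.range p.natDegree, p.coeff i * s ^ i ∈ t := by
      refine Ideal.sum_mem _ fun i hi => Ideal.mul_mem_right _ _ ?_
      have hlt : i < p.natDegree := Finset.mem_range.1 hi
      exact Ideal.pow_le_self (by omega) (hcoeff i)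
    have h4 : s ^ p.natDegree ∈ t := (Ideal.add_mem_iff_right _ h3).1 hmem
    exact hs (ht.mem_of_pow_mem _ h4)
  · intro z hz
    have := congrArg (fun g : Module.End A' 𝔠 => ((g ⟨z, hz⟩ : 𝔠) : M)) hp
    simpa [Module.algebraMap_end_apply] using this

section core

variable {B' N'} [Module.Projective A' N'] {t'}

theorem eq_zero_of_lTensor_eq_zero (t : Ideal A') [ht : t.IsPrime] (hle : t' ≤ t)
    (w : t'.ResidueField ⊗[A'] N') (s : A') (hs : s ∉ t) (β τ : B')
    (hτ : τ ∈ Ideal.map (algebraMap A' B') t) (hsβ : algebraMap A' B' s = β + τ)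
    (hβ : LinearMap.lTensor t'.ResidueField (Algebra.lsmul A' A' N' β : N' →ₗ[A'] N') w = 0) :
    w = 0 := by
  classical
  obtain ⟨i', hi'⟩ := Module.projective_def'.1 (inferInstance : Module.Projective A' N')
  let μ : B' → (N' →ₗ[A'] N') := fun b => (Algebra.lsmul A' A' N' b : N' →ₗ[A'] N')
  let L : B' → (t'.ResidueField ⊗[A'] N' →ₗ[A'] t'.ResidueField ⊗[A'] N') :=
    fun b => LinearMap.lTensor t'.ResidueField (μ b)
  let c : N' → (t'.ResidueField ⊗[A'] N' →ₗ[A'] t'.ResidueField) := fun x =>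
    (TensorProduct.rid A' t'.ResidueField).toLinearMap ∘ₗ
      LinearMap.lTensor t'.ResidueField ((Finsupp.lapply x) ∘ₗ i')
  have hc : ∀ x k y, c x (k ⊗ₜ[A'] y) = (i' y x) • k := by
    intro x k y
    simp [c]
  -- expansion
  have hE : ∀ w : t'.ResidueField ⊗[A'] N', ∃ X : Finset N', ∀ X' : Finset N', X ⊆ X' →
      w = ∑ x ∈ X', (c x w) ⊗ₜ[A'] x := by
    intro w
    induction w with
    | zero => exact ⟨∅, fun X' _ => by simp⟩
    | tmul k y =>
      refine ⟨(i' y).support, fun X' hX' => ?_⟩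
      have h1 : y = ∑ x ∈ X', (i' y x) • x := by
        have h2 := LinearMap.congr_fun hi' y
        simp only [LinearMap.comp_apply, LinearMap.id_apply] at h2
        rw [Finsupp.linearCombination_apply, Finsupp.sum_of_support_subset _ hX' _ (by simp)] at h2
        exact h2.symm
      conv_lhs => rw [h1]
      rw [TensorProduct.tmul_sum]
      refine Finset.sum_congr rfl fun x _ => ?_
      rw [hc, TensorProduct.smul_tmul]
    | add w1 w2 h1 h2 =>
      obtain ⟨X1, hX1⟩ := h1
      obtain ⟨X2, hX2⟩ := h2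
      refine ⟨X1 ∪ X2, fun X' hX' => ?_⟩
      have e1 := hX1 X' (Finset.union_subset_left hX')
      have e2 := hX2 X' (Finset.union_subset_right hX')
      conv_lhs => rw [e1, e2]
      rw [← Finset.sum_add_distrib]
      refine Finset.sum_congr rfl fun x _ => ?_
      rw [map_add, TensorProduct.add_tmul]
  obtain ⟨X, hX⟩ := hE w
  have hw := hX X (Finset.Subset.refl X)
  set 𝔠 : Submodule A' t'.ResidueField := Submodule.span A' ((fun x => c x w) '' (X : Set N'))
    with h𝔠
  have hmem : ∀ x ∈ X, c x w ∈ 𝔠 := fun x hx =>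
    Submodule.subset_span ⟨x, Finset.mem_coe.2 hx, rfl⟩
  -- step a
  have ha : ∀ (b' : B') (x : N'), c x (L b' w) ∈ 𝔠 := by
    intro b' x
    conv => enter [2, 2]; rw [hw]
    rw [map_sum, map_sum]
    refine Submodule.sum_mem _ fun x' hx' => ?_
    change c x (LinearMap.lTensor t'.ResidueField (μ b') ((c x' w) ⊗ₜ[A'] x')) ∈ 𝔠
    rw [LinearMap.lTensor_tmul, hc]
    exact Submodule.smul_mem _ _ (hmem x' hx')
  -- step b
  have hLmul : ∀ (b' : B') (a : A') (w' : t'.ResidueField ⊗[A'] N'),
      L (b' * algebraMap A' B' a) w' = a • L b' w' := by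
    intro b' a w'
    have : μ (b' * algebraMap A' B' a) = a • μ b' := by
      ext y
      simp only [μ, Algebra.lsmul_coe, LinearMap.smul_apply]
      rw [mul_smul, algebraMap_smul, smul_comm]
    change LinearMap.lTensor _ (μ (b' * algebraMap A' B' a)) w' = _
    rw [this, LinearMap.lTensor_smul, LinearMap.smul_apply]
  have hLadd : ∀ (b1 b2 : B') (w' : t'.ResidueField ⊗[A'] N'), L (b1 + b2) w' = L b1 w' + L b2 w' := by
    intro b1 b2 w'
    have : μ (b1 + b2) = μ b1 + μ b2 := by
      ext y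
      simp only [μ, Algebra.lsmul_coe, LinearMap.add_apply, add_smul]
    change LinearMap.lTensor _ (μ (b1 + b2)) w' = _
    rw [this, LinearMap.lTensor_add, LinearMap.add_apply]
  have hb : ∀ τ ∈ Ideal.map (algebraMap A' B') t, ∀ (b' : B') (x : N'),
      c x (L (b' * τ) w) ∈ t • 𝔠 := by
    intro τ hτ
    refine Submodule.span_induction (p := fun τ _ => ∀ (b' : B') (x : N'),
      c x (L (b' * τ) w) ∈ t • 𝔠) ?_ ?_ ?_ ?_ hτ
    · rintro _ ⟨a, ha', rfl⟩ b' x
      rw [hLmul, map_smul]
      exact Submodule.smul_mem_smul ha' (ha b' x)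
    · intro b' x
      have : L (b' * 0) w = 0 := by
        have := hLmul b' 0 w
        rw [map_zero, zero_smul] at this
        exact this
      rw [this, map_zero]; exact Submodule.zero_mem _
    · intro τ1 τ2 _ _ h1 h2 b' x
      rw [mul_add, hLadd, map_add]
      exact Submodule.add_mem _ (h1 b' x) (h2 b' x)
    · intro r τ1 _ h1 b' x
      rw [smul_eq_mul, ← mul_assoc]
      exact h1 (b' * r) x
  -- step c
  have hs𝔠 : ∀ z ∈ 𝔠, s • z ∈ t • 𝔠 := by
    intro z hz
    refine Submodule.span_induction (p := fun z _ => s • z ∈ t • 𝔠) ?_ ?_ ?_ ?_ hz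
    · rintro _ ⟨x, _, rfl⟩
      have h1 : s • w = L (algebraMap A' B' s) w := by
        have := hLmul 1 s w
        rw [one_mul] at this
        rw [this]
        have h2 : L 1 w = w := by
          have : μ 1 = LinearMap.id := by
            ext y; simp [μ]
          change LinearMap.lTensor _ (μ 1) w = w
          rw [this, LinearMap.lTensor_id, LinearMap.id_apply]
        rw [h2]
      rw [← map_smul, h1, hsβ, hLadd, map_add]
      have h3 : L β w = 0 := hβ
      rw [h3, map_zero, zero_add]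
      have := hb τ hτ 1 x
      rwa [one_mul] at this
    · rw [smul_zero]; exact Submodule.zero_mem _
    · intro z1 z2 _ _ h1 h2; rw [smul_add]; exact Submodule.add_mem _ h1 h2
    · intro r z1 _ h1; rw [smul_comm]; exact Submodule.smul_mem _ _ h1
  -- step d, e
  have hfg : 𝔠.FG := by
    rw [h𝔠]
    exact Submodule.fg_span ((X.finite_toSet).image _)
  obtain ⟨d, hd, hdz⟩ := exists_smul_eq_zero t 𝔠 hfg s hs hs𝔠
  have hd' : algebraMap A' t'.ResidueField d ≠ 0 := by
    rw [Ne, Ideal.algebraMap_residueField_eq_zero]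
    exact fun h => hd (hle h)
  have hz0 : ∀ z ∈ 𝔠, z = 0 := by
    intro z hz
    have := hdz z hz
    rw [Algebra.smul_def] at this
    exact (mul_eq_zero.1 this).resolve_left hd'
  rw [hw]
  refine Finset.sum_eq_zero fun x hx => ?_
  rw [hz0 _ (hmem x hx), TensorProduct.zero_tmul]

end core

end Groth.Agent.Lib.Helper86.PureProj
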