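import Mathlib
import Groth.Prelude.Def_FlatCA
import Groth.Agent.Lib.Helper86.PureProj1

set_option autoImplicit false
set_option linter.style.haveILetI false

open scoped TensorProduct

namespace Groth.Agent.Lib.Helper86.PureProj

universe u

attribute [local instance] Algebra.TensorProduct.rightAlgebra

theorem projective_of_pushout {A B N : Type u} [CommRing A] [CommRing B] [Algebra A B]
    [AddCommGroup N] [Module B N] [Module A N] [IsScalarTower A B N] [Module.Projective A N]
    {A' B' N' : Type u} [CommRing A'] [CommRing B'] [Algebra A A'] [Algebra B B'] [Algebra A' B']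
    [Algebra A B'] [IsScalarTower A B B'] [IsScalarTower A A' B'] [AddCommGroup N'] [Module B' N']
    [Module B N'] [IsScalarTower B B' N'] [Module A' N'] [IsScalarTower A' B' N']
    (hpush : Algebra.IsPushout A B A' B') (f : N →ₗ[B] N') (hbc : IsBaseChange B' f) :
    Module.Projective A' N' := by
  haveI : Algebra.IsPushout A A' B B' := hpush.symm
  let e2 : B' ⊗[B] N ≃ₗ[A'] A' ⊗[A] N := Algebra.IsPushout.cancelBaseChange A A' B B' N
  let e1 : B' ⊗[B] N ≃ₗ[B'] N' := hbc.equiv
  exact Module.Projective.of_equiv (e2.symm ≪≫ₗ e1.restrictScalars A')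

variable {A' B' N' : Type u} [CommRing A'] [CommRing B'] [Algebra A' B'] [AddCommGroup N']
  [Module B' N'] [Module A' N'] [IsScalarTower A' B' N'] [Module.Projective A' N']

theorem exists_prime_over (t' t : Ideal A') [ht' : t'.IsPrime] [ht : t.IsPrime] (hle : t' ≤ t)
    (P : Ideal B') [P.IsPrime]
    (hass : FlatCA.fiberIdeal t' P ∈ associatedPrimes (t'.Fiber B') (FlatCA.fiberMod t' B' N')) :
    ∃ P' : Ideal B', P'.IsPrime ∧ P ≤ P' ∧ P'.LiesOver t := by
  by_contra hno
  push Not at hno
  -- Step 1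
  have h1 : ∃ s, s ∉ t ∧ algebraMap A' B' s ∈ P ⊔ Ideal.map (algebraMap A' B') t := by
    by_contra h1
    push Not at h1
    have hdisj : Disjoint ((P ⊔ Ideal.map (algebraMap A' B') t : Ideal B') : Set B')
        ((Submonoid.map (algebraMap A' B') t.primeCompl : Submonoid B') : Set B') := by
      refine Set.disjoint_left.2 ?_
      rintro x hx ⟨s, hs, rfl⟩
      exact h1 s hs hx
    obtain ⟨P', hP', hJP', hdis⟩ := Ideal.exists_le_prime_disjoint _ _ hdisj
    refine hno P' hP' (le_sup_left.trans hJP') ⟨?_⟩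
    apply le_antisymm
    · exact Ideal.map_le_iff_le_comap.1 (le_sup_right.trans hJP')
    · intro a ha
      by_contra hat
      exact Set.disjoint_left.1 hdis ha ⟨a, hat, rfl⟩
  obtain ⟨s, hs, hsJ⟩ := h1
  obtain ⟨b, hb, τ, hτ, hbτ⟩ := Submodule.mem_sup.1 hsJ
  -- Step 3
  have hass' : (⊥ : Submodule (t'.Fiber B') (FlatCA.fiberMod t' B' N')).IsAssociatedPrime
      (FlatCA.fiberIdeal t' P) := hass
  obtain ⟨ν, hν⟩ := hass'.eq_radical_colon
  have hprime : (FlatCA.fiberIdeal t' P).IsPrime := hass'.toIsPrime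
  have hbmem : algebraMap B' (t'.Fiber B') b ∈ FlatCA.fiberIdeal t' P :=
    Ideal.mem_map_of_mem _ hb
  rw [hν] at hbmem
  obtain ⟨k, hk⟩ := hbmem
  rw [Submodule.mem_colon_singleton, Submodule.mem_bot] at hk
  -- Step 4
  let ν' : (t'.Fiber B') ⊗[B'] N' := ν
  have hk' : (algebraMap B' (t'.Fiber B') b) ^ k • ν' = 0 := hk
  set w := psi B' N' t' ν' with hw
  have hw0 : LinearMap.lTensor t'.ResidueField
      (Algebra.lsmul A' A' N' (b ^ k) : N' →ₗ[A'] N') w = 0 := by
    apply (psi B' N' t').symm.injective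
    rw [psi_symm_lTensor, map_zero, hw, LinearEquiv.symm_apply_apply, map_pow, hk']
  -- Step 5
  have hτ' : algebraMap A' B' (s ^ k) - b ^ k ∈ Ideal.map (algebraMap A' B') t := by
    rw [map_pow, ← hbτ]
    obtain ⟨u, hu⟩ := sub_dvd_pow_sub_pow (b + τ) b k
    rw [hu, add_sub_cancel_left]
    exact Ideal.mul_mem_right _ _ hτ
  have hsk : s ^ k ∉ t := fun h => hs (ht.mem_of_pow_mem _ h)
  have hw_zero : w = 0 :=
    eq_zero_of_lTensor_eq_zero t hle w (s ^ k) hsk (b ^ k) _ hτ' (by ring) hw0
  have hν0 : ν' = 0 := by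
    have := congrArg (psi B' N' t').symm hw_zero
    rwa [hw, LinearEquiv.symm_apply_apply, map_zero] at this
  have hν0' : ν = 0 := hν0
  rw [hν0'] at hν
  have htop : FlatCA.fiberIdeal t' P = ⊤ := by
    rw [hν, Ideal.radical_eq_top, Ideal.eq_top_iff_one, Submodule.mem_colon_singleton, smul_zero]
    exact Submodule.zero_mem _
  exact hprime.ne_top htop

end Groth.Agent.Lib.Helper86.PureProj
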