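import Groth.Agent.Lib.Helper86.CharPEtale3
import Groth.Agent.Lib.Helper86.RelNN1

/-!
# Simultaneous Nagata substitution on two fibres (helper86)
-/

set_option autoImplicit false
set_option linter.style.haveILetI false

universe u

namespace Groth.Agent.Lib.Helper86.RelNN

open MvPolynomial Groth.Agent.Lib.Helper86.CharPEtale
open scoped TensorProduct

section Explicit

variable {k : Type*} [Field k] {n : ℕ}

/-- The Nagata substitution lemma with explicit exponents. -/
theorem isIntegralElem_explicit (f : MvPolynomial (Fin (n + 1)) k) (hf : f ≠ 0) {C : Type*}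
    [CommRing C] [Algebra k C] (v : C) (y : Fin n → C)
    (h : MvPolynomial.aeval (Fin.cons v y : Fin (n + 1) → C) f = 0) :
    (MvPolynomial.aeval (R := k)
      (fun i => y i - v ^ ((2 + f.totalDegree) ^ (i.succ : Fin (n + 1)).1))).toRingHom.IsIntegralElem
      v := by
  set y' : Fin n → C := fun i => y i - v ^ ((2 + f.totalDegree) ^ (i.succ : Fin (n + 1)).1)
    with hy'
  have hu := NN.T_leadingcoeff_isUnit f hf
  let ev : MvPolynomial (Fin (n + 1)) k →ₐ[k] C :=
    (Polynomial.aevalTower (MvPolynomial.aeval (R := k) y') v).comp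
      (MvPolynomial.finSuccEquiv k n).toAlgHom
  have hev : ev.comp (NN.T f).toAlgHom =
      MvPolynomial.aeval (Fin.cons v y : Fin (n + 1) → C) := by
    apply MvPolynomial.algHom_ext
    intro j
    refine Fin.cases ?_ (fun i => ?_) j
    · simp [ev, MvPolynomial.finSuccEquiv_X_zero]
    · simp [ev, MvPolynomial.finSuccEquiv_X_zero, MvPolynomial.finSuccEquiv_X_succ, hy',
        Fin.succ_ne_zero]
  have h0 : Polynomial.eval₂ (MvPolynomial.aeval (R := k) y').toRingHom v
      (MvPolynomial.finSuccEquiv k n (NN.T f f)) = 0 := by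
    have := congrArg (fun g => g f) hev
    simp only [AlgHom.comp_apply] at this
    rw [h] at this
    simpa [ev, Polynomial.aevalTower] using this
  refine ⟨hu.unit⁻¹ • (MvPolynomial.finSuccEquiv k n (NN.T f f)),
    Polynomial.monic_of_isUnit_leadingCoeff_inv_smul hu, ?_⟩
  rw [Units.smul_def, Polynomial.eval₂_smul, h0, mul_zero]

end Explicit

section Step

variable {k : Type*} [Field k] {C : Type*} [CommRing C] [Algebra k C] {d : ℕ}

/-- one fibre: after the substitution `f i ↦ f i - (w ^ N) ^ r i`, `w` and everything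
that was integral stays integral -/
theorem step (f : Fin d → C) (w : C) (N : ℕ) (hN : 1 ≤ N) (r : Fin d → ℕ)
    (hint : (aeval (R := k) (fun i => f i - (w ^ N) ^ r i)).toRingHom.IsIntegralElem (w ^ N)) :
    (aeval (R := k) (fun i => f i - (w ^ N) ^ r i)).toRingHom.IsIntegralElem w ∧
    ∀ c, (aeval (R := k) f).toRingHom.IsIntegralElem c →
      (aeval (R := k) (fun i => f i - (w ^ N) ^ r i)).toRingHom.IsIntegralElem c := by
  letI : Algebra (MvPolynomial (Fin d) k) C :=
    (aeval (R := k) (fun i => f i - (w ^ N) ^ r i)).toRingHom.toAlgebra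
  have hwp : IsIntegral (MvPolynomial (Fin d) k) (w ^ N) := hint
  have hw' : IsIntegral (MvPolynomial (Fin d) k) w := IsIntegral.of_pow hN hwp
  have hyi : ∀ i, IsIntegral (MvPolynomial (Fin d) k) (f i) := by
    intro i
    have h1 : f i = (f i - (w ^ N) ^ r i) + (w ^ N) ^ r i := by ring
    rw [h1]
    refine IsIntegral.add ?_ (hwp.pow _)
    have h2 : f i - (w ^ N) ^ r i = algebraMap (MvPolynomial (Fin d) k) C (X i) := by
      show _ = aeval (R := k) (fun i => f i - (w ^ N) ^ r i) (X i)
      rw [aeval_X]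
    rw [h2]
    exact isIntegral_algebraMap
  exact ⟨hw', fun c hc => isIntegralElem_trans _ _ hyi c hc⟩

theorem exists_same_degree {k K : Type*} [Field k] [Field K] {n : ℕ}
    (F : MvPolynomial (Fin (n + 1)) k) (G : MvPolynomial (Fin (n + 1)) K) (hF : F ≠ 0)
    (hG : G ≠ 0) :
    (F * X 0 ^ G.totalDegree).totalDegree = (G * X 0 ^ F.totalDegree).totalDegree := by
  rw [totalDegree_mul_of_isDomain hF (pow_ne_zero _ (X_ne_zero 0)),
    totalDegree_mul_of_isDomain hG (pow_ne_zero _ (X_ne_zero 0)), totalDegree_X_pow,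
    totalDegree_X_pow, add_comm]

end Step

section Induction

variable {k K : Type*} [Field k] [Field K] {R : Type*} [CommRing R] {Ck CK : Type*}
  [CommRing Ck] [CommRing CK] [Algebra k Ck] [Algebra K CK]

theorem exists_pow_modification₂ (ιk : R →+* Ck) (ιK : R →+* CK) {d : ℕ}
    (depk : ∀ z : Fin (d + 1) → Ck, ∃ F : MvPolynomial (Fin (d + 1)) k, F ≠ 0 ∧ aeval z F = 0)
    (depK : ∀ z : Fin (d + 1) → CK, ∃ F : MvPolynomial (Fin (d + 1)) K, F ≠ 0 ∧ aeval z F = 0)
    (x : Fin d → R) (N : ℕ) (hN : 1 ≤ N) (s : Finset R) :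
    ∃ y : Fin d → R, (∀ i, y i ∈ Subring.closure (Set.range fun r : R => r ^ N)) ∧
      (∀ c ∈ (s : Set R),
        (aeval (R := k) (fun i => ιk (x i + y i))).toRingHom.IsIntegralElem (ιk c)) ∧
      (∀ c ∈ (s : Set R),
        (aeval (R := K) (fun i => ιK (x i + y i))).toRingHom.IsIntegralElem (ιK c)) := by
  classical
  induction s using Finset.induction_on with
  | empty =>
    refine ⟨fun _ => 0, fun i => Subring.zero_mem _, ?_, ?_⟩ <;>
    · intro c hc
      simp at hc
  | insert w s hw ih =>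
    obtain ⟨y, hy, hk, hK⟩ := ih
    obtain ⟨F, hF, hF0⟩ := depk (Fin.cons (ιk (w ^ N)) (fun i => ιk (x i + y i)))
    obtain ⟨G, hG, hG0⟩ := depK (Fin.cons (ιK (w ^ N)) (fun i => ιK (x i + y i)))
    have hdeg := exists_same_degree F G hF hG
    have hF' : F * X 0 ^ G.totalDegree ≠ 0 := mul_ne_zero hF (pow_ne_zero _ (X_ne_zero 0))
    have hG' : G * X 0 ^ F.totalDegree ≠ 0 := mul_ne_zero hG (pow_ne_zero _ (X_ne_zero 0))
    have hF'0 : aeval (Fin.cons (ιk (w ^ N)) (fun i => ιk (x i + y i)) : Fin (d + 1) → Ck)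
        (F * X 0 ^ G.totalDegree) = 0 := by rw [map_mul, hF0, zero_mul]
    have hG'0 : aeval (Fin.cons (ιK (w ^ N)) (fun i => ιK (x i + y i)) : Fin (d + 1) → CK)
        (G * X 0 ^ F.totalDegree) = 0 := by rw [map_mul, hG0, zero_mul]
    have h1 := isIntegralElem_explicit _ hF' _ _ hF'0
    have h2 := isIntegralElem_explicit _ hG' _ _ hG'0
    rw [← hdeg] at h2
    obtain ⟨r, hr⟩ : ∃ r : Fin d → ℕ, r = fun i : Fin d =>
      (2 + (F * X 0 ^ G.totalDegree).totalDegree) ^ (i.succ : Fin (d + 1)).1 := ⟨_, rfl⟩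
    have h1' : (aeval (R := k)
        (fun i => ιk (x i + y i) - (ιk w ^ N) ^ r i)).toRingHom.IsIntegralElem (ιk w ^ N) := by
      rw [hr, ← map_pow]; exact h1
    have h2' : (aeval (R := K)
        (fun i => ιK (x i + y i) - (ιK w ^ N) ^ r i)).toRingHom.IsIntegralElem (ιK w ^ N) := by
      rw [hr, ← map_pow]; exact h2
    obtain ⟨h1w, h1c⟩ := step _ _ N hN r h1'
    obtain ⟨h2w, h2c⟩ := step _ _ N hN r h2'
    have eqk : (fun i => ιk (x i + (y i - (w ^ r i) ^ N))) =
        fun i => ιk (x i + y i) - (ιk w ^ N) ^ r i := by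
      funext i
      rw [← map_pow, ← map_pow, ← map_sub]
      congr 1
      ring
    have eqK : (fun i => ιK (x i + (y i - (w ^ r i) ^ N))) =
        fun i => ιK (x i + y i) - (ιK w ^ N) ^ r i := by
      funext i
      rw [← map_pow, ← map_pow, ← map_sub]
      congr 1
      ring
    refine ⟨fun i => y i - (w ^ r i) ^ N, fun i => ?_, ?_, ?_⟩
    · exact Subring.sub_mem _ (hy i) (Subring.subset_closure ⟨w ^ r i, rfl⟩)
    · rw [eqk]
      intro c hc
      rw [Finset.coe_insert] at hc
      rcases hc with rfl | hc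
      · exact h1w
      · exact h1c _ (hk c hc)
    · rw [eqK]
      intro c hc
      rw [Finset.coe_insert] at hc
      rcases hc with rfl | hc
      · exact h2w
      · exact h2c _ (hK c hc)

end Induction

section Final

variable {V : Type*} [CommRing V] {F : Type*} [Field F] [Algebra V F] {R : Type*} [CommRing R]
  [Algebra V R] [Algebra.FiniteType V R] {d : ℕ}

theorem finite_of_generators (f : Fin d → R) (s : Finset R)
    (hs : Algebra.adjoin V (s : Set R) = ⊤)
    (hint : ∀ c ∈ (s : Set R),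
      (aeval (R := F) (fun i => (1 : F) ⊗ₜ[V] f i)).toRingHom.IsIntegralElem ((1 : F) ⊗ₜ[V] c)) :
    (aeval (R := F) (fun i => (1 : F) ⊗ₜ[V] f i) :
      MvPolynomial (Fin d) F →ₐ[F] F ⊗[V] R).toRingHom.Finite := by
  have hcomp : algebraMap F (F ⊗[V] R) =
      (aeval (R := F) (fun i => (1 : F) ⊗ₜ[V] f i)).toRingHom.comp
        (algebraMap F (MvPolynomial (Fin d) F)) := by
    ext a
    exact ((aeval (R := F) (fun i => (1 : F) ⊗ₜ[V] f i)).commutes a).symm
  have hft : (aeval (R := F) (fun i => (1 : F) ⊗ₜ[V] f i)).toRingHom.FiniteType :=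
    (hcomp ▸ RingHom.finiteType_algebraMap.mpr
      (inferInstance : Algebra.FiniteType F (F ⊗[V] R))).of_comp_finiteType
  refine RingHom.IsIntegral.to_finite ?_ hft
  letI : Algebra (MvPolynomial (Fin d) F) (F ⊗[V] R) :=
    (aeval (R := F) (fun i => (1 : F) ⊗ₜ[V] f i)).toRingHom.toAlgebra
  haveI : IsScalarTower F (MvPolynomial (Fin d) F) (F ⊗[V] R) :=
    IsScalarTower.of_algebraMap_eq (fun a =>
      ((aeval (R := F) (fun i => (1 : F) ⊗ₜ[V] f i)).commutes a).symm)
  have hF : ∀ a : F, IsIntegral (MvPolynomial (Fin d) F) (algebraMap F (F ⊗[V] R) a) := by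
    intro a
    rw [IsScalarTower.algebraMap_apply F (MvPolynomial (Fin d) F) (F ⊗[V] R)]
    exact isIntegral_algebraMap
  have h1 : ∀ r : R, IsIntegral (MvPolynomial (Fin d) F) ((1 : F) ⊗ₜ[V] r) := by
    intro r
    have hr : r ∈ Algebra.adjoin V (s : Set R) := hs ▸ Algebra.mem_top
    induction hr using Algebra.adjoin_induction with
    | mem c hc => exact hint c hc
    | algebraMap a =>
      have : (1 : F) ⊗ₜ[V] (algebraMap V R a) = algebraMap F (F ⊗[V] R) (algebraMap V F a) := by
        rw [Algebra.TensorProduct.algebraMap_apply]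
        show (1 : F) ⊗ₜ[V] (algebraMap V R a) = (algebraMap V F a) ⊗ₜ[V] (1 : R)
        rw [Algebra.algebraMap_eq_smul_one (R := V) (A := R) a,
          Algebra.algebraMap_eq_smul_one (R := V) (A := F) a, TensorProduct.smul_tmul]
      rw [this]
      exact hF _
    | add a b _ _ ha hb =>
      rw [TensorProduct.tmul_add]
      exact IsIntegral.add ha hb
    | mul a b _ _ ha hb =>
      have : (1 : F) ⊗ₜ[V] (a * b) = ((1 : F) ⊗ₜ[V] a) * ((1 : F) ⊗ₜ[V] b) := by
        rw [Algebra.TensorProduct.tmul_mul_tmul, one_mul]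
      rw [this]
      exact IsIntegral.mul ha hb
  intro t
  show IsIntegral (MvPolynomial (Fin d) F) t
  induction t using TensorProduct.induction_on with
  | zero => exact isIntegral_zero
  | tmul a r =>
    have : a ⊗ₜ[V] r = algebraMap F (F ⊗[V] R) a * ((1 : F) ⊗ₜ[V] r) := by
      rw [Algebra.TensorProduct.algebraMap_apply, Algebra.TensorProduct.tmul_mul_tmul, one_mul]
      simp
    rw [this]
    exact IsIntegral.mul (hF a) (h1 r)
  | add a b ha hb => exact IsIntegral.add ha hb

end Final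

end Groth.Agent.Lib.Helper86.RelNN
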