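import Mathlib.RingTheory.Derivation.Basic
import Mathlib.Algebra.TrivSqZeroExt.Basic
import Mathlib.RingTheory.Localization.Basic

/-!
# Extension of a derivation to a localization (helper86)

For `D : Derivation k A A` and a localization `K` of `A`, the derivation `extDer D : Derivation k K K`
with `extDer D (algebraMap A K a) = algebraMap A K (D a)`, constructed through the lift of
`a ↦ a + D a ε` to `K → K[ε]`.
-/

set_option autoImplicit false
set_option linter.style.haveILetI false

namespace Groth.Agent.Lib.Helper86.Seid

open TrivSqZeroExt

universe u v

variable {k : Type v} [CommRing k] {A : Type u} [CommRing A] [Algebra k A]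
  (M : Submonoid A) (K : Type u) [CommRing K] [Algebra A K] [IsLocalization M K]

/-- the ring hom `a ↦ a + D a ε` into `K[ε]` -/
noncomputable def toTsze (D : Derivation k A A) : A →+* TrivSqZeroExt K K where
  toFun a := inl (algebraMap A K a) + inr (algebraMap A K (D a))
  map_one' := by
    ext
    · simp
    · simp
  map_mul' a b := by
    ext
    · simp
    · simp only [Derivation.leibniz, smul_eq_mul, map_add, map_mul, snd_add, snd_inl, snd_inr,
        zero_add, snd_mul, fst_add, fst_inl, fst_inr, add_zero, MulOpposite.smul_eq_mul_unop,
        MulOpposite.unop_op]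
      ring
  map_zero' := by
    ext
    · simp
    · simp
  map_add' a b := by
    ext
    · simp
    · simp only [map_add, snd_add, snd_inl, snd_inr, zero_add]

@[simp] lemma fst_toTsze (D : Derivation k A A) (a : A) :
    (toTsze K D a).fst = algebraMap A K a := by
  simp [toTsze]

@[simp] lemma snd_toTsze (D : Derivation k A A) (a : A) :
    (toTsze K D a).snd = algebraMap A K (D a) := by
  simp [toTsze]

lemma isUnit_toTsze (D : Derivation k A A) (s : M) : IsUnit (toTsze K D (s : A)) := by
  rw [isUnit_iff_isUnit_fst, fst_toTsze]
  exact IsLocalization.map_units K s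

/-- the lift `K → K[ε]` -/
noncomputable def liftTsze (D : Derivation k A A) : K →+* TrivSqZeroExt K K :=
  IsLocalization.lift (M := M) (g := toTsze K D) (isUnit_toTsze M K D)

lemma liftTsze_algebraMap (D : Derivation k A A) (a : A) :
    liftTsze M K D (algebraMap A K a) = toTsze K D a :=
  IsLocalization.lift_eq _ a

lemma fst_liftTsze (D : Derivation k A A) (x : K) : (liftTsze M K D x).fst = x := by
  have h : (fstHom K K K : TrivSqZeroExt K K →+* K).comp (liftTsze M K D) = RingHom.id K := by
    apply IsLocalization.ringHom_ext M
    ext a
    simp [liftTsze_algebraMap]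
  exact congrArg (fun f : K →+* K => f x) h

variable [Algebra k K] [IsScalarTower k A K]

/-- the extension of `D` to the localization -/
noncomputable def extDer (D : Derivation k A A) : Derivation k K K :=
  Derivation.mk'
    { toFun := fun x => (liftTsze M K D x).snd
      map_add' := fun x y => by simp
      map_smul' := fun c x => by
        have hc : (liftTsze M K D (algebraMap k K c)).snd = 0 := by
          rw [IsScalarTower.algebraMap_apply k A K, liftTsze_algebraMap, snd_toTsze,
            Derivation.map_algebraMap, map_zero]
        show (liftTsze M K D (c • x)).snd = c • (liftTsze M K D x).snd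
        rw [Algebra.smul_def c x, map_mul, snd_mul, fst_liftTsze, fst_liftTsze, hc, smul_zero,
          add_zero, smul_eq_mul, Algebra.smul_def] }
    (fun x y => by
      show (liftTsze M K D (x * y)).snd = x • (liftTsze M K D y).snd + y • (liftTsze M K D x).snd
      rw [map_mul, snd_mul, fst_liftTsze, fst_liftTsze, MulOpposite.smul_eq_mul_unop,
        MulOpposite.unop_op, smul_eq_mul, smul_eq_mul, mul_comm (liftTsze M K D x).snd])

lemma extDer_apply (D : Derivation k A A) (x : K) :
    extDer M K D x = (liftTsze M K D x).snd := rfl

@[simp] lemma extDer_algebraMap (D : Derivation k A A) (a : A) :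
    extDer M K D (algebraMap A K a) = algebraMap A K (D a) := by
  rw [extDer_apply, liftTsze_algebraMap, snd_toTsze]

end Groth.Agent.Lib.Helper86.Seid
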