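import Mathlib.RingTheory.Derivation.Basic
import Mathlib.RingTheory.PowerSeries.Basic
import Mathlib.Data.Nat.Choose.Sum
import Mathlib.Algebra.Algebra.Rat
import Mathlib.Tactic

/-!
# The exponential of a derivation (helper86)

For a field `k` of characteristic zero, a commutative `k`-algebra `K` and `D : Derivation k K K`,
the ring homomorphism `expD D : K →+* K⟦X⟧`, `x ↦ ∑ Dⁿ(x)/n! Xⁿ`.
-/

set_option autoImplicit false
set_option linter.style.haveILetI false

namespace Groth.Agent.Lib.Helper86.Seid

open Finset Nat PowerSeries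

universe u v

variable {k : Type v} [Field k] [CharZero k] {K : Type u} [CommRing K] [Algebra k K]

/-- The general Leibniz rule for derivations. -/
theorem iterate_apply_mul (D : Derivation k K K) (n : ℕ) (a b : K) :
    D^[n] (a * b) = ∑ ij ∈ antidiagonal n, choose n ij.1 • (D^[ij.1] a * D^[ij.2] b) := by
  induction n with
  | zero => simp
  | succ n ih =>
    rw [sum_antidiagonal_choose_succ_nsmul (M := K) (fun i j => D^[i] a * D^[j] b) n]
    simp only [Function.iterate_succ_apply', ih, map_sum, map_nsmul, Derivation.leibniz, smul_add,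
      sum_add_distrib, smul_eq_mul]
    congr 1
    refine sum_congr rfl fun ⟨i, j⟩ hij ↦ ?_
    rw [n.choose_symm_of_eq_add (mem_antidiagonal.1 hij).symm, mul_comm (D^[j] b)]

theorem iterate_one (D : Derivation k K K) (n : ℕ) : D^[n + 1] (1 : K) = 0 := by
  induction n with
  | zero => simp
  | succ n ih => rw [Function.iterate_succ_apply', ih, map_zero]

/-- the coefficients `Dⁿ x / n!` -/
noncomputable def ecoeff (D : Derivation k K K) (n : ℕ) (x : K) : K :=
  ((n.factorial : k)⁻¹) • D^[n] x

theorem ecoeff_zero (D : Derivation k K K) (x : K) : ecoeff D 0 x = x := by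
  simp [ecoeff]

theorem ecoeff_one (D : Derivation k K K) (x : K) : ecoeff D 1 x = D x := by
  simp [ecoeff]

theorem ecoeff_mul (D : Derivation k K K) (n : ℕ) (a b : K) :
    ecoeff D n (a * b) = ∑ ij ∈ antidiagonal n, ecoeff D ij.1 a * ecoeff D ij.2 b := by
  unfold ecoeff
  rw [iterate_apply_mul, smul_sum]
  refine sum_congr rfl fun ⟨i, j⟩ hij ↦ ?_
  have hij' : i + j = n := mem_antidiagonal.1 hij
  simp only
  rw [smul_mul_smul_comm, ← Nat.cast_smul_eq_nsmul k, smul_smul]
  congr 1
  have h1 : ((n.factorial : ℕ) : k) = (n.choose i : k) * (i.factorial : k) * (j.factorial : k) := by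
    rw [← hij']
    have := (Nat.add_choose_mul_factorial_mul_factorial i j).symm
    rw [← Nat.choose_symm_add] at this
    exact_mod_cast this
  have hn : ((n.factorial : ℕ) : k) ≠ 0 := Nat.cast_ne_zero.mpr (Nat.factorial_ne_zero n)
  have hi : ((i.factorial : ℕ) : k) ≠ 0 := Nat.cast_ne_zero.mpr (Nat.factorial_ne_zero i)
  have hj : ((j.factorial : ℕ) : k) ≠ 0 := Nat.cast_ne_zero.mpr (Nat.factorial_ne_zero j)
  have hc : ((n.choose i : ℕ) : k) ≠ 0 := by
    intro h0
    rw [h0, zero_mul, zero_mul] at h1
    exact hn h1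
  rw [h1]
  field_simp

/-- `exp(XD)` as a ring homomorphism `K →+* K⟦X⟧` -/
noncomputable def expD (D : Derivation k K K) : K →+* K⟦X⟧ where
  toFun x := PowerSeries.mk fun n => ecoeff D n x
  map_one' := by
    ext n
    rw [coeff_mk, coeff_one]
    rcases n with _ | n
    · simp [ecoeff]
    · simp [ecoeff, iterate_one]
  map_mul' a b := by
    ext n
    rw [coeff_mk, coeff_mul, ecoeff_mul]
    simp only [coeff_mk]
  map_zero' := by
    ext n
    simp [ecoeff]
  map_add' a b := by
    ext n
    simp [ecoeff, iterate_map_add]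

@[simp] theorem coeff_expD (D : Derivation k K K) (n : ℕ) (x : K) :
    coeff n (expD D x) = ecoeff D n x := by
  simp [expD]

end Groth.Agent.Lib.Helper86.Seid
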