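import Mathlib
import Groth.Agent.Lib.Helper86.Seid1
import Groth.Agent.Lib.Helper86.Seid2

/-!
# Seidenberg: derivations preserve integral closure in characteristic zero (helper86)

`A` Noetherian `k`-algebra (`k` a field of characteristic zero), `K` a localization of `A`,
`DK : Derivation k K K` mapping (the image of) `A` into itself.  Then `DK` maps elements of `K`
integral over `A` to elements integral over `A`.
-/

set_option autoImplicit false
set_option linter.style.haveILetI false
set_option linter.unusedSectionVars false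

namespace Groth.Agent.Lib.Helper86.Seid

open Finset PowerSeries

universe u v

variable {k : Type v} [Field k] [CharZero k] {A : Type u} [CommRing A] [Algebra k A]
  (M : Submonoid A) {K : Type u} [CommRing K] [Algebra A K] [IsLocalization M K]
  [Algebra k K] [IsScalarTower k A K]

/-- a common denominator for all powers of an integral element -/
theorem exists_denom_pow {x : K} (hx : IsIntegral A x) :
    ∃ d : M, ∀ n : ℕ, ∃ a : A, algebraMap A K a = algebraMap A K (d : A) * x ^ n := by
  classical
  obtain ⟨s, hs⟩ := hx.fg_adjoin_singleton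
  obtain ⟨b, hb⟩ := IsLocalization.exist_integer_multiples_of_finset M s
  refine ⟨b, fun n => ?_⟩
  let N : Submodule A K :=
    (LinearMap.range (Algebra.linearMap A K)).comap ((b : A) • (LinearMap.id : K →ₗ[A] K))
  have hle : Submodule.span A (s : Set K) ≤ N := by
    rw [Submodule.span_le]
    intro y hy
    obtain ⟨a, ha⟩ := hb y hy
    exact ⟨a, ha⟩
  have hxn : x ^ n ∈ Submodule.span A (s : Set K) := by
    rw [hs]
    show x ^ n ∈ Algebra.adjoin A {x}
    exact pow_mem (Algebra.subset_adjoin (Set.mem_singleton x)) n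
  obtain ⟨a, ha⟩ := hle hxn
  refine ⟨a, ?_⟩
  rw [Algebra.linearMap_apply] at ha
  rw [ha, LinearMap.smul_apply, LinearMap.id_apply, Algebra.smul_def]

/-- an element all of whose powers have a common denominator is integral (Noetherian case) -/
theorem isIntegral_of_common_denom [IsNoetherianRing A] {y e : K} (he : IsUnit e)
    (h : ∀ n : ℕ, ∃ a : A, algebraMap A K a = e * y ^ n) : IsIntegral A y := by
  obtain ⟨u, rfl⟩ := he
  let N : Submodule A K := Submodule.span A {((u⁻¹ : Kˣ) : K)}
  have hN : IsNoetherian A N := isNoetherian_span_of_finite A (Set.finite_singleton _)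
  have hle : Subalgebra.toSubmodule (Algebra.adjoin A {y}) ≤ N := by
    rw [Algebra.adjoin_eq_span, Submodule.span_le]
    intro z hz
    obtain ⟨n, rfl⟩ := Submonoid.mem_closure_singleton.mp hz
    obtain ⟨a, ha⟩ := h n
    have : y ^ n = a • ((u⁻¹ : Kˣ) : K) := by
      rw [Algebra.smul_def, ha, mul_comm, ← mul_assoc, Units.inv_mul, one_mul]
    rw [SetLike.mem_coe, this]
    exact Submodule.smul_mem _ _ (Submodule.mem_span_singleton_self _)
  exact IsIntegral.of_mem_of_fg _ (isNoetherian_submodule.mp hN _ hle) y
    (Algebra.subset_adjoin rfl)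

variable (D : Derivation k A A) (DK : Derivation k K K)
  (hD : ∀ a : A, DK (algebraMap A K a) = algebraMap A K (D a))

include hD in
theorem iterate_algebraMap (n : ℕ) (a : A) :
    DK^[n] (algebraMap A K a) = algebraMap A K (D^[n] a) := by
  induction n with
  | zero => rfl
  | succ n ih => rw [Function.iterate_succ_apply', Function.iterate_succ_apply', ih, hD]

include hD in
theorem ecoeff_algebraMap (n : ℕ) (a : A) :
    ecoeff DK n (algebraMap A K a) = algebraMap A K (ecoeff D n a) := by
  unfold ecoeff
  rw [iterate_algebraMap D DK hD]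
  exact (map_smul (IsScalarTower.toAlgHom k A K) _ _).symm

/-- the subring of power series with coefficients in (the image of) `A` -/
noncomputable abbrev intSeries : Subring K⟦X⟧ := (PowerSeries.map (algebraMap A K)).range

include hD in
theorem expD_algebraMap_mem (a : A) :
    expD DK (algebraMap A K a) ∈ intSeries (A := A) (K := K) := by
  refine ⟨PowerSeries.mk fun n => ecoeff D n a, ?_⟩
  ext n
  rw [coeff_map, coeff_mk, coeff_expD, ecoeff_algebraMap D DK hD]

theorem C_algebraMap_mem (a : A) :
    (C (algebraMap A K a) : K⟦X⟧) ∈ intSeries (A := A) (K := K) :=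
  ⟨C a, by simp⟩

theorem coeff_mem_of_mem_intSeries {p : K⟦X⟧} (hp : p ∈ intSeries (A := A) (K := K)) (n : ℕ) :
    ∃ a : A, algebraMap A K a = coeff n p := by
  obtain ⟨q, rfl⟩ := hp
  exact ⟨coeff n q, by simp⟩

include hD in
/-- the key computation -/
theorem exists_sq_mul_pow {x : K} {d : A}
    (hd : ∀ n : ℕ, ∃ a : A, algebraMap A K a = algebraMap A K d * x ^ n) (n : ℕ) :
    ∃ a : A, algebraMap A K a = (algebraMap A K d * algebraMap A K d) * (DK x) ^ n := by
  set d' : K := algebraMap A K d with hd'
  set S : Subring K⟦X⟧ := intSeries (A := A) (K := K) with hS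
  let w : K⟦X⟧ := expD DK d' * C d'
  let z : K⟦X⟧ := expD DK x - C x
  -- `w * z ^ n ∈ S`
  have h1 : ∀ m : ℕ, expD DK d' * expD DK x ^ m ∈ S := by
    intro m
    obtain ⟨a, ha⟩ := hd m
    rw [← map_pow, ← map_mul, ← ha]
    exact expD_algebraMap_mem D DK hD a
  have h2 : ∀ m : ℕ, (C d' : K⟦X⟧) * (C x) ^ m ∈ S := by
    intro m
    obtain ⟨a, ha⟩ := hd m
    rw [← map_pow, ← map_mul, ← ha]
    exact C_algebraMap_mem a
  have hwz : w * z ^ n ∈ S := by
    have hz : z = expD DK x + -C x := sub_eq_add_neg _ _
    rw [hz, add_pow, Finset.mul_sum]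
    refine Subring.sum_mem _ fun m _ => ?_
    have : w * (expD DK x ^ m * (-C x) ^ (n - m) * (n.choose m : K⟦X⟧)) =
        (expD DK d' * expD DK x ^ m) * ((C d' : K⟦X⟧) * (C x) ^ (n - m)) *
          ((-1) ^ (n - m) * (n.choose m : K⟦X⟧)) := by
      rw [neg_pow (C x : K⟦X⟧)]
      simp only [w]
      ring
    rw [this]
    exact S.mul_mem (S.mul_mem (h1 m) (h2 (n - m)))
      (S.mul_mem (S.pow_mem (S.neg_mem S.one_mem) _) (natCast_mem S _))
  -- the coefficient of `X ^ n`
  have hz0 : constantCoeff z = 0 := by
    simp only [z, map_sub, ← coeff_zero_eq_constantCoeff_apply, coeff_expD, ecoeff_zero]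
    simp
  obtain ⟨u, hu⟩ := PowerSeries.X_dvd_iff.mpr hz0
  have hu0 : constantCoeff u = DK x := by
    have : coeff 1 z = coeff 0 u := by
      rw [hu]
      exact coeff_succ_X_mul 0 u
    rw [← coeff_zero_eq_constantCoeff_apply, ← this]
    simp only [z, map_sub, coeff_expD, ecoeff_one]
    simp
  have hw0 : constantCoeff w = d' * d' := by
    simp only [w, map_mul, ← coeff_zero_eq_constantCoeff_apply, coeff_expD, ecoeff_zero]
    simp
  have hcoeff : coeff n (w * z ^ n) = d' * d' * (DK x) ^ n := by
    have : w * z ^ n = X ^ n * (w * u ^ n) := by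
      rw [hu, mul_pow]
      ring
    rw [this]
    have h3 := coeff_X_pow_mul (w * u ^ n) n 0
    rw [zero_add] at h3
    rw [h3, coeff_zero_eq_constantCoeff_apply, map_mul, map_pow, hw0, hu0]
  obtain ⟨a, ha⟩ := coeff_mem_of_mem_intSeries hwz n
  exact ⟨a, by rw [ha, hcoeff]⟩

include M hD in
/-- **Seidenberg**: in characteristic zero a derivation preserves integrality. -/
theorem isIntegral_der [IsNoetherianRing A] {x : K} (hx : IsIntegral A x) : IsIntegral A (DK x) := by
  obtain ⟨d, hd⟩ := exists_denom_pow M hx
  refine isIntegral_of_common_denom (e := algebraMap A K (d : A) * algebraMap A K (d : A))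
    ((IsLocalization.map_units K d).mul (IsLocalization.map_units K d)) ?_
  intro n
  exact exists_sq_mul_pow D DK hD hd n

end Groth.Agent.Lib.Helper86.Seid
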