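import Groth.Agent.Lib.Helper86.StrongNoether

/-!
# Strong Noether normalization, part 2: the induction (helper86)
-/

set_option autoImplicit false

namespace Groth.Agent.Lib.Helper86.StrongNoether

open MvPolynomial

variable {k : Type*} [Field k]

/-- The substitution `X_0 ↦ f`, `X_{i+1} ↦ X_{i+1}`. -/
noncomputable def subst0 {m : ℕ} (f : MvPolynomial (Fin (m + 1)) k) :
    MvPolynomial (Fin (m + 1)) k →ₐ[k] MvPolynomial (Fin (m + 1)) k :=
  aeval (Fin.cases f (fun i => X i.succ))

lemma subst0_X_zero {m : ℕ} (f : MvPolynomial (Fin (m + 1)) k) : subst0 f (X 0) = f := by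
  simp [subst0]

lemma subst0_X_succ {m : ℕ} (f : MvPolynomial (Fin (m + 1)) k) (i : Fin m) :
    subst0 f (X i.succ) = X i.succ := by
  simp [subst0]

lemma finSuccEquiv_comp_subst0 {m : ℕ} (f : MvPolynomial (Fin (m + 1)) k) :
    ((finSuccEquiv k m : _ →ₐ[k] _).comp (subst0 f)) =
    ((Polynomial.aeval (finSuccEquiv k m f) : Polynomial (MvPolynomial (Fin m) k) →ₐ[
      MvPolynomial (Fin m) k] _).restrictScalars k).comp (finSuccEquiv k m : _ →ₐ[k] _) := by
  apply MvPolynomial.algHom_ext
  intro i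
  refine Fin.cases ?_ (fun j => ?_) i
  · simp [subst0_X_zero, finSuccEquiv_X_zero]
  · simp [subst0_X_succ, finSuccEquiv_X_succ]

lemma isIntegral_subst0 {m : ℕ} (f : MvPolynomial (Fin (m + 1)) k)
    (hu : IsUnit (finSuccEquiv k m f).leadingCoeff)
    (hd : 0 < (finSuccEquiv k m f).natDegree) : (subst0 f).toRingHom.IsIntegral := by
  have h1 := isIntegral_aeval_of_isUnit_leadingCoeff _ hu hd
  have key : (subst0 f).toRingHom = ((finSuccEquiv k m).symm : _ →+* _).comp
      (((Polynomial.aeval (finSuccEquiv k m f) : Polynomial (MvPolynomial (Fin m) k) →ₐ[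
      MvPolynomial (Fin m) k] _).toRingHom).comp ((finSuccEquiv k m) : _ →+* _)) := by
    refine RingHom.ext fun p => ?_
    have := DFunLike.congr_fun (finSuccEquiv_comp_subst0 f) p
    apply (finSuccEquiv k m).injective
    simpa using this
  rw [key]
  refine RingHom.IsIntegral.trans _ _ (RingHom.IsIntegral.trans _ _ ?_ h1) ?_
  · exact RingHom.isIntegral_of_surjective _ (finSuccEquiv k m).surjective
  · exact RingHom.isIntegral_of_surjective _ (finSuccEquiv k m).symm.surjective

/-- Extend `ψ' : k[Fin m] → k[Fin m]` to `k[Fin (m+1)]` fixing `X 0`. -/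
noncomputable def extend0 {m : ℕ} (ψ' : MvPolynomial (Fin m) k →ₐ[k] MvPolynomial (Fin m) k) :
    MvPolynomial (Fin (m + 1)) k →ₐ[k] MvPolynomial (Fin (m + 1)) k :=
  aeval (Fin.cases (X 0) (fun i => rename Fin.succ (ψ' (X i))))

lemma extend0_X_zero {m : ℕ} (ψ' : MvPolynomial (Fin m) k →ₐ[k] MvPolynomial (Fin m) k) :
    extend0 ψ' (X 0) = X 0 := by
  simp [extend0]

lemma extend0_X_succ {m : ℕ} (ψ' : MvPolynomial (Fin m) k →ₐ[k] MvPolynomial (Fin m) k)
    (i : Fin m) : extend0 ψ' (X i.succ) = rename Fin.succ (ψ' (X i)) := by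
  simp [extend0]

lemma extend0_comp_rename {m : ℕ} (ψ' : MvPolynomial (Fin m) k →ₐ[k] MvPolynomial (Fin m) k) :
    (extend0 ψ').comp (rename Fin.succ) = (rename Fin.succ).comp ψ' := by
  apply MvPolynomial.algHom_ext
  intro i
  simp [extend0_X_succ]

lemma extend0_rename_succ {m : ℕ} (ψ' : MvPolynomial (Fin m) k →ₐ[k] MvPolynomial (Fin m) k)
    (p : MvPolynomial (Fin m) k) :
    extend0 ψ' (rename Fin.succ p) = rename Fin.succ (ψ' p) :=
  DFunLike.congr_fun (extend0_comp_rename ψ') p

lemma isIntegral_extend0 {m : ℕ} (ψ' : MvPolynomial (Fin m) k →ₐ[k] MvPolynomial (Fin m) k)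
    (h : ψ'.toRingHom.IsIntegral) : (extend0 ψ').toRingHom.IsIntegral := by
  intro p
  induction p using MvPolynomial.induction_on with
  | C a =>
    have : (extend0 ψ').toRingHom (C a) = C a := by simp
    rw [← this]; exact RingHom.isIntegralElem_map _
  | add p q hp hq => exact hp.add _ hq
  | mul_X p i hp =>
    refine hp.mul _ ?_
    refine Fin.cases ?_ (fun j => ?_) i
    · have : (extend0 ψ').toRingHom (X 0) = X 0 := extend0_X_zero ψ'
      rw [← this]; exact RingHom.isIntegralElem_map _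
    · obtain ⟨h', hm, he⟩ := h (X j)
      refine ⟨h'.map (rename Fin.succ : MvPolynomial (Fin m) k →ₐ[k] _).toRingHom, hm.map _, ?_⟩
      rw [Polynomial.eval₂_map]
      have hc : (extend0 ψ').toRingHom.comp
          (rename Fin.succ : MvPolynomial (Fin m) k →ₐ[k] _).toRingHom =
          (rename Fin.succ : MvPolynomial (Fin m) k →ₐ[k] _).toRingHom.comp ψ'.toRingHom := by
        refine RingHom.ext fun p => ?_
        exact extend0_rename_succ ψ' p
      have hX : (X j.succ : MvPolynomial (Fin (m + 1)) k) =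
          (rename Fin.succ : MvPolynomial (Fin m) k →ₐ[k] _).toRingHom (X j) := by simp
      rw [hc, hX, ← Polynomial.hom_eval₂, he, map_zero]

lemma exists_eq_X_zero_mul_add {m : ℕ} (p : MvPolynomial (Fin (m + 1)) k) :
    ∃ a b, p = X 0 * a + rename Fin.succ b := by
  induction p using MvPolynomial.induction_on with
  | C c => exact ⟨0, C c, by simp⟩
  | add p q hp hq =>
    obtain ⟨a, b, rfl⟩ := hp
    obtain ⟨a', b', rfl⟩ := hq
    exact ⟨a + a', b + b', by simp only [map_add]; ring⟩
  | mul_X p i hp =>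
    obtain ⟨a, b, rfl⟩ := hp
    refine Fin.cases ?_ (fun j => ?_) i
    · exact ⟨X 0 * a + rename Fin.succ b, 0, by simp only [map_zero]; ring⟩
    · exact ⟨a * X j.succ, b * X j, by simp only [map_mul, rename_X]; ring⟩


/-- Strong Noether normalization, first form: the preimage of a prime under a suitable
integral endomorphism of `k[X_0..X_{n-1}]` is `(X_0, …, X_{t-1})`. -/
theorem exists_isIntegral_comap_eq_span (n : ℕ) (q : Ideal (MvPolynomial (Fin n) k))
    (hq : q.IsPrime) :
    ∃ t ≤ n, ∃ φ : MvPolynomial (Fin n) k →ₐ[k] MvPolynomial (Fin n) k,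
      φ.toRingHom.IsIntegral ∧
      q.comap φ = Ideal.span (X '' {i : Fin n | (i : ℕ) < t}) := by
  have hbot : ∀ (n : ℕ) (q : Ideal (MvPolynomial (Fin n) k)), q = ⊥ →
      ∃ t ≤ n, ∃ φ : MvPolynomial (Fin n) k →ₐ[k] MvPolynomial (Fin n) k,
      φ.toRingHom.IsIntegral ∧
      q.comap φ = Ideal.span (X '' {i : Fin n | (i : ℕ) < t}) := by
    intro n q h
    refine ⟨0, Nat.zero_le _, AlgHom.id k _, RingHom.isIntegral_of_surjective _
      (fun x => ⟨x, rfl⟩), ?_⟩
    subst h
    have : {i : Fin n | (i : ℕ) < 0} = ∅ := by ext i; simp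
    rw [this, Set.image_empty, Ideal.span_empty]
    ext p
    simp [Ideal.mem_comap]
  induction n with
  | zero =>
    apply hbot
    rw [eq_bot_iff]
    intro f hf
    by_contra hne
    have hne' : f ≠ 0 := hne
    have eq := eq_C_of_isEmpty f
    have hc : coeff 0 f ≠ 0 := fun h => hne' (by rw [eq, h, map_zero])
    apply hq.ne_top
    rw [Ideal.eq_top_iff_one]
    have : (C (coeff 0 f)⁻¹ : MvPolynomial (Fin 0) k) * f = 1 := by
      rw [eq, ← map_mul]
      simp [hc]
    rw [← this]
    exact q.mul_mem_left _ hf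
  | succ m ih =>
    by_cases hb : q = ⊥
    · exact hbot _ q hb
    obtain ⟨f, hfq, hf0⟩ := Submodule.exists_mem_ne_zero_of_ne_bot hb
    -- make `f` monic in `X 0`
    obtain ⟨Te, hTe⟩ : ∃ Te : MvPolynomial (Fin (m + 1)) k ≃ₐ[k] MvPolynomial (Fin (m + 1)) k,
        Te = T f := ⟨_, rfl⟩
    have hu : IsUnit (finSuccEquiv k m (Te f)).leadingCoeff := by
      rw [hTe]; exact T_leadingcoeff_isUnit f hf0
    obtain ⟨g, hg⟩ : ∃ g, g = Te f := ⟨_, rfl⟩
    rw [← hg] at hu
    obtain ⟨q', hq'⟩ : ∃ q' : Ideal (MvPolynomial (Fin (m + 1)) k),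
        q' = q.comap (Te.symm : MvPolynomial (Fin (m + 1)) k →ₐ[k] MvPolynomial (Fin (m + 1)) k) := ⟨_, rfl⟩
    have hq'p : q'.IsPrime := by rw [hq']; exact Ideal.comap_isPrime _ _
    have hgq' : g ∈ q' := by
      rw [hq', Ideal.mem_comap, hg]
      simpa using hfq
    have hd : 0 < (finSuccEquiv k m g).natDegree := by
      by_contra h0
      have h0' : (finSuccEquiv k m g).natDegree = 0 := by omega
      have h1 : finSuccEquiv k m g = Polynomial.C (finSuccEquiv k m g).leadingCoeff := by
        rw [Polynomial.leadingCoeff, h0']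
        exact Polynomial.eq_C_of_natDegree_eq_zero h0'
      have h2 : IsUnit (finSuccEquiv k m g) := by
        rw [h1]; exact hu.map _
      have h3 : IsUnit g := by
        have := h2.map (finSuccEquiv k m).symm
        simpa using this
      exact hq'p.ne_top (Ideal.eq_top_of_isUnit_mem _ hgq' h3)
    have hθ := isIntegral_subst0 g hu hd
    obtain ⟨q₁, hq₁⟩ : ∃ q₁ : Ideal (MvPolynomial (Fin (m + 1)) k),
        q₁ = q'.comap (subst0 g) := ⟨_, rfl⟩
    have hq₁p : q₁.IsPrime := by rw [hq₁]; exact Ideal.comap_isPrime _ _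
    have hX0 : (X 0 : MvPolynomial (Fin (m + 1)) k) ∈ q₁ := by
      rw [hq₁, Ideal.mem_comap, subst0_X_zero]; exact hgq'
    obtain ⟨q₂, hq₂⟩ : ∃ q₂ : Ideal (MvPolynomial (Fin m) k),
        q₂ = q₁.comap (rename Fin.succ : MvPolynomial (Fin m) k →ₐ[k] _) := ⟨_, rfl⟩
    have hq₂p : q₂.IsPrime := by rw [hq₂]; exact Ideal.comap_isPrime _ _
    obtain ⟨t', ht', ψ', hψ', hcomap⟩ := ih q₂ hq₂p
    refine ⟨t' + 1, by omega,
      (Te.symm : MvPolynomial (Fin (m + 1)) k →ₐ[k] MvPolynomial (Fin (m + 1)) k).comp ((subst0 g).comp (extend0 ψ')),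
      ?_, ?_⟩
    · have : ((Te.symm : MvPolynomial (Fin (m + 1)) k →ₐ[k] MvPolynomial (Fin (m + 1)) k).comp
          ((subst0 g).comp (extend0 ψ'))).toRingHom =
          ((Te.symm : MvPolynomial (Fin (m + 1)) k →ₐ[k] MvPolynomial (Fin (m + 1)) k).toRingHom).comp
            ((subst0 g).toRingHom.comp (extend0 ψ').toRingHom) := rfl
      rw [this]
      refine RingHom.IsIntegral.trans _ _ (RingHom.IsIntegral.trans _ _
        (isIntegral_extend0 ψ' hψ') hθ) ?_
      exact RingHom.isIntegral_of_surjective _ Te.symm.surjective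
    · have hstep : q.comap ((Te.symm : MvPolynomial (Fin (m + 1)) k →ₐ[k] MvPolynomial (Fin (m + 1)) k).comp
          ((subst0 g).comp (extend0 ψ'))) = q₁.comap (extend0 ψ') := by
        rw [hq₁, hq']
        ext p
        simp [Ideal.mem_comap]
      rw [hstep]
      apply le_antisymm
      · intro p hp
        rw [Ideal.mem_comap] at hp
        obtain ⟨a, b, rfl⟩ := exists_eq_X_zero_mul_add p
        have hX0span : (X 0 : MvPolynomial (Fin (m + 1)) k) ∈
            Ideal.span (X '' {i : Fin (m + 1) | (i : ℕ) < t' + 1}) :=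
          Ideal.subset_span ⟨0, by simp, rfl⟩
        refine Ideal.add_mem _ (Ideal.mul_mem_right _ _ hX0span) ?_
        rw [map_add, map_mul, extend0_X_zero, extend0_rename_succ] at hp
        have hb : rename Fin.succ (ψ' b) ∈ q₁ :=
          (Ideal.add_mem_iff_right _ (Ideal.mul_mem_right _ _ hX0)).mp hp
        have hb' : b ∈ q₂.comap ψ' := by
          rw [Ideal.mem_comap, hq₂, Ideal.mem_comap]; exact hb
        rw [hcomap] at hb'
        have := Ideal.mem_map_of_mem
          (rename Fin.succ : MvPolynomial (Fin m) k →ₐ[k] MvPolynomial (Fin (m + 1)) k) hb'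
        rw [Ideal.map_span] at this
        refine Ideal.span_mono ?_ this
        rintro _ ⟨_, ⟨i, hi, rfl⟩, rfl⟩
        refine ⟨i.succ, ?_, by simp⟩
        simp only [Set.mem_ofPred_eq, Fin.val_succ] at hi ⊢
        omega
      · rw [Ideal.span_le]
        rintro _ ⟨i, hi, rfl⟩
        rw [SetLike.mem_coe, Ideal.mem_comap]
        revert hi
        refine Fin.cases ?_ (fun j => ?_) i
        · intro _
          rw [extend0_X_zero]; exact hX0
        · intro hj
          rw [extend0_X_succ]
          have hj' : (X j : MvPolynomial (Fin m) k) ∈ q₂.comap ψ' := by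
            rw [hcomap]
            refine Ideal.subset_span ⟨j, ?_, rfl⟩
            simp only [Set.mem_ofPred_eq, Fin.val_succ] at hj ⊢
            omega
          rw [Ideal.mem_comap, hq₂, Ideal.mem_comap] at hj'
          exact hj'

end Groth.Agent.Lib.Helper86.StrongNoether
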