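import Groth.Agent.Lib.Helper86.StrongNoether2

/-!
# Strong Noether normalization, part 3: the transcendence degree and the final form (helper86)
-/

set_option autoImplicit false

namespace Groth.Agent.Lib.Helper86.StrongNoether

open MvPolynomial

variable {k : Type*} [Field k]

lemma card_subtype_le (n t : ℕ) : Fintype.card {i : Fin n // t ≤ (i : ℕ)} = n - t := by
  rw [Fintype.card_subtype]
  have : (Finset.univ.filter (fun i : Fin n => t ≤ (i : ℕ))).map Fin.valEmbedding =
      Finset.Ico t n := by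
    ext x
    simp only [Finset.mem_map, Finset.mem_filter, Finset.mem_univ, true_and,
      Fin.valEmbedding_apply, Finset.mem_Ico]
    constructor
    · rintro ⟨a, h, rfl⟩; exact ⟨h, a.isLt⟩
    · rintro ⟨h1, h2⟩; exact ⟨⟨x, h2⟩, h1, rfl⟩
  rw [← Finset.card_map Fin.valEmbedding, this, Nat.card_Ico]

section retr

variable (n t : ℕ)

/-- The retraction `k[X_0..X_{n-1}] → k[X_i : t ≤ i]` killing `X_i`, `i < t`. -/
noncomputable def retr : MvPolynomial (Fin n) k →ₐ[k]
    MvPolynomial {i : Fin n // t ≤ (i : ℕ)} k :=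
  aeval (fun i => if h : t ≤ (i : ℕ) then X ⟨i, h⟩ else 0)

/-- The inclusion `k[X_i : t ≤ i] → k[X_0..X_{n-1}]`. -/
noncomputable def incl : MvPolynomial {i : Fin n // t ≤ (i : ℕ)} k →ₐ[k]
    MvPolynomial (Fin n) k :=
  rename Subtype.val

lemma retr_incl (s : MvPolynomial {i : Fin n // t ≤ (i : ℕ)} k) :
    retr n t (incl n t s) = s := by
  have : (retr (k := k) n t).comp (incl n t) = AlgHom.id k _ := by
    apply MvPolynomial.algHom_ext
    intro i
    simp [retr, incl, i.2]
  exact DFunLike.congr_fun this s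

lemma retr_eq_zero_of_mem {p : MvPolynomial (Fin n) k}
    (hp : p ∈ Ideal.span (X '' {i : Fin n | (i : ℕ) < t} : Set (MvPolynomial (Fin n) k))) :
    retr n t p = 0 := by
  have : Ideal.span (X '' {i : Fin n | (i : ℕ) < t} : Set (MvPolynomial (Fin n) k)) ≤
      RingHom.ker (retr (k := k) n t) := by
    rw [Ideal.span_le]
    rintro _ ⟨i, hi, rfl⟩
    simp only [Set.mem_ofPred_eq] at hi
    simp [retr, RingHom.mem_ker, not_le.mpr hi]
  exact this hp

lemma sub_incl_retr_mem (p : MvPolynomial (Fin n) k) :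
    p - incl n t (retr n t p) ∈
      Ideal.span (X '' {i : Fin n | (i : ℕ) < t} : Set (MvPolynomial (Fin n) k)) := by
  induction p using MvPolynomial.induction_on with
  | C c => simp [retr, incl]
  | add p q hp hq =>
    have : p + q - incl n t (retr n t (p + q)) =
        (p - incl n t (retr n t p)) + (q - incl n t (retr n t q)) := by
      simp only [map_add]; ring
    rw [this]; exact Ideal.add_mem _ hp hq
  | mul_X p i hp =>
    have : p * X i - incl n t (retr n t (p * X i)) =
        (p - incl n t (retr n t p)) * X i +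
          incl n t (retr n t p) * (X i - incl n t (retr n t (X i))) := by
      simp only [map_mul]; ring
    rw [this]
    refine Ideal.add_mem _ (Ideal.mul_mem_right _ _ hp) (Ideal.mul_mem_left _ _ ?_)
    by_cases h : t ≤ (i : ℕ)
    · simp [retr, incl, h]
    · have : retr (k := k) n t (X i) = 0 := by simp [retr, h]
      rw [this, map_zero, sub_zero]
      exact Ideal.subset_span ⟨i, by simpa using h, rfl⟩

end retr


theorem trdeg_residueField_of_comap_eq_span {n t : ℕ}
    (q : Ideal (MvPolynomial (Fin n) k)) [q.IsPrime]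
    (φ : MvPolynomial (Fin n) k →ₐ[k] MvPolynomial (Fin n) k) (hφ : φ.toRingHom.IsIntegral)
    (hc : q.comap φ = Ideal.span (X '' {i : Fin n | (i : ℕ) < t})) :
    Algebra.trdeg k q.ResidueField = ((n - t : ℕ) : Cardinal) := by
  obtain ⟨ρ₀, hρ₀⟩ : ∃ ρ₀ : MvPolynomial {i : Fin n // t ≤ (i : ℕ)} k →ₐ[k]
      (MvPolynomial (Fin n) k ⧸ q), ρ₀ = (Ideal.Quotient.mkₐ k q).comp (φ.comp (incl n t)) :=
    ⟨_, rfl⟩
  have hρ₀_apply : ∀ s, ρ₀ s = Ideal.Quotient.mk q (φ (incl n t s)) := by
    intro s; rw [hρ₀]; rfl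
  have hinj : Function.Injective ρ₀ := by
    rw [injective_iff_map_eq_zero]
    intro s hs
    rw [hρ₀_apply, Ideal.Quotient.eq_zero_iff_mem] at hs
    have h1 : incl n t s ∈ q.comap φ := hs
    rw [hc] at h1
    have h2 := retr_eq_zero_of_mem n t h1
    rwa [retr_incl] at h2
  have hcomp : ρ₀.toRingHom.comp (retr (k := k) n t).toRingHom =
      (Ideal.Quotient.mk q).comp φ.toRingHom := by
    refine RingHom.ext fun p => ?_
    change ρ₀ (retr n t p) = Ideal.Quotient.mk q (φ p)
    rw [hρ₀_apply, eq_comm, Ideal.Quotient.eq, ← map_sub]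
    have : p - incl n t (retr n t p) ∈ q.comap φ := by
      rw [hc]; exact sub_incl_retr_mem n t p
    exact this
  have hint : ρ₀.toRingHom.IsIntegral := by
    intro y
    obtain ⟨x, rfl⟩ := Ideal.Quotient.mk_surjective y
    obtain ⟨h, hm, he⟩ := hφ x
    refine ⟨h.map (retr (k := k) n t).toRingHom, hm.map _, ?_⟩
    rw [Polynomial.eval₂_map, hcomp]
    have := Polynomial.hom_eval₂ h φ.toRingHom (Ideal.Quotient.mk q) x
    rw [← this, he, map_zero]
  let _ : Algebra (MvPolynomial {i : Fin n // t ≤ (i : ℕ)} k) (MvPolynomial (Fin n) k ⧸ q) :=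
    ρ₀.toRingHom.toAlgebra
  let _ : Algebra (MvPolynomial {i : Fin n // t ≤ (i : ℕ)} k) q.ResidueField :=
    ((algebraMap (MvPolynomial (Fin n) k ⧸ q) q.ResidueField).comp ρ₀.toRingHom).toAlgebra
  have : IsScalarTower (MvPolynomial {i : Fin n // t ≤ (i : ℕ)} k)
      (MvPolynomial (Fin n) k ⧸ q) q.ResidueField := .of_algebraMap_eq' rfl
  have : IsScalarTower k (MvPolynomial {i : Fin n // t ≤ (i : ℕ)} k) q.ResidueField := by
    refine .of_algebraMap_eq' ?_
    refine RingHom.ext fun c => ?_
    change algebraMap k q.ResidueField c =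
      algebraMap (MvPolynomial (Fin n) k ⧸ q) q.ResidueField (ρ₀ (algebraMap k _ c))
    rw [ρ₀.commutes, ← IsScalarTower.algebraMap_apply]
  have : Algebra.IsIntegral (MvPolynomial {i : Fin n // t ≤ (i : ℕ)} k)
      (MvPolynomial (Fin n) k ⧸ q) := ⟨hint⟩
  have : Algebra.IsAlgebraic (MvPolynomial {i : Fin n // t ≤ (i : ℕ)} k) q.ResidueField :=
    Algebra.IsIntegral.trans_isAlgebraic _ (MvPolynomial (Fin n) k ⧸ q) _
  have : FaithfulSMul (MvPolynomial {i : Fin n // t ≤ (i : ℕ)} k) q.ResidueField := by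
    rw [faithfulSMul_iff_algebraMap_injective]
    exact (Ideal.injective_algebraMap_quotient_residueField (I := q)).comp hinj
  have key := trdeg_add_eq k (MvPolynomial {i : Fin n // t ≤ (i : ℕ)} k)
    (A := q.ResidueField)
  rw [trdeg_eq_zero (R := MvPolynomial {i : Fin n // t ≤ (i : ℕ)} k) (A := q.ResidueField), add_zero, MvPolynomial.trdeg_of_isDomain] at key
  rw [← key, Cardinal.mk_fintype, card_subtype_le]
  simp


lemma finite_of_isIntegral {n : ℕ}
    (φ : MvPolynomial (Fin n) k →ₐ[k] MvPolynomial (Fin n) k) (hφ : φ.toRingHom.IsIntegral) :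
    φ.toRingHom.Finite := by
  have h : algebraMap k (MvPolynomial (Fin n) k) =
      φ.toRingHom.comp (algebraMap k (MvPolynomial (Fin n) k)) := by
    refine RingHom.ext fun c => ?_
    exact (φ.commutes c).symm
  have hft : (algebraMap k (MvPolynomial (Fin n) k)).FiniteType :=
    RingHom.finiteType_algebraMap.mpr inferInstance
  exact hφ.to_finite (h ▸ hft).of_comp_finiteType

/-- **Strong Noether normalization** for a prime of a polynomial ring. -/
theorem strong_noether_normalization (n r : ℕ) (q : Ideal (MvPolynomial (Fin n) k))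
    [q.IsPrime] (hr : Algebra.trdeg k q.ResidueField = r) :
    ∃ φ : MvPolynomial (Fin n) k →ₐ[k] MvPolynomial (Fin n) k, φ.toRingHom.Finite ∧
      q.comap φ = Ideal.span (Set.range fun i : {i : Fin n // r ≤ (i : ℕ)} =>
        (X (i : Fin n) : MvPolynomial (Fin n) k)) := by
  obtain ⟨t, ht, φ, hφ, hc⟩ := exists_isIntegral_comap_eq_span n q inferInstance
  have htr := trdeg_residueField_of_comap_eq_span q φ hφ hc
  rw [hr] at htr
  have hrt : r = n - t := by exact_mod_cast htr
  obtain ⟨ν, hν⟩ : ∃ ν : MvPolynomial (Fin n) k →ₐ[k] MvPolynomial (Fin n) k,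
      ν = rename Fin.rev := ⟨_, rfl⟩
  have hνν : ∀ p, ν (ν p) = p := by
    intro p
    rw [hν, rename_rename]
    have : (Fin.rev ∘ Fin.rev : Fin n → Fin n) = id := by ext i; simp
    rw [this, rename_id_apply]
  have hνX : ∀ i, ν (X i) = X (Fin.rev i) := by intro i; rw [hν, rename_X]
  refine ⟨φ.comp ν, ?_, ?_⟩
  · apply finite_of_isIntegral
    have : (φ.comp ν).toRingHom = φ.toRingHom.comp ν.toRingHom := rfl
    rw [this]
    refine RingHom.IsIntegral.trans _ _ ?_ hφ
    exact RingHom.isIntegral_of_surjective _ (fun p => ⟨ν p, hνν p⟩)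
  · have hstep : q.comap (φ.comp ν) = (q.comap φ).comap ν := by
      ext p; simp [Ideal.mem_comap]
    rw [hstep, hc]
    apply le_antisymm
    · intro p hp
      rw [Ideal.mem_comap] at hp
      have := Ideal.mem_map_of_mem ν hp
      rw [hνν, Ideal.map_span] at this
      refine Ideal.span_mono ?_ this
      rintro _ ⟨_, ⟨i, hi, rfl⟩, rfl⟩
      simp only [Set.mem_ofPred_eq] at hi
      refine ⟨⟨Fin.rev i, ?_⟩, ?_⟩
      · rw [Fin.val_rev]; have := i.isLt; omega
      · change X (Fin.rev i) = ν (X i)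
        rw [hνX]
    · rw [Ideal.span_le]
      rintro _ ⟨⟨i, hi⟩, rfl⟩
      rw [SetLike.mem_coe, Ideal.mem_comap]
      change ν (X i) ∈ _
      rw [hνX]
      refine Ideal.subset_span ⟨Fin.rev i, ?_, rfl⟩
      simp only [Set.mem_ofPred_eq, Fin.val_rev]
      have := i.isLt
      omega

end Groth.Agent.Lib.Helper86.StrongNoether
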