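import Mathlib
import Groth.Agent.Lib.Helper37.HenselFinite

/-!
# Tame Eisenstein polynomials over henselian local rings, part 1

* primitive roots of unity in a henselian local ring with algebraically closed residue field;
* `AdjoinRoot (X ^ e - C w)` is a henselian local ring when `w` is in the maximal ideal;
* a polynomial `X^e + ∑ a_0 c_i X^i + a_0` (`c_0 = 1`) has a root in `AdjoinRoot (X^e + C a_0)`
  when `e` is a unit.
-/

set_option autoImplicit false
set_option linter.style.haveILetI false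
set_option linter.unusedSectionVars false

namespace Groth.Agent.Lib.Helper86.TameEis

open IsLocalRing Polynomial

universe u

section Local

variable {O : Type u} [CommRing O] [IsLocalRing O]

theorem isUnit_sub_of_mem {u x : O} (hu : IsUnit u) (hx : x ∈ maximalIdeal O) : IsUnit (u - x) := by
  by_contra h
  have h1 : u - x ∈ maximalIdeal O := (mem_maximalIdeal _).mpr h
  have h2 : u ∈ maximalIdeal O := by
    have := (maximalIdeal O).add_mem h1 hx
    rwa [sub_add_cancel] at this
  exact (mem_maximalIdeal _).mp h2 hu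

theorem isUnit_natCast_of_lt (p : ℕ) [Fact p.Prime] [CharP (ResidueField O) p] {e : ℕ}
    (he : 1 ≤ e) (hep : e < p) : IsUnit (e : O) := by
  by_contra h
  have h1 : (e : O) ∈ maximalIdeal O := (mem_maximalIdeal _).mpr h
  have h2 : residue O (e : O) = 0 := (residue_eq_zero_iff _).mpr h1
  rw [map_natCast, CharP.cast_eq_zero_iff (ResidueField O) p] at h2
  exact absurd (Nat.le_of_dvd he h2) (not_le.mpr hep)

end Local

section Roots

variable {O : Type u} [CommRing O] [HenselianLocalRing O] [IsAlgClosed (ResidueField O)]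

theorem exists_primitiveRoot {e : ℕ} (he : 1 ≤ e) (heu : IsUnit (e : O)) :
    ∃ ζ : O, IsPrimitiveRoot ζ e := by
  haveI : NeZero (e : ResidueField O) := ⟨by
    rw [← map_natCast (residue O)]
    intro h
    exact (mem_maximalIdeal _).mp ((residue_eq_zero_iff _).mp h) heu⟩
  obtain ⟨z, hz⟩ := HasEnoughRootsOfUnity.exists_primitiveRoot (ResidueField O) e
  obtain ⟨a₀, ha₀⟩ := residue_surjective z
  have ha₀u : IsUnit a₀ := by
    by_contra h
    have h1 : residue O a₀ = 0 := (residue_eq_zero_iff _).mpr ((mem_maximalIdeal _).mpr h)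
    rw [ha₀] at h1
    have := hz.pow_eq_one
    rw [h1, zero_pow (by omega)] at this
    exact zero_ne_one this
  obtain ⟨ζ, hζ, hζ0⟩ := HenselianLocalRing.is_henselian (X ^ e - C (1 : O))
    (monic_X_pow_sub_C 1 (by omega)) a₀
    (by
      rw [← residue_eq_zero_iff]
      simp only [C_1, eval_sub, eval_pow, eval_X, eval_one, map_sub, map_pow, map_one, ha₀,
        hz.pow_eq_one, sub_self])
    (by
      simp only [derivative_sub, derivative_X_pow, derivative_C, sub_zero, eval_mul, eval_C,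
        eval_pow, eval_X]
      exact heu.mul (ha₀u.pow _))
  have hres : residue O ζ = z := by
    rw [← ha₀, ← sub_eq_zero, ← map_sub, residue_eq_zero_iff]
    exact hζ0
  refine ⟨ζ, ?_, ?_⟩
  · have := hζ
    simp only [IsRoot.def, C_1, eval_sub, eval_pow, eval_X, eval_one] at this
    exact sub_eq_zero.mp this
  · intro l hl
    apply hz.dvd_of_pow_eq_one
    rw [← hres, ← map_pow, hl, map_one]

end Roots

section AdjoinRootLocal

variable {O : Type u} [CommRing O] [IsLocalRing O] {e : ℕ} (he : 1 ≤ e) {w : O}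
  (hw : w ∈ maximalIdeal O)

include he hw

/-- The map `O[x]/(x^e - w) → κ`, `x ↦ 0`. -/
noncomputable def toRes : AdjoinRoot (X ^ e - C w) →+* ResidueField O :=
  AdjoinRoot.lift (residue O) 0 (by
    simp only [eval₂_sub, eval₂_pow, eval₂_X, eval₂_C]
    rw [zero_pow (by omega), (residue_eq_zero_iff _).mpr hw, sub_zero])

theorem toRes_mk (g : O[X]) : toRes he hw (AdjoinRoot.mk _ g) = residue O (g.coeff 0) := by
  unfold toRes
  rw [AdjoinRoot.lift_mk, eval₂_at_zero]

theorem toRes_surjective : Function.Surjective (toRes he hw) := by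
  intro z
  obtain ⟨a, rfl⟩ := residue_surjective z
  exact ⟨AdjoinRoot.mk _ (C a), by rw [toRes_mk, coeff_C_zero]⟩

theorem isLocalRing_adjoinRoot :
    IsLocalRing (AdjoinRoot (X ^ e - C w)) ∧
      ∀ x : AdjoinRoot (X ^ e - C w), toRes he hw x = 0 → ¬ IsUnit x := by
  have hmonic : (X ^ e - C w).Monic := monic_X_pow_sub_C w (by omega)
  haveI : Module.Finite O (AdjoinRoot (X ^ e - C w)) := hmonic.finite_adjoinRoot
  haveI : Algebra.IsIntegral O (AdjoinRoot (X ^ e - C w)) := Algebra.IsIntegral.of_finite _ _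
  obtain ⟨J, hJ⟩ : ∃ J : Ideal (AdjoinRoot (X ^ e - C w)), J = RingHom.ker (toRes he hw) :=
    ⟨_, rfl⟩
  have hJmax : J.IsMaximal := by
    rw [hJ]; exact RingHom.ker_isMaximal_of_surjective _ (toRes_surjective he hw)
  have hroot : (AdjoinRoot.root (X ^ e - C w)) ^ e = AdjoinRoot.of _ w := by
    have h := AdjoinRoot.eval₂_root (X ^ e - C w)
    simp only [eval₂_sub, eval₂_pow, eval₂_X, eval₂_C] at h
    exact sub_eq_zero.mp h
  have key : ∀ N : Ideal (AdjoinRoot (X ^ e - C w)), N.IsMaximal → N = J := by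
    intro N hN
    have hc : N.comap (algebraMap O _) = maximalIdeal O :=
      IsLocalRing.eq_maximalIdeal (Ideal.isMaximal_comap_of_isIntegral_of_isMaximal (R := O) N)
    have hmem : ∀ a ∈ maximalIdeal O, AdjoinRoot.of (X ^ e - C w) a ∈ N := by
      intro a ha
      rw [← hc] at ha
      exact ha
    have hγ : AdjoinRoot.root (X ^ e - C w) ∈ N := by
      apply hN.isPrime.mem_of_pow_mem e
      rw [hroot]
      exact hmem w hw
    symm
    refine hJmax.eq_of_le hN.ne_top ?_
    intro b hb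
    obtain ⟨g, rfl⟩ := AdjoinRoot.mk_surjective b
    rw [hJ, RingHom.mem_ker, toRes_mk, residue_eq_zero_iff] at hb
    have hg : g = g.divX * X + C (g.coeff 0) := (divX_mul_X_add g).symm
    rw [hg, map_add, map_mul, AdjoinRoot.mk_X, AdjoinRoot.mk_C]
    exact N.add_mem (N.mul_mem_left _ hγ) (hmem _ hb)
  haveI : Nontrivial (AdjoinRoot (X ^ e - C w)) := ⟨⟨0, 1, fun h => by
    have := congrArg (toRes he hw) h
    rw [map_zero, map_one] at this
    exact zero_ne_one this⟩⟩
  have hloc : IsLocalRing (AdjoinRoot (X ^ e - C w)) :=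
    IsLocalRing.of_unique_max_ideal ⟨J, hJmax, fun N hN => key N hN⟩
  refine ⟨hloc, fun x hx hu => ?_⟩
  have : x ∈ J := by rw [hJ]; exact hx
  exact hJmax.ne_top (Ideal.eq_top_of_isUnit_mem _ this hu)

end AdjoinRootLocal

section RootInKummer

variable {O : Type u} [CommRing O] [HenselianLocalRing O] {e' : ℕ}

/-- `f = X^(e'+1) + ∑_{i<e'} C (a₀ * c (i+1)) X^(i+1) + C a₀` has a root in
`O[x]/(x^(e'+1) + a₀)` when `a₀` is in the maximal ideal and `e' + 1` is a unit. -/
theorem exists_root_adjoinRoot (a₀ : O) (ha₀ : a₀ ∈ maximalIdeal O) (c : ℕ → O)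
    (heu : IsUnit ((e' + 1 : ℕ) : O)) :
    ∃ θ : AdjoinRoot (X ^ (e' + 1) - C (-a₀)),
      θ ^ (e' + 1) + ∑ i ∈ Finset.range e',
        AdjoinRoot.of (X ^ (e' + 1) - C (-a₀)) (a₀ * c (i + 1)) * θ ^ (i + 1) +
          AdjoinRoot.of (X ^ (e' + 1) - C (-a₀)) a₀ = 0 := by
  have he : 1 ≤ e' + 1 := by omega
  have hw : -a₀ ∈ maximalIdeal O := (maximalIdeal O).neg_mem ha₀
  obtain ⟨hloc, hnonunit⟩ := isLocalRing_adjoinRoot he hw
  haveI := hloc
  have hmonic : (X ^ (e' + 1) - C (-a₀)).Monic := monic_X_pow_sub_C (-a₀) (by omega)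
  haveI : Module.Finite O (AdjoinRoot (X ^ (e' + 1) - C (-a₀))) := hmonic.finite_adjoinRoot
  haveI : HenselianLocalRing (AdjoinRoot (X ^ (e' + 1) - C (-a₀))) :=
    Groth.Agent.Lib.Helper37.henselianLocalRing_of_finite O _
  obtain ⟨γ, hγ⟩ : ∃ γ : AdjoinRoot (X ^ (e' + 1) - C (-a₀)), γ = AdjoinRoot.root _ := ⟨_, rfl⟩
  have hγm : γ ∈ maximalIdeal (AdjoinRoot (X ^ (e' + 1) - C (-a₀))) := by
    rw [mem_maximalIdeal]
    apply hnonunit
    rw [hγ, ← AdjoinRoot.mk_X, toRes_mk, coeff_X_zero, map_zero]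
  have hγe : γ ^ (e' + 1) = AdjoinRoot.of _ (-a₀) := by
    have h := AdjoinRoot.eval₂_root (X ^ (e' + 1) - C (-a₀))
    simp only [eval₂_sub, eval₂_pow, eval₂_X, eval₂_C] at h
    rw [hγ]
    exact sub_eq_zero.mp h
  obtain ⟨b, hb⟩ : ∃ b : ℕ → AdjoinRoot (X ^ (e' + 1) - C (-a₀)),
      b = fun i => AdjoinRoot.of _ (c (i + 1)) * γ ^ (i + 1) := ⟨_, rfl⟩
  have hbm : ∀ i, b i ∈ maximalIdeal (AdjoinRoot (X ^ (e' + 1) - C (-a₀))) := by
    intro i
    rw [hb]
    refine Ideal.mul_mem_left _ _ ?_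
    rw [pow_succ γ i]
    exact Ideal.mul_mem_left _ _ hγm
  obtain ⟨q, hq⟩ : ∃ q : (AdjoinRoot (X ^ (e' + 1) - C (-a₀)))[X],
      q = C 1 + ∑ i ∈ Finset.range e', C (b i) * X ^ (i + 1) := ⟨_, rfl⟩
  have hqdeg : q.degree < ((e' + 1 : ℕ) : WithBot ℕ) := by
    rw [← mem_degreeLT, hq]
    refine Submodule.add_mem _ ?_ (Submodule.sum_mem _ fun i hi => ?_)
    · rw [mem_degreeLT]
      exact lt_of_le_of_lt degree_C_le (by exact_mod_cast Nat.succ_pos e')
    · rw [mem_degreeLT]
      refine lt_of_le_of_lt (degree_C_mul_X_pow_le _ _) ?_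
      have := Finset.mem_range.mp hi
      exact_mod_cast Nat.succ_lt_succ this
  have hgm : (X ^ (e' + 1) - q).Monic := monic_X_pow_sub hqdeg
  have hsum_mem : ∀ (t : ℕ → AdjoinRoot (X ^ (e' + 1) - C (-a₀))),
      ∑ i ∈ Finset.range e', b i * t i ∈ maximalIdeal (AdjoinRoot (X ^ (e' + 1) - C (-a₀))) :=
    fun t => Ideal.sum_mem _ fun i _ => Ideal.mul_mem_right _ _ (hbm i)
  obtain ⟨s, hs, -⟩ := HenselianLocalRing.is_henselian (X ^ (e' + 1) - q) hgm 1
    (by
      rw [hq]
      simp only [eval_sub, eval_pow, eval_X, one_pow, eval_add, eval_C, eval_finsetSum, eval_mul]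
      have : (1 : AdjoinRoot (X ^ (e' + 1) - C (-a₀))) - (1 + ∑ i ∈ Finset.range e', b i * 1) =
          -(∑ i ∈ Finset.range e', b i * 1) := by ring
      rw [this]
      exact Ideal.neg_mem_iff _ |>.mpr (hsum_mem fun _ => 1))
    (by
      rw [hq]
      simp only [derivative_sub, derivative_X_pow, derivative_add, derivative_C, zero_add,
        derivative_sum, derivative_C_mul, eval_sub, eval_mul, eval_C, eval_pow, eval_X, one_pow,
        mul_one, eval_finsetSum, eval_natCast, Nat.add_sub_cancel]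
      refine isUnit_sub_of_mem ?_ ?_
      · have := heu.map (algebraMap O (AdjoinRoot (X ^ (e' + 1) - C (-a₀))))
        simpa using this
      · exact hsum_mem _)
  have hs' : s ^ (e' + 1) = 1 + ∑ i ∈ Finset.range e', b i * s ^ (i + 1) := by
    have := hs
    rw [IsRoot.def, hq] at this
    simp only [eval_sub, eval_pow, eval_X, eval_add, eval_C, eval_finsetSum, eval_mul] at this
    exact sub_eq_zero.mp this
  refine ⟨γ * s, ?_⟩
  rw [mul_pow, hγe, hs']
  have h1 : ∑ i ∈ Finset.range e',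
      AdjoinRoot.of (X ^ (e' + 1) - C (-a₀)) (a₀ * c (i + 1)) * (γ * s) ^ (i + 1) =
      AdjoinRoot.of _ a₀ * ∑ i ∈ Finset.range e', b i * s ^ (i + 1) := by
    rw [Finset.mul_sum]
    refine Finset.sum_congr rfl fun i _ => ?_
    rw [hb, map_mul, mul_pow]
    ring
  rw [h1, map_neg (AdjoinRoot.of (X ^ (e' + 1) - C (-a₀))) a₀]
  ring

end RootInKummer

end Groth.Agent.Lib.Helper86.TameEis
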