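import Mathlib
import Groth.Agent.Lib.Helper86.TameEis1

/-!
# Tame Eisenstein polynomials, part 2: field theory
-/

set_option autoImplicit false
set_option linter.style.haveILetI false
set_option linter.unusedSectionVars false

namespace Groth.Agent.Lib.Helper86.TameEis

open IsLocalRing Polynomial IntermediateField

universe u

section FieldTheory

variable {K : Type u} [Field K] {n : ℕ} [NeZero n]

/-- If an irreducible monic `g` of degree `n` has a root in a Kummer extension `L = K(a^(1/n))` of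
degree `n`, then `L` is a splitting field of `g`; so the splitting field of `g` has degree `n` and
cyclic Galois group. -/
theorem finrank_splittingField_and_isCyclic (hζ : (primitiveRoots n K).Nonempty) {a : K}
    (H : Irreducible (X ^ n - C a)) (L : Type u) [Field L] [Algebra K L]
    [IsSplittingField K L (X ^ n - C a)] (g : K[X]) (hg : Irreducible g) (hgm : g.Monic)
    (hgd : g.natDegree = n) (θ : L) (hθ : aeval θ g = 0) :
    Module.finrank K g.SplittingField = n ∧ IsCyclic g.Gal := by
  have hfin : Module.finrank K L = n := finrank_of_isSplittingField_X_pow_sub_C hζ H L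
  haveI : IsGalois K L := isGalois_of_isSplittingField_X_pow_sub_C hζ H L
  haveI : IsCyclic (L ≃ₐ[K] L) := isCyclic_of_isSplittingField_X_pow_sub_C hζ H L
  haveI : FiniteDimensional K L := IsSplittingField.finiteDimensional L (X ^ n - C a)
  have hmin : g = minpoly K θ := minpoly.eq_of_irreducible_of_monic hg hθ hgm
  have htop : K⟮θ⟯ = ⊤ := by
    rw [Field.primitive_element_iff_minpoly_natDegree_eq, ← hmin, hgd, hfin]
  have hsplit : (g.map (algebraMap K L)).Splits := by
    rw [hmin]; exact Normal.splits inferInstance θ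
  haveI : IsSplittingField K L g := by
    refine ⟨hsplit, ?_⟩
    rw [eq_top_iff]
    have h1 : Algebra.adjoin K {θ} = ⊤ := by
      have h2 := IntermediateField.adjoin_simple_toSubalgebra_of_isAlgebraic
        (Algebra.IsAlgebraic.isAlgebraic (R := K) θ)
      rw [htop] at h2
      rw [← h2]
      rfl
    rw [← h1]
    refine Algebra.adjoin_mono ?_
    rw [Set.singleton_subset_iff, mem_rootSet]
    exact ⟨hgm.ne_zero, hθ⟩
  obtain ⟨E⟩ : Nonempty (L ≃ₐ[K] g.SplittingField) := ⟨IsSplittingField.algEquiv L g⟩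
  refine ⟨?_, ?_⟩
  · rw [← hfin]
    exact E.toLinearEquiv.finrank_eq.symm
  · exact isCyclic_of_surjective (AlgEquiv.autCongr E) (AlgEquiv.autCongr E).surjective

end FieldTheory

section Main

variable {O : Type u} [CommRing O] [IsDomain O] [IsDiscreteValuationRing O]

/-- An element of `m \ m²` generates `m`. -/
theorem maximalIdeal_eq_span_of_notMem_sq {a : O} (ha : a ∈ maximalIdeal O)
    (ha' : a ∉ maximalIdeal O ^ 2) : maximalIdeal O = Ideal.span {a} := by
  obtain ⟨ϖ, hϖ⟩ := IsDiscreteValuationRing.exists_irreducible O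
  have hm : maximalIdeal O = Ideal.span {ϖ} :=
    (IsDiscreteValuationRing.irreducible_iff_uniformizer ϖ).mp hϖ
  rw [hm, Ideal.mem_span_singleton'] at ha
  obtain ⟨t, rfl⟩ := ha
  have htu : IsUnit t := by
    by_contra h
    have h1 : t ∈ maximalIdeal O := (mem_maximalIdeal _).mpr h
    apply ha'
    rw [pow_two]
    exact Ideal.mul_mem_mul h1 (hm ▸ Ideal.mem_span_singleton_self ϖ)
  rw [hm]
  exact (Ideal.span_singleton_eq_span_singleton.mpr
    ((associated_unit_mul_left _ _ htu).symm)).symm ▸ rfl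

variable [HenselianLocalRing O] [IsAlgClosed (ResidueField O)]
  (p : ℕ) [Fact p.Prime] [CharP (ResidueField O) p]
  (K : Type u) [Field K] [Algebra O K] [IsFractionRing O K]

theorem main (f : O[X]) (hmon : f.Monic) (e : ℕ) (hdeg : f.natDegree = e) (he : 1 ≤ e)
    (hep : e < p) (hf : f.IsEisensteinAt (maximalIdeal O)) :
    Module.finrank K (f.map (algebraMap O K)).SplittingField = e ∧
      IsCyclic (f.map (algebraMap O K)).Gal := by
  obtain ⟨e', rfl⟩ : ∃ e', e = e' + 1 := ⟨e - 1, by omega⟩
  haveI : NeZero (e' + 1) := ⟨by omega⟩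
  have heu : IsUnit ((e' + 1 : ℕ) : O) := isUnit_natCast_of_lt p he hep
  obtain ⟨a₀, ha₀def⟩ : ∃ a₀ : O, a₀ = f.coeff 0 := ⟨_, rfl⟩
  have ha₀ : a₀ ∈ maximalIdeal O := by rw [ha₀def]; exact hf.mem (by omega)
  have ha₀' : a₀ ∉ maximalIdeal O ^ 2 := by rw [ha₀def]; exact hf.notMem
  have hm : maximalIdeal O = Ideal.span {a₀} := maximalIdeal_eq_span_of_notMem_sq ha₀ ha₀'
  -- coefficients
  have hc : ∀ i : ℕ, ∃ c : O, i < e' + 1 → f.coeff i = a₀ * c := by
    intro i
    by_cases hi : i < e' + 1
    · have h1 : f.coeff i ∈ maximalIdeal O := hf.mem (by omega)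
      rw [hm, Ideal.mem_span_singleton'] at h1
      obtain ⟨c, hc⟩ := h1
      exact ⟨c, fun _ => by rw [← hc, mul_comm]⟩
    · exact ⟨0, fun h => absurd h hi⟩
  choose c hc using hc
  obtain ⟨θ', hθ'⟩ := exists_root_adjoinRoot (e' := e') a₀ ha₀ c heu
  -- irreducibility
  have hPmonic : (X ^ (e' + 1) - C (-a₀) : O[X]).Monic := monic_X_pow_sub_C _ (by omega)
  have hPE : (X ^ (e' + 1) - C (-a₀) : O[X]).IsEisensteinAt (maximalIdeal O) := by
    refine hPmonic.isEisensteinAt_of_mem_of_notMem (maximalIdeal.isMaximal O).ne_top ?_ ?_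
    · intro i hi
      rw [coeff_sub, coeff_X_pow, coeff_C]
      rw [natDegree_X_pow_sub_C] at hi
      rw [if_neg (by omega)]
      split_ifs
      · rw [zero_sub, neg_neg]; exact ha₀
      · rw [sub_zero]; exact Ideal.zero_mem _
    · rw [coeff_sub, coeff_X_pow, coeff_C, if_neg (by omega), if_pos rfl, zero_sub, neg_neg]
      exact ha₀'
  have hPirr : Irreducible (X ^ (e' + 1) - C (-a₀) : O[X]) :=
    hPE.irreducible (maximalIdeal.isMaximal O).isPrime hPmonic.isPrimitive
      (by rw [natDegree_X_pow_sub_C]; omega)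
  have hPK : Irreducible (X ^ (e' + 1) - C (algebraMap O K (-a₀)) : K[X]) := by
    have := (Monic.irreducible_iff_irreducible_map_fraction_map (K := K) hPmonic).mp hPirr
    rwa [Polynomial.map_sub, Polynomial.map_pow, map_X, map_C] at this
  have hfirr : Irreducible f :=
    hf.irreducible (maximalIdeal.isMaximal O).isPrime hmon.isPrimitive (by omega)
  have hfK : Irreducible (f.map (algebraMap O K)) :=
    (Monic.irreducible_iff_irreducible_map_fraction_map (K := K) hmon).mp hfirr
  -- roots of unity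
  obtain ⟨ζ, hζ⟩ := exists_primitiveRoot (O := O) he heu
  have hζK : (primitiveRoots (e' + 1) K).Nonempty :=
    ⟨algebraMap O K ζ, (mem_primitiveRoots (by omega)).mpr
      (hζ.map_of_injective (IsFractionRing.injective O K))⟩
  haveI : Fact (Irreducible (X ^ (e' + 1) - C (algebraMap O K (-a₀)) : K[X])) := ⟨hPK⟩
  haveI := isSplittingField_AdjoinRoot_X_pow_sub_C hζK hPK
  -- the map `O[x]/(x^e + a₀) → K[x]/(x^e + a₀)`
  obtain ⟨φ, hφ⟩ : ∃ φ : AdjoinRoot (X ^ (e' + 1) - C (-a₀) : O[X]) →+*
      AdjoinRoot (X ^ (e' + 1) - C (algebraMap O K (-a₀)) : K[X]),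
      ∀ x : O, φ (AdjoinRoot.of _ x) = AdjoinRoot.of _ (algebraMap O K x) := by
    refine ⟨AdjoinRoot.lift ((AdjoinRoot.of _).comp (algebraMap O K)) (AdjoinRoot.root _) ?_,
      fun x => ?_⟩
    · simp only [eval₂_sub, eval₂_pow, eval₂_X, eval₂_C, RingHom.comp_apply]
      have h := AdjoinRoot.eval₂_root (X ^ (e' + 1) - C (algebraMap O K (-a₀)) : K[X])
      simpa only [eval₂_sub, eval₂_pow, eval₂_X, eval₂_C] using h
    · rw [AdjoinRoot.lift_of]; rfl
  refine finrank_splittingField_and_isCyclic hζK hPK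
    (AdjoinRoot (X ^ (e' + 1) - C (algebraMap O K (-a₀)) : K[X])) _ hfK (hmon.map _)
    (by rw [hmon.natDegree_map, hdeg]) (φ θ') ?_
  rw [aeval_def, eval₂_map]
  have hsum := hmon.as_sum
  rw [hdeg] at hsum
  rw [hsum]
  simp only [eval₂_add, eval₂_pow, eval₂_X, eval₂_finsetSum, eval₂_mul, eval₂_C]
  rw [Finset.sum_range_succ']
  have h0 := congrArg φ hθ'
  rw [map_zero, map_add, map_add, map_pow, map_sum] at h0
  rw [← h0, pow_zero, mul_one, ← add_assoc]
  congr 1
  · congr 1
    refine Finset.sum_congr rfl fun i hi => ?_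
    rw [map_mul, map_pow, hφ, hc (i + 1) (by have := Finset.mem_range.mp hi; omega)]
    rfl
  · rw [hφ, ← ha₀def]; rfl

end Main

end Groth.Agent.Lib.Helper86.TameEis
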