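import Mathlib
import Groth.Agent.Lib.Helper86.TameEis2

/-!
# Tame Eisenstein polynomials, part 3: products of binomials `y^r - v ϖ^b`
-/

set_option autoImplicit false
set_option linter.style.haveILetI false
set_option linter.unusedSectionVars false

namespace Groth.Agent.Lib.Helper86.TameEis

open IsLocalRing Polynomial

universe u

section Generation

variable {K L : Type u} [Field K] [Field L] [Algebra K L] [Algebra.IsAlgebraic K L]

/-- If `π^N` and the `π^(b_i N / r_i)` lie in a subalgebra `A` (`gcd(b_i, r_i) = 1`, `N = lcm r_i`),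
then `π ∈ A`. -/
theorem mem_of_pow_mem (A : Subalgebra K L) {π : L} (hπ : π ≠ 0) {m : ℕ} (r b : Fin m → ℕ)
    (hr : ∀ i, 1 ≤ r i) (hrb : ∀ i, Nat.Coprime (r i) (b i))
    (hN : π ^ (Finset.univ.lcm r) ∈ A)
    (hi : ∀ i, π ^ (b i * (Finset.univ.lcm r / r i)) ∈ A) : π ∈ A := by
  obtain ⟨N, hNdef⟩ : ∃ N : ℕ, N = Finset.univ.lcm r := ⟨_, rfl⟩
  rw [← hNdef] at hN hi
  have hNpos : 0 < N := by
    rw [hNdef, Nat.pos_iff_ne_zero, Ne, Finset.lcm_eq_zero_iff]
    rintro ⟨i, -, h⟩
    have := hr i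
    omega
  have hdvd : ∀ i, r i ∣ N := fun i => hNdef ▸ Finset.dvd_lcm (Finset.mem_univ i)
  -- the subgroup of exponents
  obtain ⟨H, hH⟩ : ∃ H : AddSubgroup ℤ, ∀ k : ℤ, k ∈ H ↔ π ^ k ∈ A := by
    refine ⟨{ carrier := {k : ℤ | π ^ k ∈ A}
              zero_mem' := by simp only [Set.mem_ofPred_eq, zpow_zero]; exact A.one_mem
              add_mem' := ?_
              neg_mem' := ?_ }, fun k => Iff.rfl⟩
    · intro j k hj hk
      simp only [Set.mem_ofPred_eq] at hj hk ⊢
      rw [zpow_add₀ hπ]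
      exact A.mul_mem hj hk
    · intro k hk
      simp only [Set.mem_ofPred_eq] at hk ⊢
      rw [zpow_neg]
      exact A.inv_mem_of_algebraic (x := ⟨_, hk⟩) (Algebra.IsAlgebraic.isAlgebraic _)
  have hHN : (N : ℤ) ∈ H := by rw [hH, zpow_natCast]; exact hN
  have hHi : ∀ i, ((N / r i : ℕ) : ℤ) ∈ H := by
    intro i
    have h1 : ((b i * (N / r i) : ℕ) : ℤ) ∈ H := by rw [hH, zpow_natCast]; exact hi i
    have h2 : ((N / r i : ℕ) : ℤ) = (r i).gcdA (b i) * (N : ℤ) +
        (r i).gcdB (b i) * ((b i * (N / r i) : ℕ) : ℤ) := by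
      have hb := Nat.gcd_eq_gcd_ab (r i) (b i)
      rw [(hrb i)] at hb
      obtain ⟨q, hq⟩ := hdvd i
      have hrpos : 0 < r i := hr i
      have hq' : N / r i = q := by rw [hq, Nat.mul_div_cancel_left _ hrpos]
      rw [hq', hq]
      push_cast
      push_cast at hb
      linear_combination (q : ℤ) * hb
    rw [h2]
    exact H.add_mem (H.zsmul_mem hHN _ |> fun h => by simpa [smul_eq_mul] using h)
      (H.zsmul_mem h1 _ |> fun h => by simpa [smul_eq_mul] using h)
  obtain ⟨d, hd⟩ := Int.subgroup_cyclic H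
  have hmemd : ∀ k : ℤ, k ∈ H ↔ d ∣ k := by
    intro k
    rw [hd, ← AddSubgroup.zmultiples_eq_closure, Int.mem_zmultiples_iff]
  -- `d.natAbs = 1`
  have hd1 : d.natAbs = 1 := by
    have h1 : d.natAbs ∣ N := by
      have := Int.natAbs_dvd_natAbs.mpr ((hmemd _).mp hHN)
      rwa [Int.natAbs_natCast] at this
    obtain ⟨N', hN'⟩ := h1
    have hN'pos : 0 < N' := by
      rcases Nat.eq_zero_or_pos N' with h | h
      · rw [h, mul_zero] at hN'; omega
      · exact h
    have hdpos : 0 < d.natAbs := by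
      rcases Nat.eq_zero_or_pos d.natAbs with h | h
      · rw [h, zero_mul] at hN'; omega
      · exact h
    have h2 : ∀ i, r i ∣ N' := by
      intro i
      have h3 : d.natAbs ∣ N / r i := by
        have := Int.natAbs_dvd_natAbs.mpr ((hmemd _).mp (hHi i))
        rwa [Int.natAbs_natCast] at this
      obtain ⟨q, hq⟩ := h3
      have h4 : r i * (N / r i) = N := Nat.mul_div_cancel' (hdvd i)
      rw [hq, hN'] at h4
      have h5 : d.natAbs * (r i * q) = d.natAbs * N' := by rw [← h4]; ring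
      exact ⟨q, (Nat.eq_of_mul_eq_mul_left hdpos h5).symm⟩
    have h6 : N ∣ N' := by
      rw [hNdef]; exact Finset.lcm_dvd fun i _ => h2 i
    rw [hN'] at h6
    have h7 : d.natAbs * N' ≤ N' := Nat.le_of_dvd hN'pos h6
    nlinarith
  have h1H : (1 : ℤ) ∈ H := by
    rw [hmemd]
    exact Int.natAbs_dvd_natAbs.mp (by rw [hd1]; exact one_dvd _)
  have := (hH 1).mp h1H
  rwa [zpow_one] at this

end Generation

section Roots

variable {O : Type u} [CommRing O] [HenselianLocalRing O] [IsAlgClosed (ResidueField O)]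

/-- Units have `n`-th roots when `n` is a unit. -/
theorem exists_pow_eq_of_isUnit {n : ℕ} (hn : 1 ≤ n) (hnu : IsUnit (n : O)) (v : Oˣ) :
    ∃ u : O, IsUnit u ∧ u ^ n = (v : O) := by
  obtain ⟨z, hz⟩ := IsAlgClosed.exists_pow_nat_eq (residue O (v : O)) (by omega : 0 < n)
  obtain ⟨a₀, ha₀⟩ := residue_surjective z
  have hvres : residue O (v : O) ≠ 0 := by
    intro h
    exact (mem_maximalIdeal _).mp ((residue_eq_zero_iff _).mp h) v.isUnit
  have ha₀u : IsUnit a₀ := by
    by_contra h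
    have h1 : residue O a₀ = 0 := (residue_eq_zero_iff _).mpr ((mem_maximalIdeal _).mpr h)
    rw [ha₀] at h1
    rw [h1, zero_pow (by omega)] at hz
    exact hvres hz.symm
  obtain ⟨u, hu, hu0⟩ := HenselianLocalRing.is_henselian (X ^ n - C (v : O))
    (monic_X_pow_sub_C _ (by omega)) a₀
    (by
      rw [← residue_eq_zero_iff]
      simp only [eval_sub, eval_pow, eval_X, eval_C, map_sub, map_pow, ha₀, hz, sub_self])
    (by
      simp only [derivative_sub, derivative_X_pow, derivative_C, sub_zero, eval_mul, eval_C,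
        eval_pow, eval_X]
      exact hnu.mul (ha₀u.pow _))
  have hun : u ^ n = (v : O) := by
    have := hu
    simp only [IsRoot.def, eval_sub, eval_pow, eval_X, eval_C] at this
    exact sub_eq_zero.mp this
  refine ⟨u, ?_, hun⟩
  have : IsUnit (u ^ n) := hun ▸ v.isUnit
  exact (isUnit_pow_iff (by omega)).mp this

end Roots

section Main3

variable {O : Type u} [CommRing O] [IsDomain O] [IsDiscreteValuationRing O]
  [HenselianLocalRing O] [IsAlgClosed (ResidueField O)]
  (p : ℕ) [Fact p.Prime] [CharP (ResidueField O) p]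
  (K : Type u) [Field K] [Algebra O K] [IsFractionRing O K]

theorem main_prod_aux (ϖ : O) (hϖ : Irreducible ϖ) (m : ℕ) (r b : Fin m → ℕ) (v : Fin m → Oˣ)
    (hr : ∀ i, 1 ≤ r i) (hrb : ∀ i, Nat.Coprime (r i) (b i)) (hri : ∀ i, r i < p)
    (N : ℕ) (hNdef : N = Finset.univ.lcm r) (hNpos : 0 < N)
    (ζ : O) (hζ : IsPrimitiveRoot ζ N)
    (hPK : Irreducible (X ^ N - C (algebraMap O K ϖ) : K[X]))
    (L : Type u) [Field L] [Algebra K L] [IsSplittingField K L (X ^ N - C (algebraMap O K ϖ))]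
    (π : L) (hπN : π ^ N = algebraMap K L (algebraMap O K ϖ))
    (hπtop : Algebra.adjoin K {π} = ⊤) :
    Module.finrank K
        (∏ i, (X ^ (r i) - C (algebraMap O K ((v i : O) * ϖ ^ (b i))))).SplittingField = N := by
  have hdvd : ∀ i, r i ∣ N := fun i => hNdef ▸ Finset.dvd_lcm (Finset.mem_univ i)
  haveI : NeZero N := ⟨by omega⟩
  have hζK' : IsPrimitiveRoot (algebraMap O K ζ) N :=
    hζ.map_of_injective (IsFractionRing.injective O K)
  have hζK : (primitiveRoots N K).Nonempty :=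
    ⟨algebraMap O K ζ, (mem_primitiveRoots (by omega)).mpr hζK'⟩
  haveI : FiniteDimensional K L :=
    IsSplittingField.finiteDimensional L (X ^ N - C (algebraMap O K ϖ))
  have hfin : Module.finrank K L = N := finrank_of_isSplittingField_X_pow_sub_C hζK hPK L
  have hπ0 : π ≠ 0 := by
    intro h
    rw [h, zero_pow (by omega)] at hπN
    have h1 : algebraMap O K ϖ = 0 := (algebraMap K L).injective (by rw [← hπN, map_zero])
    exact hϖ.ne_zero ((IsFractionRing.injective O K) (by rw [h1, map_zero]))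
  -- roots of the units
  have hu : ∀ i, ∃ u : O, IsUnit u ∧ u ^ (r i) = (v i : O) := fun i =>
    exists_pow_eq_of_isUnit (hr i) (isUnit_natCast_of_lt p (hr i) (hri i)) (v i)
  choose u huu hu using hu
  obtain ⟨g, hg⟩ : ∃ g : K[X],
      g = ∏ i, (X ^ (r i) - C (algebraMap O K ((v i : O) * ϖ ^ (b i)))) := ⟨_, rfl⟩
  rw [← hg]
  have hgmonic : g.Monic := by
    rw [hg]; exact monic_prod_of_monic _ _ fun i _ => monic_X_pow_sub_C _ (by have := hr i; omega)
  -- the roots
  obtain ⟨ρ, hρ⟩ : ∃ ρ : Fin m → L,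
      ρ = fun i => algebraMap K L (algebraMap O K (u i)) * π ^ (b i * (N / r i)) := ⟨_, rfl⟩
  have hρpow : ∀ i, ρ i ^ (r i) = algebraMap K L (algebraMap O K ((v i : O) * ϖ ^ (b i))) := by
    intro i
    rw [hρ]
    simp only
    rw [mul_pow, ← map_pow, ← map_pow, hu i, ← pow_mul, mul_assoc, Nat.div_mul_cancel (hdvd i),
      mul_comm (b i) N, pow_mul, hπN, map_mul, map_mul, map_pow, map_pow]
  have hsplit : (g.map (algebraMap K L)).Splits := by
    rw [hg, Polynomial.map_prod]
    refine Splits.prod fun i _ => ?_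
    rw [Polynomial.map_sub, Polynomial.map_pow, map_X, map_C]
    obtain ⟨q, hq⟩ := hdvd i
    have hprim : IsPrimitiveRoot (algebraMap K L (algebraMap O K ζ) ^ q) (r i) :=
      (hζK'.map_of_injective (algebraMap K L).injective).pow hNpos (by rw [hq, mul_comm])
    exact X_pow_sub_C_splits_of_isPrimitiveRoot hprim (hρpow i)
  haveI : IsSplittingField K L g := by
    refine ⟨hsplit, ?_⟩
    obtain ⟨A, hA⟩ : ∃ A : Subalgebra K L, A = Algebra.adjoin K (g.rootSet L) := ⟨_, rfl⟩
    rw [← hA]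
    have hρA : ∀ i, ρ i ∈ A := by
      intro i
      rw [hA]
      refine Algebra.subset_adjoin ?_
      rw [mem_rootSet]
      refine ⟨hgmonic.ne_zero, ?_⟩
      rw [hg, map_prod]
      refine Finset.prod_eq_zero (Finset.mem_univ i) ?_
      rw [map_sub, map_pow, aeval_X, aeval_C, hρpow i, sub_self]
    have hπi : ∀ i, π ^ (b i * (N / r i)) ∈ A := by
      intro i
      obtain ⟨w, hw⟩ := (huu i).exists_left_inv
      have h1 : π ^ (b i * (N / r i)) = algebraMap K L (algebraMap O K w) * ρ i := by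
        rw [hρ]
        simp only
        rw [← mul_assoc, ← map_mul, ← map_mul, hw, map_one, map_one, one_mul]
      rw [h1]
      exact A.mul_mem (A.algebraMap_mem _) (hρA i)
    have hπA : π ∈ A := by
      refine mem_of_pow_mem A hπ0 r b hr hrb ?_ ?_
      · rw [← hNdef, hπN]; exact A.algebraMap_mem _
      · intro i; rw [← hNdef]; exact hπi i
    rw [eq_top_iff, ← hπtop]
    exact Algebra.adjoin_le (Set.singleton_subset_iff.mpr hπA)
  rw [← hfin]
  exact (IsSplittingField.algEquiv L g).toLinearEquiv.finrank_eq.symm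

theorem main_prod (ϖ : O) (hϖ : Irreducible ϖ) (m : ℕ) (r b : Fin m → ℕ) (v : Fin m → Oˣ)
    (hr : ∀ i, 1 ≤ r i) (hrb : ∀ i, Nat.Coprime (r i) (b i)) (hp : ∑ i, r i < p) :
    Module.finrank K
        (∏ i, (X ^ (r i) - C (algebraMap O K ((v i : O) * ϖ ^ (b i))))).SplittingField =
      Finset.univ.lcm r := by
  obtain ⟨N, hNdef⟩ : ∃ N : ℕ, N = Finset.univ.lcm r := ⟨_, rfl⟩
  rw [← hNdef]
  have hri : ∀ i, r i < p := fun i =>
    lt_of_le_of_lt (Finset.single_le_sum (fun j _ => Nat.zero_le (r j)) (Finset.mem_univ i)) hp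
  have hNpos : 0 < N := by
    rw [hNdef, Nat.pos_iff_ne_zero, Ne, Finset.lcm_eq_zero_iff]
    rintro ⟨i, -, h⟩
    have := hr i
    omega
  have hpN : ¬ p ∣ N := by
    intro h
    have h1 : N ∣ ∏ i, r i := by
      rw [hNdef]; exact Finset.lcm_dvd fun i hi => Finset.dvd_prod_of_mem r hi
    have h2 : p ∣ ∏ i, r i := h.trans h1
    obtain ⟨i, -, h3⟩ := (Prime.dvd_finsetProd_iff (Nat.Prime.prime Fact.out) r).mp h2
    exact absurd (Nat.le_of_dvd (hr i) h3) (not_le.mpr (hri i))
  have hNu : IsUnit (N : O) := by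
    by_contra h
    have h1 : (N : O) ∈ maximalIdeal O := (mem_maximalIdeal _).mpr h
    have h2 : residue O (N : O) = 0 := (residue_eq_zero_iff _).mpr h1
    rw [map_natCast, CharP.cast_eq_zero_iff (ResidueField O) p] at h2
    exact hpN h2
  have hm : maximalIdeal O = Ideal.span {ϖ} :=
    (IsDiscreteValuationRing.irreducible_iff_uniformizer ϖ).mp hϖ
  have hϖm : ϖ ∈ maximalIdeal O := hm ▸ Ideal.mem_span_singleton_self ϖ
  have hϖ2 : ϖ ∉ maximalIdeal O ^ 2 := by
    rw [hm, Ideal.span_singleton_pow, Ideal.mem_span_singleton]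
    rintro ⟨t, ht⟩
    have h1 : ϖ * (1 - ϖ * t) = 0 := by linear_combination ht
    rcases mul_eq_zero.mp h1 with h | h
    · exact hϖ.ne_zero h
    · exact hϖ.not_isUnit (IsUnit.of_mul_eq_one t (by linear_combination -h))
  -- irreducibility of `X^N - ϖ`
  have hPmonic : (X ^ N - C ϖ : O[X]).Monic := monic_X_pow_sub_C _ (by omega)
  have hPE : (X ^ N - C ϖ : O[X]).IsEisensteinAt (maximalIdeal O) := by
    refine hPmonic.isEisensteinAt_of_mem_of_notMem (maximalIdeal.isMaximal O).ne_top ?_ ?_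
    · intro i hi
      rw [coeff_sub, coeff_X_pow, coeff_C]
      rw [natDegree_X_pow_sub_C] at hi
      rw [if_neg (by omega)]
      split_ifs
      · rw [zero_sub]; exact (maximalIdeal O).neg_mem hϖm
      · rw [sub_zero]; exact Ideal.zero_mem _
    · rw [coeff_sub, coeff_X_pow, coeff_C, if_neg (by omega), if_pos rfl, zero_sub,
        Ideal.neg_mem_iff]
      exact hϖ2
  have hPirr : Irreducible (X ^ N - C ϖ : O[X]) :=
    hPE.irreducible (maximalIdeal.isMaximal O).isPrime hPmonic.isPrimitive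
      (by rw [natDegree_X_pow_sub_C]; omega)
  have hPK : Irreducible (X ^ N - C (algebraMap O K ϖ) : K[X]) := by
    have := (Monic.irreducible_iff_irreducible_map_fraction_map (K := K) hPmonic).mp hPirr
    rwa [Polynomial.map_sub, Polynomial.map_pow, map_X, map_C] at this
  obtain ⟨ζ, hζ⟩ := exists_primitiveRoot (O := O) (by omega : 1 ≤ N) hNu
  have hζK : (primitiveRoots N K).Nonempty :=
    ⟨algebraMap O K ζ, (mem_primitiveRoots (by omega)).mpr
      (hζ.map_of_injective (IsFractionRing.injective O K))⟩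
  haveI : Fact (Irreducible (X ^ N - C (algebraMap O K ϖ) : K[X])) := ⟨hPK⟩
  haveI := isSplittingField_AdjoinRoot_X_pow_sub_C hζK hPK
  refine main_prod_aux p K ϖ hϖ m r b v hr hrb hri N hNdef hNpos ζ hζ hPK
    (AdjoinRoot (X ^ N - C (algebraMap O K ϖ) : K[X])) (AdjoinRoot.root _) ?_
    AdjoinRoot.adjoinRoot_eq_top
  have h := AdjoinRoot.eval₂_root (X ^ N - C (algebraMap O K ϖ) : K[X])
  simp only [eval₂_sub, eval₂_pow, eval₂_X, eval₂_C] at h
  exact sub_eq_zero.mp h

end Main3

end Groth.Agent.Lib.Helper86.TameEis
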