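import Mathlib

/-!
# Going down for integral extensions of a domain with local normalization
-/

set_option autoImplicit false
set_option linter.unusedSectionVars false
set_option linter.style.haveILetI false

namespace Groth.Agent.Lib.Helper86.UnibranchGD

universe u v

variable {R : Type u} {B : Type v} [CommRing R] [IsDomain R] [CommRing B] [IsDomain B] [Algebra R B]

local notation "KR" => FractionRing R
local notation "LB" => FractionRing B
local notation "NR" => integralClosure R (FractionRing R)
local notation "CC" => integralClosure (integralClosure R (FractionRing R)) (FractionRing B)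

/-- Let `R` be a domain whose normalization is local, `B` a domain integral over `R`, `n` a prime of
`B` over a maximal ideal. Then every prime `p` of `R` is the contraction of a prime `q ≤ n`. -/
theorem exists_prime_le_of_isLocalRing_integralClosure
    (hinj : Function.Injective (algebraMap R B)) [Algebra.IsIntegral R B]
    (hloc : IsLocalRing (integralClosure R (FractionRing R)))
    (n : Ideal B) [n.IsPrime] (hn : (n.comap (algebraMap R B)).IsMaximal)
    (p : Ideal R) [p.IsPrime] :
    ∃ q : Ideal B, q.IsPrime ∧ q ≤ n ∧ q.comap (algebraMap R B) = p := by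
  classical
  -- the fields
  have hRL : Function.Injective (algebraMap R LB) := by
    rw [IsScalarTower.algebraMap_eq R B LB]
    exact (IsFractionRing.injective B LB).comp hinj
  letI : Algebra KR LB := (IsFractionRing.lift (K := KR) hRL).toAlgebra
  haveI : IsScalarTower R KR LB :=
    IsScalarTower.of_algebraMap_eq fun x => (IsFractionRing.lift_algebraMap hRL x).symm
  -- the normalization `NR` of `R` and the integral closure `CC` of `NR` in `Frac B`
  haveI : IsIntegrallyClosed NR :=
    integralClosure.isIntegrallyClosedOfFiniteExtension KR
  haveI : IsScalarTower R NR LB := inferInstance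
  have hmemC : ∀ b : B, algebraMap B LB b ∈ CC := by
    intro b
    have h1 : IsIntegral R (algebraMap B LB b) :=
      (Algebra.IsIntegral.isIntegral (R := R) b).map (IsScalarTower.toAlgHom R B LB)
    exact h1.tower_top
  letI : Algebra B CC := ((algebraMap B LB).codRestrict (Subalgebra.toSubring CC) hmemC).toAlgebra
  have hBC : ∀ b : B, ((algebraMap B CC b : CC) : LB) = algebraMap B LB b := fun b => rfl
  haveI : IsScalarTower R NR CC := inferInstance
  haveI : IsScalarTower R B CC := IsScalarTower.of_algebraMap_eq fun r => by
    apply Subtype.ext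
    rw [hBC, ← IsScalarTower.algebraMap_apply R B LB]
    rfl
  -- integrality
  haveI : Algebra.IsIntegral R NR := inferInstance
  haveI : Algebra.IsIntegral NR CC := inferInstance
  haveI : Algebra.IsIntegral R CC := Algebra.IsIntegral.trans (R := R) (B := CC) NR
  haveI : Algebra.IsIntegral B CC := Algebra.IsIntegral.tower_top (R := R) (S := B) (T := CC)
  have hinjBC : Function.Injective (algebraMap B CC) := by
    intro b b' h
    apply IsFractionRing.injective B LB
    rw [← hBC, ← hBC, h]
  have hinjNC : Function.Injective (algebraMap NR CC) := by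
    intro a a' h
    have h' := congrArg (fun c : CC => (c : LB)) h
    have h2 : algebraMap KR LB (a : KR) = algebraMap KR LB (a' : KR) := h'
    exact Subtype.ext ((algebraMap KR LB).injective h2)
  haveI : FaithfulSMul NR CC := (faithfulSMul_iff_algebraMap_injective NR CC).mpr hinjNC
  -- a prime of `CC` over `n`
  obtain ⟨Q', hQ'prime, hQ'n⟩ := Ideal.exists_ideal_over_prime_of_isIntegral_of_isDomain
    (S := CC) n (by
      rw [(RingHom.injective_iff_ker_eq_bot _).mp hinjBC]; exact bot_le)
  -- it lies over the maximal ideal of `NR`
  have hcomapR : ∀ I : Ideal CC, (I.comap (algebraMap NR CC)).comap (algebraMap R NR) =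
      (I.comap (algebraMap B CC)).comap (algebraMap R B) := by
    intro I
    rw [Ideal.comap_comap, Ideal.comap_comap, ← IsScalarTower.algebraMap_eq,
      ← IsScalarTower.algebraMap_eq]
  haveI hmax : (Q'.comap (algebraMap NR CC)).IsMaximal := by
    haveI : (Q'.comap (algebraMap NR CC)).IsPrime := Ideal.comap_isPrime _ _
    apply Ideal.isMaximal_of_isIntegral_of_isMaximal_comap (R := R)
    rw [hcomapR, hQ'n]
    exact hn
  have hQ'm : Q'.comap (algebraMap NR CC) = IsLocalRing.maximalIdeal NR :=
    IsLocalRing.eq_maximalIdeal hmax
  -- a prime of `NR` over `p`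
  have hinjRN : Function.Injective (algebraMap R NR) := by
    intro r r' h
    have h' := congrArg (fun c : NR => (c : KR)) h
    exact IsFractionRing.injective R KR h'
  obtain ⟨p', hp'prime, hp'p⟩ := Ideal.exists_ideal_over_prime_of_isIntegral_of_isDomain
    (S := NR) p (by
      rw [(RingHom.injective_iff_ker_eq_bot _).mp hinjRN]; exact bot_le)
  have hp'le : p' ≤ IsLocalRing.maximalIdeal NR := IsLocalRing.le_maximalIdeal hp'prime.ne_top
  -- going down
  haveI : Q'.LiesOver (IsLocalRing.maximalIdeal NR) := ⟨hQ'm.symm⟩
  obtain ⟨P', hP'le, hP'prime, hP'over⟩ :=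
    Ideal.exists_ideal_le_liesOver_of_le (R := NR) (S := CC) (p := p')
      (q := IsLocalRing.maximalIdeal NR) Q' hp'le
  refine ⟨P'.comap (algebraMap B CC), Ideal.comap_isPrime _ _, ?_, ?_⟩
  · rw [← hQ'n]
    exact Ideal.comap_mono hP'le
  · rw [← hcomapR, ← hp'p]
    congr 1
    exact hP'over.over.symm

end Groth.Agent.Lib.Helper86.UnibranchGD
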