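import Groth.Agent.Lib.Helper10.WEMax

/-!
# Separable elements under base change of fields: basic lemmas (helper86)
-/

set_option autoImplicit false
set_option linter.style.haveILetI false

universe u

namespace Groth.Agent.Lib.Helper86.WEBC

open Polynomial Groth.Agent.Lib.Helper10.WE
open scoped TensorProduct

section LCoeff

variable {K L : Type*} [Field K] [Field L] [Algebra K L]

/-- apply a `K`-linear functional to the coefficients of a polynomial over `L` -/
noncomputable def lcoeff (ℓ : L →ₗ[K] K) (P : L[X]) : K[X] :=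
  ∑ n ∈ Finset.range (P.natDegree + 1), Polynomial.monomial n (ℓ (P.coeff n))

theorem coeff_lcoeff (ℓ : L →ₗ[K] K) (P : L[X]) (n : ℕ) :
    (lcoeff ℓ P).coeff n = ℓ (P.coeff n) := by
  unfold lcoeff
  rw [Polynomial.finsetSum_coeff]
  simp only [Polynomial.coeff_monomial]
  rw [Finset.sum_ite_eq']
  split_ifs with h
  · rfl
  · have : P.coeff n = 0 := Polynomial.coeff_eq_zero_of_natDegree_lt (by
      simpa [Finset.mem_range] using h)
    rw [this, map_zero]

theorem lcoeff_map_mul (ℓ : L →ₗ[K] K) (m : K[X]) (Q : L[X]) :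
    lcoeff ℓ (m.map (algebraMap K L) * Q) = m * lcoeff ℓ Q := by
  ext n
  rw [coeff_lcoeff, Polynomial.coeff_mul, Polynomial.coeff_mul, map_sum]
  refine Finset.sum_congr rfl fun x _ => ?_
  rw [Polynomial.coeff_map, coeff_lcoeff, ← Algebra.smul_def, map_smul, smul_eq_mul]

theorem lcoeff_add (ℓ : L →ₗ[K] K) (P Q : L[X]) :
    lcoeff ℓ (P + Q) = lcoeff ℓ P + lcoeff ℓ Q := by
  ext n
  rw [Polynomial.coeff_add, coeff_lcoeff, coeff_lcoeff, coeff_lcoeff, Polynomial.coeff_add, map_add]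

theorem natDegree_lcoeff_le (ℓ : L →ₗ[K] K) (P : L[X]) :
    (lcoeff ℓ P).natDegree ≤ P.natDegree := by
  rw [Polynomial.natDegree_le_iff_coeff_eq_zero]
  intro n hn
  rw [coeff_lcoeff, Polynomial.coeff_eq_zero_of_natDegree_lt hn, map_zero]

theorem eq_zero_of_forall_lcoeff (P : L[X]) (h : ∀ ℓ : L →ₗ[K] K, lcoeff ℓ P = 0) : P = 0 := by
  ext n
  rw [Polynomial.coeff_zero]
  apply (Module.Basis.ofVectorSpace K L).ext_elem
  intro j
  have := congrArg (fun Q => Polynomial.coeff Q n) (h ((Module.Basis.ofVectorSpace K L).coord j))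
  simp only [coeff_lcoeff, Polynomial.coeff_zero] at this
  rw [map_zero, Finsupp.zero_apply]
  exact this

theorem aeval_lcoeff {C : Type*} [CommRing C] [Algebra K C] (ℓ : L →ₗ[K] K) (P : L[X]) (c : C) :
    (TensorProduct.lid K C) ((LinearMap.rTensor C ℓ)
      (Polynomial.aeval ((1 : L) ⊗ₜ[K] c) P)) = Polynomial.aeval c (lcoeff ℓ P) := by
  rw [Polynomial.aeval_eq_sum_range,
    Polynomial.aeval_eq_sum_range' (Nat.lt_succ_of_le (natDegree_lcoeff_le ℓ P)), map_sum, map_sum]
  refine Finset.sum_congr rfl fun i _ => ?_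
  rw [Algebra.TensorProduct.tmul_pow, one_pow, TensorProduct.smul_tmul', smul_eq_mul, mul_one,
    LinearMap.rTensor_tmul, TensorProduct.lid_tmul, coeff_lcoeff]

end LCoeff

section Descent

variable {K L : Type u} [Field K] [Field L] [Algebra K L] {C : Type u} [CommRing C] [Algebra K C]

/-- abstract descent of separability: `ι : C → C'` a ring map from a `K`-algebra to an `L`-algebra with
additive "retractions" `r ℓ` attached to `K`-linear functionals `ℓ : L → K`. -/
theorem isSepElem_descent {C' : Type u} [CommRing C'] [Algebra L C'] (ι : C →+* C')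
    (r : (L →ₗ[K] K) → (C' →+ C)) (hr : ∀ (ℓ : L →ₗ[K] K) (a : L) (c : C), r ℓ (a • ι c) = ℓ a • c)
    (c : C) (h : IsSepElem L (ι c)) : IsSepElem K c := by
  obtain ⟨P, hPm, hPs, hP⟩ := h
  have hℓ : ∀ ℓ : L →ₗ[K] K, Polynomial.aeval c (lcoeff ℓ P) = 0 := by
    intro ℓ
    have h1 : r ℓ (Polynomial.aeval (ι c) P) = Polynomial.aeval c (lcoeff ℓ P) := by
      rw [Polynomial.aeval_eq_sum_range,
        Polynomial.aeval_eq_sum_range' (Nat.lt_succ_of_le (natDegree_lcoeff_le ℓ P)), map_sum]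
      refine Finset.sum_congr rfl fun i _ => ?_
      rw [← map_pow, hr, coeff_lcoeff]
    rw [← h1, hP, map_zero]
  -- the annihilator of `c`
  obtain ⟨m, hm⟩ := IsPrincipalIdealRing.principal (RingHom.ker (Polynomial.aeval (R := K) c).toRingHom)
  have hmem : ∀ Q : K[X], Polynomial.aeval c Q = 0 ↔ m ∣ Q := by
    intro Q
    rw [← Ideal.mem_span_singleton, ← Ideal.submodule_span_eq, ← hm]
    rfl
  have hm0 : m ≠ 0 := by
    rintro rfl
    have h0 : ∀ ℓ : L →ₗ[K] K, lcoeff ℓ P = 0 := fun ℓ => by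
      have := (hmem _).mp (hℓ ℓ)
      exact zero_dvd_iff.mp this
    exact hPm.ne_zero (eq_zero_of_forall_lcoeff P h0)
  -- normalise `m`
  have hlc : m.leadingCoeff ≠ 0 := Polynomial.leadingCoeff_ne_zero.mpr hm0
  set m₁ : K[X] := Polynomial.C (m.leadingCoeff)⁻¹ * m with hm₁
  have hm₁monic : m₁.Monic := Polynomial.monic_C_mul_of_mul_leadingCoeff_eq_one
    (inv_mul_cancel₀ hlc)
  have hm₁dvd : ∀ Q : K[X], m ∣ Q ↔ m₁ ∣ Q := by
    intro Q
    have hu : IsUnit (Polynomial.C (m.leadingCoeff)⁻¹ : K[X]) :=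
      Polynomial.isUnit_C.mpr (IsUnit.mk0 _ (inv_ne_zero hlc))
    rw [hm₁]
    exact (hu.mul_left_dvd).symm
  -- divide `P` by `m₁`
  have hm₁L : (m₁.map (algebraMap K L)).Monic := hm₁monic.map _
  have hdiv := Polynomial.modByMonic_add_div P (m₁.map (algebraMap K L))
  have hrem : P %ₘ (m₁.map (algebraMap K L)) = 0 := by
    apply eq_zero_of_forall_lcoeff (K := K)
    intro ℓ
    have h1 : lcoeff ℓ P = lcoeff ℓ (P %ₘ (m₁.map (algebraMap K L))) +
        m₁ * lcoeff ℓ (P /ₘ (m₁.map (algebraMap K L))) := by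
      conv_lhs => rw [← hdiv]
      rw [lcoeff_add, lcoeff_map_mul]
    have h2 : m₁ ∣ lcoeff ℓ P := (hm₁dvd _).mp ((hmem _).mp (hℓ ℓ))
    have h3 : m₁ ∣ lcoeff ℓ (P %ₘ (m₁.map (algebraMap K L))) := by
      rw [h1] at h2
      exact (dvd_add_left (dvd_mul_right _ _)).mp h2
    by_contra hne
    have h4 := Polynomial.natDegree_le_of_dvd h3 hne
    have h5 := natDegree_lcoeff_le ℓ (P %ₘ (m₁.map (algebraMap K L)))
    have h6 : (P %ₘ (m₁.map (algebraMap K L))).natDegree <
        (m₁.map (algebraMap K L)).natDegree := by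
      apply Polynomial.natDegree_modByMonic_lt P hm₁L
      intro h1'
      rw [h1', Polynomial.modByMonic_one] at hne
      apply hne
      ext n
      rw [coeff_lcoeff, Polynomial.coeff_zero, map_zero, Polynomial.coeff_zero]
    rw [hm₁monic.natDegree_map] at h6
    omega
  have hdvdL : m₁.map (algebraMap K L) ∣ P := by
    rw [← hdiv, hrem, zero_add]
    exact dvd_mul_right _ _
  refine ⟨m₁, hm₁monic, ?_, ?_⟩
  · exact (Polynomial.separable_map (algebraMap K L)).mp (hPs.of_dvd hdvdL)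
  · exact (hmem m₁).mpr ((hm₁dvd m₁).mpr dvd_rfl)


/-- descent of separability of an element along a field extension -/
theorem isSepElem_of_tmul (c : C) (h : IsSepElem L ((1 : L) ⊗ₜ[K] c)) : IsSepElem K c := by
  refine isSepElem_descent (K := K) (L := L) (C' := L ⊗[K] C)
    (Algebra.TensorProduct.includeRight : C →ₐ[K] L ⊗[K] C).toRingHom
    (fun ℓ => ((TensorProduct.lid K C).toLinearMap ∘ₗ (LinearMap.rTensor C ℓ)).toAddMonoidHom)
    ?_ c h
  intro ℓ a c
  show (TensorProduct.lid K C) ((LinearMap.rTensor C ℓ) (a • ((1 : L) ⊗ₜ[K] c))) = ℓ a • c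
  rw [TensorProduct.smul_tmul', smul_eq_mul, mul_one, LinearMap.rTensor_tmul, TensorProduct.lid_tmul]

end Descent

end Groth.Agent.Lib.Helper86.WEBC
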