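import Groth.Agent.Lib.Helper86.WEBC1
import Mathlib.FieldTheory.IsAlgClosed.AlgebraicClosure
import Mathlib.Algebra.CharP.Reduced
import Mathlib.RingTheory.Polynomial.Basic

/-!
# Separable elements are polynomials in their `p^n`-th powers (helper86)
-/

set_option autoImplicit false
set_option linter.style.haveILetI false

universe u

namespace Groth.Agent.Lib.Helper86.WEBC

open Polynomial Groth.Agent.Lib.Helper10.WE
open scoped TensorProduct

section PPower

variable {L : Type u} [Field L] (p : ℕ) [ExpChar L p] (n : ℕ)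

/-- root counting: a monic separable polynomial of degree `d` cannot divide `g(X^(p^n))` for a non-zero
polynomial `g` of degree `< d`. -/
theorem eq_zero_of_dvd_expand {P g : L[X]} (hPs : P.Separable)
    (hdeg : g.natDegree < P.natDegree) (hdvd : P ∣ Polynomial.expand L (p ^ n) g) : g = 0 := by
  classical
  by_contra hg
  let Ω := AlgebraicClosure L
  haveI : ExpChar Ω p := expChar_of_injective_algebraMap (algebraMap L Ω).injective p
  have hP' : (P.map (algebraMap L Ω)).Separable := hPs.map
  have hnd : (P.map (algebraMap L Ω)).roots.Nodup := Polynomial.nodup_roots hP'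
  have hcard : (P.map (algebraMap L Ω)).roots.card = P.natDegree := by
    rw [← (IsAlgClosed.splits (P.map (algebraMap L Ω))).natDegree_eq_card_roots,
      Polynomial.natDegree_map]
  have hg' : g.map (algebraMap L Ω) ≠ 0 := by
    rwa [Ne, Polynomial.map_eq_zero]
  have hsub : ((P.map (algebraMap L Ω)).roots.toFinset.image (fun x : Ω => x ^ (p ^ n))) ⊆
      (g.map (algebraMap L Ω)).roots.toFinset := by
    intro y hy
    rw [Finset.mem_image] at hy
    obtain ⟨x, hx, rfl⟩ := hy
    rw [Multiset.mem_toFinset] at hx ⊢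
    rw [Polynomial.mem_roots hg', Polynomial.IsRoot.def, ← Polynomial.expand_eval,
      ← Polynomial.map_expand]
    have hx' := (Polynomial.mem_roots'.mp hx).2
    exact Polynomial.eval_eq_zero_of_dvd_of_eval_eq_zero (Polynomial.map_dvd _ hdvd) hx'
  have hinj : Function.Injective (fun x : Ω => x ^ (p ^ n)) := iterateFrobenius_inj Ω p n
  have h1 := Finset.card_le_card hsub
  rw [Finset.card_image_of_injective _ hinj, Multiset.toFinset_card_of_nodup hnd, hcard] at h1
  have h2 := (Multiset.toFinset_card_le _).trans (Polynomial.card_roots' (g.map (algebraMap L Ω)))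
  rw [Polynomial.natDegree_map] at h2
  omega

/-- a separable element is a polynomial in its `p^n`-th power -/
theorem exists_aeval_pow_eq {C : Type u} [CommRing C] [Algebra L C] (z : C)
    (h : IsSepElem L z) : ∃ g : L[X], Polynomial.aeval (z ^ (p ^ n)) g = z := by
  obtain ⟨P, hPm, hPs, hP⟩ := h
  obtain ⟨d, hd⟩ : ∃ d, d = P.natDegree := ⟨_, rfl⟩
  have hmem : ∀ f : L[X], f %ₘ P ∈ Polynomial.degreeLT L d := by
    intro f
    rw [Polynomial.mem_degreeLT, hd, ← Polynomial.degree_eq_natDegree hPm.ne_zero]
    exact Polynomial.degree_modByMonic_lt f hPm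
  let T₀ : Polynomial.degreeLT L d →ₗ[L] L[X] :=
    (Polynomial.modByMonicHom P) ∘ₗ (Polynomial.expand L (p ^ n)).toLinearMap ∘ₗ
      (Polynomial.degreeLT L d).subtype
  let T : Polynomial.degreeLT L d →ₗ[L] Polynomial.degreeLT L d :=
    LinearMap.codRestrict _ T₀ (fun g => hmem _)
  have hT : ∀ g, (T g : L[X]) = (Polynomial.expand L (p ^ n) (g : L[X])) %ₘ P := fun g => rfl
  haveI : Module.Finite L (Polynomial.degreeLT L d) :=
    Module.Finite.equiv (Polynomial.degreeLTEquiv L d).symm
  have hinj : Function.Injective T := by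
    rw [← LinearMap.ker_eq_bot, LinearMap.ker_eq_bot']
    intro g hg
    have h1 : (Polynomial.expand L (p ^ n) (g : L[X])) %ₘ P = 0 := by
      rw [← hT, hg]; rfl
    rw [Polynomial.modByMonic_eq_zero_iff_dvd hPm] at h1
    have hgd : (g : L[X]).degree < d := Polynomial.mem_degreeLT.mp g.2
    by_cases hg0 : (g : L[X]) = 0
    · exact Subtype.ext hg0
    · have h2 : (g : L[X]).natDegree < P.natDegree := by
        rw [← hd]
        exact (Polynomial.natDegree_lt_iff_degree_lt hg0).mpr hgd
      exact absurd (eq_zero_of_dvd_expand p n hPs h2 h1) hg0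
  have hsurj : Function.Surjective T := LinearMap.injective_iff_surjective.mp hinj
  obtain ⟨g, hg⟩ := hsurj ⟨X %ₘ P, hmem X⟩
  refine ⟨(g : L[X]), ?_⟩
  have h3 := congrArg (fun f : Polynomial.degreeLT L d => Polynomial.aeval z (f : L[X])) hg
  simp only [hT] at h3
  rw [Polynomial.aeval_modByMonic_eq_self_of_root hP,
    Polynomial.aeval_modByMonic_eq_self_of_root hP, Polynomial.expand_aeval,
    Polynomial.aeval_X] at h3
  exact h3

end PPower

end Groth.Agent.Lib.Helper86.WEBC
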