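import Groth.Agent.Lib.Helper86.WEBC2
import Mathlib.LinearAlgebra.TensorProduct.RightExactness
import Mathlib.RingTheory.Flat.Basic

/-!
# The span of the separable elements under base change: formal part (helper86)
-/

set_option autoImplicit false
set_option linter.style.haveILetI false

universe u

namespace Groth.Agent.Lib.Helper86.WEBC

open Polynomial Groth.Agent.Lib.Helper10.WE
open scoped TensorProduct

section Semilinear

/-- compatible ring maps preserve polynomial relations -/
theorem aeval_map_of_comp {R₁ R₂ C₁ C₂ : Type*} [CommRing R₁] [CommRing R₂] [CommRing C₁]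
    [CommRing C₂] [Algebra R₁ C₁] [Algebra R₂ C₂] (j : R₁ →+* R₂) (φ : C₁ →+* C₂)
    (h : φ.comp (algebraMap R₁ C₁) = (algebraMap R₂ C₂).comp j) (z : C₁) (P : R₁[X]) :
    Polynomial.aeval (φ z) (P.map j) = φ (Polynomial.aeval z P) := by
  rw [Polynomial.aeval_def, Polynomial.aeval_def, Polynomial.eval₂_map, Polynomial.hom_eval₂, h]

theorem isSepElem_map_semilinear {L M : Type u} [Field L] [Field M] {C C' : Type u} [CommRing C]
    [CommRing C'] [Algebra L C] [Algebra M C'] (j : L →+* M) (φ : C →+* C')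
    (h : φ.comp (algebraMap L C) = (algebraMap M C').comp j) {z : C} (hz : IsSepElem L z) :
    IsSepElem M (φ z) := by
  obtain ⟨P, hPm, hPs, hP⟩ := hz
  exact ⟨P.map j, hPm.map j, hPs.map, by rw [aeval_map_of_comp j φ h, hP, map_zero]⟩

end Semilinear

section Good

variable (K L : Type u) [Field K] [Field L] [Algebra K L] (A : Type u) [CommRing A] [Algebra K A]

/-- the quotient vector space `A / A_s` -/
abbrev QuotS : Type u := A ⧸ (Subalgebra.toSubmodule (EtAlgD.maxWeaklyEtale K A))

/-- quotient projection -/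
noncomputable abbrev quotMap : A →ₗ[K] QuotS K A :=
  Submodule.mkQ (Subalgebra.toSubmodule (EtAlgD.maxWeaklyEtale K A))

/-- every separable element of `L ⊗ A` dies in `L ⊗ (A / A_s)` -/
def Good : Prop :=
  ∀ z : L ⊗[K] A, IsSepElem L z → LinearMap.lTensor L (quotMap K A) z = 0

/-- the image of `L ⊗ A_s` -/
noncomputable def sepSub : Subalgebra L (L ⊗[K] A) :=
  (Algebra.TensorProduct.map (AlgHom.id L L) (EtAlgD.maxWeaklyEtale K A).val).range

theorem mem_sepSub_iff (z : L ⊗[K] A) :
    z ∈ sepSub K L A ↔ LinearMap.lTensor L (quotMap K A) z = 0 := by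
  have hex := lTensor_exact L
    (LinearMap.exact_subtype_mkQ (Subalgebra.toSubmodule (EtAlgD.maxWeaklyEtale K A)))
    (Submodule.mkQ_surjective _)
  rw [hex z]
  have hpt : ∀ t : L ⊗[K] ↥(EtAlgD.maxWeaklyEtale K A),
      LinearMap.lTensor L (Submodule.subtype (Subalgebra.toSubmodule (EtAlgD.maxWeaklyEtale K A))) t
        = Algebra.TensorProduct.map (AlgHom.id L L) (EtAlgD.maxWeaklyEtale K A).val t := by
    intro t
    induction t using TensorProduct.induction_on with
    | zero => rw [map_zero, map_zero]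
    | tmul l a => rw [LinearMap.lTensor_tmul, Algebra.TensorProduct.map_tmul]; rfl
    | add x y hx hy => rw [map_add, map_add, hx, hy]
  constructor
  · rintro ⟨t, rfl⟩
    exact ⟨t, hpt t⟩
  · rintro ⟨t, rfl⟩
    exact ⟨t, (hpt t).symm⟩

theorem one_tmul_mem_sepSub {a : A} (ha : a ∈ EtAlgD.maxWeaklyEtale K A) :
    (1 : L) ⊗ₜ[K] a ∈ sepSub K L A :=
  ⟨(1 : L) ⊗ₜ[K] ⟨a, ha⟩, by
    show Algebra.TensorProduct.map (AlgHom.id L L) (EtAlgD.maxWeaklyEtale K A).val _ = _
    rw [Algebra.TensorProduct.map_tmul]; rfl⟩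

variable {K L A}

theorem map_eq_rTensor {E E' : Type*} [CommRing E] [CommRing E'] [Algebra K E] [Algebra K E']
    (j : E →ₐ[K] E') (y : E ⊗[K] A) :
    Algebra.TensorProduct.map j (AlgHom.id K A) y = LinearMap.rTensor A j.toLinearMap y := by
  induction y using TensorProduct.induction_on with
  | zero => rw [map_zero, map_zero]
  | tmul l a => rw [Algebra.TensorProduct.map_tmul, LinearMap.rTensor_tmul]; rfl
  | add x y hx hy => rw [map_add, map_add, hx, hy]

/-- the quotient map commutes with change of the field -/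
theorem lTensor_quotMap_map {E E' : Type*} [CommRing E] [CommRing E'] [Algebra K E] [Algebra K E']
    (j : E →ₐ[K] E') (z : E ⊗[K] A) :
    LinearMap.lTensor E' (quotMap K A) (Algebra.TensorProduct.map j (AlgHom.id K A) z) =
      LinearMap.rTensor (QuotS K A) j.toLinearMap (LinearMap.lTensor E (quotMap K A) z) := by
  rw [map_eq_rTensor, ← LinearMap.comp_apply, ← LinearMap.comp_apply, LinearMap.lTensor_comp_rTensor,
    LinearMap.rTensor_comp_lTensor]

/-- membership in `sepSub` is preserved by change of the field -/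
theorem map_mem_sepSub {M : Type u} [Field M] [Algebra K M] (j : L →ₐ[K] M) {z : L ⊗[K] A}
    (hz : z ∈ sepSub K L A) :
    Algebra.TensorProduct.map j (AlgHom.id K A) z ∈ sepSub K M A := by
  rw [mem_sepSub_iff] at hz ⊢
  rw [lTensor_quotMap_map, hz, map_zero]

/-- descent of `Good` to a subfield -/
theorem good_of_algHom {M : Type u} [Field M] [Algebra K M] (j : L →ₐ[K] M) (h : Good K M A) :
    Good K L A := by
  intro z hz
  obtain ⟨φ, hφdef⟩ : ∃ φ : L ⊗[K] A →ₐ[K] M ⊗[K] A,
      φ = Algebra.TensorProduct.map j (AlgHom.id K A) := ⟨_, rfl⟩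
  have hφ : IsSepElem M (φ z) := by
    refine isSepElem_map_semilinear (j : L →+* M) (φ : L ⊗[K] A →+* M ⊗[K] A) ?_ hz
    ext l
    simp only [RingHom.comp_apply, Algebra.TensorProduct.algebraMap_apply, hφdef]
    simp
  have h0 := h (φ z) hφ
  have hφ' : ∀ y, φ y = LinearMap.rTensor A j.toLinearMap y := by
    intro y
    induction y using TensorProduct.induction_on with
    | zero => rw [map_zero, map_zero]
    | tmul l a => rw [hφdef, Algebra.TensorProduct.map_tmul, LinearMap.rTensor_tmul]; rfl
    | add x y hx hy => rw [map_add, map_add, hx, hy]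
  have hcomm : LinearMap.lTensor M (quotMap K A) (LinearMap.rTensor A j.toLinearMap z) =
      LinearMap.rTensor (QuotS K A) j.toLinearMap (LinearMap.lTensor L (quotMap K A) z) := by
    rw [← LinearMap.comp_apply, ← LinearMap.comp_apply, LinearMap.lTensor_comp_rTensor,
      LinearMap.rTensor_comp_lTensor]
  rw [hφ', hcomm] at h0
  have hinj := Module.Flat.rTensor_preserves_injective_linearMap (M := QuotS K A)
    j.toLinearMap j.injective
  exact hinj (h0.trans (map_zero _).symm)

theorem isSepElem_one_tmul {a : A} (ha : IsSepElem K a) : IsSepElem L ((1 : L) ⊗ₜ[K] a) := by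
  refine isSepElem_map_semilinear (algebraMap K L)
    ((Algebra.TensorProduct.includeRight : A →ₐ[K] L ⊗[K] A) : A →+* L ⊗[K] A) ?_ ha
  ext k
  simp only [RingHom.comp_apply, Algebra.TensorProduct.algebraMap_apply]
  simp [Algebra.algebraMap_eq_smul_one, TensorProduct.smul_tmul]

/-- the final statement follows from `Good` -/
theorem eq_adjoin_of_good (h : Good K L A) :
    EtAlgD.maxWeaklyEtale L (L ⊗[K] A) =
      Algebra.adjoin L ((Algebra.TensorProduct.includeRight : A →ₐ[K] L ⊗[K] A) ''
        (EtAlgD.maxWeaklyEtale K A : Set A)) := by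
  have hle : ∀ t : L ⊗[K] ↥(EtAlgD.maxWeaklyEtale K A),
      Algebra.TensorProduct.map (AlgHom.id L L) (EtAlgD.maxWeaklyEtale K A).val t ∈
      Algebra.adjoin L ((Algebra.TensorProduct.includeRight : A →ₐ[K] L ⊗[K] A) ''
        (EtAlgD.maxWeaklyEtale K A : Set A)) := by
    intro t
    induction t using TensorProduct.induction_on with
    | zero => rw [map_zero]; exact Subalgebra.zero_mem _
    | tmul l a =>
      have : Algebra.TensorProduct.map (AlgHom.id L L) (EtAlgD.maxWeaklyEtale K A).val
          (l ⊗ₜ[K] a) = l • ((1 : L) ⊗ₜ[K] (a : A)) := by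
        rw [Algebra.TensorProduct.map_tmul, TensorProduct.smul_tmul', smul_eq_mul, mul_one]
        rfl
      rw [this]
      refine Subalgebra.smul_mem _ (Algebra.subset_adjoin ?_) l
      exact ⟨a, a.2, rfl⟩
    | add x y hx hy => rw [map_add]; exact Subalgebra.add_mem _ hx hy
  apply le_antisymm
  · intro z hz
    have hz' : IsSepElem L z := (mem_maxWeaklyEtale_iff L z).mp hz
    have h1 : z ∈ sepSub K L A := (mem_sepSub_iff K L A z).mpr (h z hz')
    obtain ⟨t, rfl⟩ := h1
    exact hle t
  · rw [Algebra.adjoin_le_iff]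
    rintro _ ⟨a, ha, rfl⟩
    rw [SetLike.mem_coe, mem_maxWeaklyEtale_iff]
    exact isSepElem_one_tmul ((mem_maxWeaklyEtale_iff K a).mp ha)

end Good

end Groth.Agent.Lib.Helper86.WEBC
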