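import Groth.Agent.Lib.Helper86.WEBC3
import Groth.Agent.Lib.Helper86.GaloisDescentTensor

/-!
# The span of the separable elements under base change: finite Galois extensions (helper86)
-/

set_option autoImplicit false
set_option linter.style.haveILetI false

universe u

namespace Groth.Agent.Lib.Helper86.WEBC

open Polynomial Groth.Agent.Lib.Helper10.WE Groth.Agent.Lib.Helper86.GaloisDescent
open scoped TensorProduct

section Galois

variable (K M : Type u) [Field K] [Field M] [Algebra K M] (A : Type u) [CommRing A] [Algebra K A]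

theorem smul_eq_map (σ : M ≃ₐ[K] M) (x : M ⊗[K] A) :
    σ • x = Algebra.TensorProduct.map (σ : M →ₐ[K] M) (AlgHom.id K A) x := by
  induction x using TensorProduct.induction_on with
  | zero => rw [smul_zero, map_zero]
  | tmul m a => rw [TensorProduct.smul_tmul', Algebra.TensorProduct.map_tmul]; rfl
  | add x y hx hy => rw [smul_add, map_add, hx, hy]

theorem isSepElem_smul (σ : M ≃ₐ[K] M) {x : M ⊗[K] A} (hx : IsSepElem M x) :
    IsSepElem M (σ • x) := by
  rw [smul_eq_map]
  refine isSepElem_map_semilinear ((σ : M →ₐ[K] M) : M →+* M)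
    ((Algebra.TensorProduct.map (σ : M →ₐ[K] M) (AlgHom.id K A)) : M ⊗[K] A →+* M ⊗[K] A) ?_ hx
  ext m
  simp only [RingHom.comp_apply, Algebra.TensorProduct.algebraMap_apply]
  simp

/-- the semilinear Galois action on the space of separable elements -/
noncomputable def sepAction :
    SemiAction K M ↥(Subalgebra.toSubmodule (EtAlgD.maxWeaklyEtale M (M ⊗[K] A))) where
  ρ σ w := ⟨σ • w.1, (mem_maxWeaklyEtale_iff M _).mpr
    (isSepElem_smul K M A σ ((mem_maxWeaklyEtale_iff M _).mp w.2))⟩
  map_add σ x y := Subtype.ext (smul_add σ x.1 y.1)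
  map_smul σ c x := Subtype.ext (smul_distrib_smul σ c x.1)
  one x := Subtype.ext (one_smul _ x.1)
  mul σ τ x := Subtype.ext (mul_smul σ τ x.1)

variable [FiniteDimensional K M] [IsGalois K M]

theorem good_of_isGalois : Good K M A := by
  obtain ⟨l, hl⟩ := exists_retraction K M
  have key : ∀ t : M ⊗[K] ↥(sepAction K M A).fixed,
      (((sepAction K M A).fixed.subtype.liftBaseChange M t :
        ↥(Subalgebra.toSubmodule (EtAlgD.maxWeaklyEtale M (M ⊗[K] A)))) : M ⊗[K] A) ∈
        sepSub K M A := by
    intro t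
    induction t using TensorProduct.induction_on with
    | zero => rw [map_zero]; exact Subalgebra.zero_mem _
    | tmul m f =>
      rw [LinearMap.liftBaseChange_tmul]
      have hfix : ∀ σ : M ≃ₐ[K] M, σ • ((f : ↥(Subalgebra.toSubmodule
          (EtAlgD.maxWeaklyEtale M (M ⊗[K] A)))) : M ⊗[K] A) = (f : ↥(Subalgebra.toSubmodule
          (EtAlgD.maxWeaklyEtale M (M ⊗[K] A)))) := by
        intro σ
        exact congrArg Subtype.val (f.2 σ)
      have h1 := eq_one_tmul_of_fixed l hl _ hfix
      have h2 : IsSepElem M ((f : ↥(Subalgebra.toSubmodule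
          (EtAlgD.maxWeaklyEtale M (M ⊗[K] A)))) : M ⊗[K] A) :=
        (mem_maxWeaklyEtale_iff M _).mp (f : ↥(Subalgebra.toSubmodule
          (EtAlgD.maxWeaklyEtale M (M ⊗[K] A)))).2
      rw [h1] at h2
      have h3 := (mem_maxWeaklyEtale_iff K _).mpr (isSepElem_of_tmul _ h2)
      have h4 := one_tmul_mem_sepSub K M A h3
      rw [← h1] at h4
      exact Subalgebra.smul_mem _ h4 m
    | add x y hx hy => rw [map_add]; exact Subalgebra.add_mem _ hx hy
  intro z hz
  rw [← mem_sepSub_iff]
  obtain ⟨t, ht⟩ := (sepAction K M A).surjective_liftBaseChange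
    ⟨z, (mem_maxWeaklyEtale_iff M z).mpr hz⟩
  have := key t
  rw [ht] at this
  exact this

end Galois

end Groth.Agent.Lib.Helper86.WEBC
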