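import Groth.Agent.Lib.Helper86.WEBC4
import Mathlib.FieldTheory.PurelyInseparable.Basic

/-!
# The span of the separable elements under base change: purely inseparable extensions (helper86)
-/

set_option autoImplicit false
set_option linter.style.haveILetI false

universe u

namespace Groth.Agent.Lib.Helper86.WEBC

open Polynomial Groth.Agent.Lib.Helper10.WE
open scoped TensorProduct

section PI

variable (K M₁ M : Type u) [Field K] [Field M₁] [Field M] [Algebra K M₁] [Algebra M₁ M]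
  [Algebra K M] [IsScalarTower K M₁ M] (A : Type u) [CommRing A] [Algebra K A]

/-- the natural map `M₁ ⊗ A → M ⊗ A` -/
noncomputable abbrev towerMap : M₁ ⊗[K] A →ₐ[K] M ⊗[K] A :=
  Algebra.TensorProduct.map (IsScalarTower.toAlgHom K M₁ M) (AlgHom.id K A)

theorem isSepElem_of_towerMap (w : M₁ ⊗[K] A) (h : IsSepElem M (towerMap K M₁ M A w)) :
    IsSepElem M₁ w := by
  refine isSepElem_descent (K := M₁) (L := M) (C := M₁ ⊗[K] A) (C' := M ⊗[K] A)
    (towerMap K M₁ M A).toRingHom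
    (fun ℓ => (LinearMap.rTensor A (ℓ.restrictScalars K)).toAddMonoidHom) ?_ w h
  intro ℓ a c
  show (LinearMap.rTensor A (ℓ.restrictScalars K)) (a • towerMap K M₁ M A c) = ℓ a • c
  induction c using TensorProduct.induction_on with
  | zero => rw [map_zero, smul_zero, map_zero, smul_zero]
  | tmul μ x =>
    rw [Algebra.TensorProduct.map_tmul, TensorProduct.smul_tmul', LinearMap.rTensor_tmul,
      TensorProduct.smul_tmul']
    congr 1
    show ℓ (a • (algebraMap M₁ M μ)) = ℓ a • μ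
    rw [smul_eq_mul, mul_comm, ← Algebra.smul_def, map_smul, smul_eq_mul, smul_eq_mul, mul_comm]
  | add x y hx hy => rw [map_add, smul_add, map_add, hx, hy, smul_add]

variable [IsPurelyInseparable M₁ M]

theorem exists_pow_eq_towerMap (p : ℕ) [ExpChar M₁ p] [ExpChar (M ⊗[K] A) p] (z : M ⊗[K] A) :
    ∃ (n : ℕ) (w : M₁ ⊗[K] A), z ^ (p ^ n) = towerMap K M₁ M A w := by
  induction z using TensorProduct.induction_on with
  | zero => exact ⟨0, 0, by rw [map_zero, pow_zero, pow_one]⟩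
  | tmul m a =>
    obtain ⟨n, μ, hμ⟩ := IsPurelyInseparable.pow_mem M₁ p m
    refine ⟨n, μ ⊗ₜ[K] (a ^ (p ^ n)), ?_⟩
    rw [Algebra.TensorProduct.tmul_pow, Algebra.TensorProduct.map_tmul, ← hμ]
    rfl
  | add x y hx hy =>
    obtain ⟨n₁, w₁, h₁⟩ := hx
    obtain ⟨n₂, w₂, h₂⟩ := hy
    refine ⟨n₁ + n₂, w₁ ^ (p ^ n₂) + w₂ ^ (p ^ n₁), ?_⟩
    rw [add_pow_expChar_pow, map_add, map_pow, map_pow, ← h₁, ← h₂, ← pow_mul, ← pow_mul,
      ← pow_add, ← pow_add, add_comm n₂ n₁]

theorem good_of_isPurelyInseparable (h : Good K M₁ A) : Good K M A := by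
  intro z hz
  rcases subsingleton_or_nontrivial (M ⊗[K] A) with hsub | hnt
  · rw [Subsingleton.elim z 0, map_zero]
  obtain ⟨p, hp⟩ : ∃ p, p = ringExpChar M₁ := ⟨_, rfl⟩
  haveI : ExpChar M₁ p := hp ▸ ringExpChar.expChar M₁
  haveI : ExpChar M p := expChar_of_injective_algebraMap (algebraMap M₁ M).injective p
  haveI : ExpChar (M ⊗[K] A) p :=
    expChar_of_injective_algebraMap (algebraMap M (M ⊗[K] A)).injective p
  obtain ⟨n, w, hw⟩ := exists_pow_eq_towerMap K M₁ M A p z
  -- `z ^ (p ^ n)` is separable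
  have h1 : IsSepElem M (z ^ (p ^ n)) :=
    (mem_maxWeaklyEtale_iff M _).mp
      (Subalgebra.pow_mem _ ((mem_maxWeaklyEtale_iff M z).mpr hz) _)
  rw [hw] at h1
  have h2 : IsSepElem M₁ w := isSepElem_of_towerMap K M₁ M A w h1
  have h3 : w ∈ sepSub K M₁ A := (mem_sepSub_iff K M₁ A w).mpr (h w h2)
  have h4 : z ^ (p ^ n) ∈ sepSub K M A := by
    rw [hw]
    exact map_mem_sepSub (IsScalarTower.toAlgHom K M₁ M) h3
  obtain ⟨g, hg⟩ := exists_aeval_pow_eq p n z hz
  rw [← mem_sepSub_iff, ← hg]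
  have := Polynomial.aeval_subalgebra_coe g (sepSub K M A) ⟨z ^ (p ^ n), h4⟩
  rw [← this]
  exact Subtype.property _

end PI

end Groth.Agent.Lib.Helper86.WEBC
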