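import Groth.Agent.Lib.Helper86.WEBC5
import Mathlib.FieldTheory.Normal.Closure
import Mathlib.FieldTheory.SeparableClosure
import Mathlib.FieldTheory.IsAlgClosed.AlgebraicClosure
import Mathlib.RingTheory.Jacobson.Ring
import Mathlib.LinearAlgebra.TensorProduct.Basis
import Mathlib.Algebra.Polynomial.Lifts

/-!
# The span of the separable elements under base change: finite and arbitrary extensions (helper86)
-/

set_option autoImplicit false
set_option linter.style.haveILetI false

universe u

namespace Groth.Agent.Lib.Helper86.WEBC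

open Polynomial Groth.Agent.Lib.Helper10.WE
open scoped TensorProduct

section Finite

variable (K κ : Type u) [Field K] [Field κ] [Algebra K κ] [FiniteDimensional K κ]
  (A : Type u) [CommRing A] [Algebra K A]

theorem good_of_normal [Normal K κ] : Good K κ A := by
  haveI : IsGalois K ↥(separableClosure K κ) := separableClosure.isGalois K κ
  haveI : IsPurelyInseparable ↥(separableClosure K κ) κ := separableClosure.isPurelyInseparable K κ
  exact good_of_isPurelyInseparable K ↥(separableClosure K κ) κ A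
    (good_of_isGalois K ↥(separableClosure K κ) A)

theorem good_of_finite : Good K κ A := by
  obtain ⟨φ⟩ : Nonempty (κ →ₐ[K] AlgebraicClosure K) := ⟨IsAlgClosed.lift⟩
  haveI : Normal K (AlgebraicClosure K) := IsAlgClosure.normal K (AlgebraicClosure K)
  have h1 : Good K ↥(IntermediateField.normalClosure K κ (AlgebraicClosure K)) A :=
    good_of_normal K ↥(IntermediateField.normalClosure K κ (AlgebraicClosure K)) A
  exact good_of_algHom
    ((normalClosure.algHomEquiv K κ (AlgebraicClosure K)).symm φ) h1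

end Finite

section Coordinates

variable {K : Type u} [Field K] {Q : Type*} [AddCommGroup Q] [Module K Q]

theorem equivFinsupp_rTensor {ι : Type*} [DecidableEq ι] (b : Module.Basis ι K Q) {E E' : Type*} [AddCommGroup E]
    [AddCommGroup E'] [Module K E] [Module K E'] (f : E →ₗ[K] E') (w : E ⊗[K] Q) (i : ι) :
    (TensorProduct.equivFinsuppOfBasisRight b (LinearMap.rTensor Q f w)) i =
      f ((TensorProduct.equivFinsuppOfBasisRight b w) i) := by
  induction w using TensorProduct.induction_on with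
  | zero => simp
  | tmul e q =>
    rw [LinearMap.rTensor_tmul, TensorProduct.equivFinsuppOfBasisRight_apply_tmul_apply,
      TensorProduct.equivFinsuppOfBasisRight_apply_tmul_apply, map_smul]
  | add x y hx hy => simp only [map_add, Finsupp.add_apply, hx, hy]

/-- an element of `R ⊗ Q` vanishing modulo all maximal ideals of a Jacobson domain `R` is zero -/
theorem eq_zero_of_forall_maximal {R : Type*} [CommRing R] [Algebra K R] [IsJacobsonRing R]
    [IsDomain R] (w : R ⊗[K] Q)
    (h : ∀ 𝔪 : Ideal R, 𝔪.IsMaximal →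
      LinearMap.rTensor Q (Ideal.Quotient.mkₐ K 𝔪).toLinearMap w = 0) : w = 0 := by
  classical
  obtain ⟨b⟩ : Nonempty (Module.Basis (Module.Basis.ofVectorSpaceIndex K Q) K Q) :=
    ⟨Module.Basis.ofVectorSpace K Q⟩
  apply (TensorProduct.equivFinsuppOfBasisRight b).injective
  rw [map_zero]
  ext i
  rw [Finsupp.zero_apply]
  have hjac : (⊥ : Ideal R).jacobson = ⊥ :=
    IsJacobsonRing.out inferInstance (Ideal.isPrime_bot.isRadical)
  have hmem : (TensorProduct.equivFinsuppOfBasisRight b w) i ∈ (⊥ : Ideal R).jacobson := by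
    unfold Ideal.jacobson
    rw [Ideal.mem_sInf]
    rintro 𝔪 ⟨-, h𝔪⟩
    have h1 := equivFinsupp_rTensor b (Ideal.Quotient.mkₐ K 𝔪).toLinearMap w i
    rw [h 𝔪 h𝔪, map_zero, Finsupp.zero_apply] at h1
    exact Ideal.Quotient.eq_zero_iff_mem.mp h1.symm
  rw [hjac] at hmem
  exact hmem

end Coordinates

section Spread

variable {K L : Type u} [Field K] [Field L] [Algebra K L] {A : Type u} [CommRing A] [Algebra K A]

theorem exists_model (z : L ⊗[K] A) (hz : IsSepElem L z) :
    ∃ (R : Subalgebra K L), R.FG ∧ ∃ (zR : ↥R ⊗[K] A) (PR : (↥R)[X]),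
      PR.Monic ∧ PR.Separable ∧ Polynomial.aeval zR PR = 0 ∧
      Algebra.TensorProduct.map R.val (AlgHom.id K A) zR = z := by
  classical
  obtain ⟨P, hPm, hPs, hP⟩ := hz
  obtain ⟨u, v, huv⟩ := hPs
  obtain ⟨s, hs⟩ := TensorProduct.exists_finset z
  obtain ⟨T, hT⟩ : ∃ T : Finset L, T = s.image Prod.fst ∪ P.coeffs ∪ u.coeffs ∪ v.coeffs :=
    ⟨_, rfl⟩
  obtain ⟨R, hR⟩ : ∃ R : Subalgebra K L, R = Algebra.adjoin K (T : Set L) := ⟨_, rfl⟩
  have hTR : ∀ x ∈ T, x ∈ R := fun x hx => hR ▸ Algebra.subset_adjoin (Finset.mem_coe.mpr hx)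
  have hlift : ∀ p : L[X], p.coeffs ⊆ T → p ∈ Polynomial.lifts (algebraMap ↥R L) := by
    intro p hp
    rw [Polynomial.lifts_iff_coeffs_subset_range]
    intro c hc
    exact ⟨⟨c, hTR c (hp (Finset.mem_coe.mp hc))⟩, rfl⟩
  have hPT : P.coeffs ⊆ T := by
    rw [hT]; intro x hx; simp only [Finset.mem_union]; tauto
  have huT : u.coeffs ⊆ T := by
    rw [hT]; intro x hx; simp only [Finset.mem_union]; tauto
  have hvT : v.coeffs ⊆ T := by
    rw [hT]; intro x hx; simp only [Finset.mem_union]; tauto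
  obtain ⟨PR, hPR, -, hPRm⟩ := Polynomial.lifts_and_natDegree_eq_and_monic (hlift P hPT) hPm
  obtain ⟨uR, huR⟩ := (Polynomial.mem_lifts _).mp (hlift u huT)
  obtain ⟨vR, hvR⟩ := (Polynomial.mem_lifts _).mp (hlift v hvT)
  have hinjR : Function.Injective (algebraMap ↥R L) := Subtype.val_injective
  have hsep : PR.Separable := by
    refine ⟨uR, vR, ?_⟩
    apply Polynomial.map_injective _ hinjR
    rw [Polynomial.map_add, Polynomial.map_mul, Polynomial.map_mul, ← Polynomial.derivative_map,
      huR, hvR, hPR, Polynomial.map_one]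
    exact huv
  obtain ⟨g, hg⟩ : ∃ g : L → ↥R, ∀ l (h : l ∈ R), g l = ⟨l, h⟩ :=
    ⟨fun l => if h : l ∈ R then ⟨l, h⟩ else 0, fun l h => dif_pos h⟩
  obtain ⟨zR, hzRdef⟩ : ∃ zR : ↥R ⊗[K] A, zR = ∑ i ∈ s, g i.1 ⊗ₜ[K] i.2 := ⟨_, rfl⟩
  have hzR : Algebra.TensorProduct.map R.val (AlgHom.id K A) zR = z := by
    rw [hzRdef, hs, map_sum]
    refine Finset.sum_congr rfl fun i hi => ?_
    have hiT : i.1 ∈ T := by
      rw [hT]
      simp only [Finset.mem_union]
      exact Or.inl (Or.inl (Or.inl (Finset.mem_image_of_mem _ hi)))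
    rw [Algebra.TensorProduct.map_tmul, hg i.1 (hTR _ hiT)]
    rfl
  refine ⟨R, ?_, zR, PR, hPRm, hsep, ?_, hzR⟩
  · rw [hR]
    exact ⟨T, rfl⟩
  · have hinj : Function.Injective (Algebra.TensorProduct.map R.val (AlgHom.id K A)) := by
      have h1 := Module.Flat.rTensor_preserves_injective_linearMap (M := A)
        R.val.toLinearMap Subtype.val_injective
      intro x y hxy
      apply h1
      rw [← map_eq_rTensor, ← map_eq_rTensor]
      exact hxy
    apply hinj
    rw [map_zero]
    have h2 := aeval_map_of_comp (algebraMap ↥R L)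
      ((Algebra.TensorProduct.map R.val (AlgHom.id K A)) : ↥R ⊗[K] A →+* L ⊗[K] A)
      (by
        ext r
        simp only [RingHom.comp_apply, Algebra.TensorProduct.algebraMap_apply]
        simp) zR PR
    rw [hPR] at h2
    have h3 : ((Algebra.TensorProduct.map R.val (AlgHom.id K A)) : ↥R ⊗[K] A →+* L ⊗[K] A) zR
        = z := hzR
    rw [h3, hP] at h2
    exact h2.symm

theorem good_of_forall_finite
    (hfin : ∀ (κ : Type u) [Field κ] [Algebra K κ] [FiniteDimensional K κ], Good K κ A) :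
    Good K L A := by
  intro z hz
  obtain ⟨R, hRfg, zR, PR, hPRm, hPRs, hPR, hzR⟩ := exists_model z hz
  haveI : Algebra.FiniteType K ↥R := (Subalgebra.fg_iff_finiteType R).mp hRfg
  haveI : IsJacobsonRing ↥R := isJacobsonRing_of_finiteType (A := K) (B := ↥R)
  have hw : LinearMap.lTensor ↥R (quotMap K A) zR = 0 := by
    apply eq_zero_of_forall_maximal
    intro 𝔪 h𝔪
    haveI := h𝔪
    letI : Field (↥R ⧸ 𝔪) := Ideal.Quotient.field 𝔪
    haveI : Algebra.FiniteType K (↥R ⧸ 𝔪) :=
      Algebra.FiniteType.of_surjective (Ideal.Quotient.mkₐ K 𝔪) (Ideal.Quotient.mkₐ_surjective K 𝔪)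
    haveI : Module.Finite K (↥R ⧸ 𝔪) := finite_of_finite_type_of_isJacobsonRing K (↥R ⧸ 𝔪)
    have hgood := hfin (↥R ⧸ 𝔪)
    rw [← lTensor_quotMap_map]
    apply hgood
    refine ⟨PR.map (Ideal.Quotient.mk 𝔪), hPRm.map _, hPRs.map, ?_⟩
    have h2 := aeval_map_of_comp (Ideal.Quotient.mk 𝔪)
      ((Algebra.TensorProduct.map (Ideal.Quotient.mkₐ K 𝔪) (AlgHom.id K A)) :
        ↥R ⊗[K] A →+* (↥R ⧸ 𝔪) ⊗[K] A)
      (by
        ext r
        simp only [RingHom.comp_apply, Algebra.TensorProduct.algebraMap_apply]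
        simp) zR PR
    rw [hPR, map_zero] at h2
    exact h2
  rw [← hzR, lTensor_quotMap_map, hw, map_zero]

/-- the main result: every separable element of `L ⊗ A` lies in `L ⊗ A_s` -/
theorem good_all : Good K L A :=
  good_of_forall_finite fun κ _ _ _ => good_of_finite K κ A

end Spread

end Groth.Agent.Lib.Helper86.WEBC
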